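import Groth.Agent.SiteBase.Horseshoe
import Mathlib.CategoryTheory.Abelian.RightDerived

/-!
# Vanishing of right derived functors in a short exact sequence
-/

set_option autoImplicit false

universe v u v' u'

open CategoryTheory CategoryTheory.Limits

namespace Groth.Agent.FibDesc74

variable {A : Type u} [Category.{v} A] [Abelian A] [HasInjectiveResolutions A]
  {B : Type u'} [Category.{v'} B] [Abelian B] (G : A ⥤ B) [G.Additive]
  {S : ShortComplex A} (hS : S.ShortExact)

include hS

theorem isZero_rd_one [PreservesFiniteLimits G] (h₂ : IsZero ((G.rightDerived 1).obj S.X₂))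
    (hg : Epi (G.map S.g)) : IsZero ((G.rightDerived 1).obj S.X₁) := by
  let Δ := SESResLib.derivedLES G
  have : Epi ((G.rightDerived 0).map S.g) :=
    ((MorphismProperty.epimorphisms B).arrow_mk_iso_iff
      ((Functor.mapArrowFunctor _ _).mapIso G.rightDerivedZeroIsoSelf |>.app (Arrow.mk S.g))).2 hg
  have h0 : Δ.δ S hS 0 1 rfl = 0 := by
    rw [← cancel_epi ((G.rightDerived 0).map S.g), comp_zero]
    exact Δ.comp_δ S hS 0 1 rfl
  have h := Δ.exact₁ S hS 0 1 rfl
  exact h.isZero_of_both_zeros h0 (h₂.eq_of_tgt _ _)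

theorem isZero_rd_succ (q : ℕ) (h₂ : IsZero ((G.rightDerived (q + 2)).obj S.X₂))
    (h₃ : IsZero ((G.rightDerived (q + 1)).obj S.X₃)) : IsZero ((G.rightDerived (q + 2)).obj S.X₁) := by
  let Δ := SESResLib.derivedLES G
  exact (Δ.exact₁ S hS (q + 1) (q + 2) rfl).isZero_of_both_zeros (h₃.eq_of_src _ _) (h₂.eq_of_tgt _ _)

theorem isZero_rd_of_succ (q : ℕ) (h₁ : IsZero ((G.rightDerived (q + 2)).obj S.X₁))
    (h₂ : IsZero ((G.rightDerived (q + 1)).obj S.X₂)) : IsZero ((G.rightDerived (q + 1)).obj S.X₃) := by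
  let Δ := SESResLib.derivedLES G
  exact (Δ.exact₃ S hS (q + 1) (q + 2) rfl).isZero_of_both_zeros (h₂.eq_of_src _ _) (h₁.eq_of_tgt _ _)

theorem epi_map_of_rd_one [PreservesFiniteLimits G] (h₁ : IsZero ((G.rightDerived 1).obj S.X₁)) :
    Epi (G.map S.g) := by
  let Δ := SESResLib.derivedLES G
  have : Epi ((G.rightDerived 0).map S.g) :=
    (Δ.exact₃ S hS 0 1 rfl).epi_f (h₁.eq_of_tgt _ _)
  exact ((MorphismProperty.epimorphisms B).arrow_mk_iso_iff
      ((Functor.mapArrowFunctor _ _).mapIso G.rightDerivedZeroIsoSelf |>.app (Arrow.mk S.g))).1 this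

omit hS

/-- A class of objects closed under quotients in injective objects with `G` epi on those quotients is acyclic. -/
theorem isZero_rd_of_class [EnoughInjectives A] [PreservesFiniteLimits G] (Q : ObjectProperty A)
    (h : ∀ {T : ShortComplex A}, T.ShortExact → Q T.X₁ → Injective T.X₂ → Q T.X₃ ∧ Epi (G.map T.g))
    (q : ℕ) : ∀ {X : A}, Q X → IsZero ((G.rightDerived (q + 1)).obj X) := by
  induction q with
  | zero =>
    intro X hX
    obtain ⟨p⟩ := EnoughInjectives.presentation X
    exact isZero_rd_one G p.shortExact_shortComplex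
      (haveI := p.injective; G.isZero_rightDerived_obj_injective_succ 0 p.J)
      (h p.shortExact_shortComplex hX p.injective).2
  | succ q ih =>
    intro X hX
    obtain ⟨p⟩ := EnoughInjectives.presentation X
    exact isZero_rd_succ G p.shortExact_shortComplex q
      (haveI := p.injective; G.isZero_rightDerived_obj_injective_succ (q + 1) p.J)
      (ih (h p.shortExact_shortComplex hX p.injective).1)

end Groth.Agent.FibDesc74

namespace Groth.Agent.FibDesc74

/-- Composites with an exact functor sending injectives to acyclic objects and epimorphisms to morphisms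
with epimorphic image are acyclic. -/
theorem isZero_rd_comp {C : Type*} [Category C] [Abelian C] [EnoughInjectives C]
    {A : Type u} [Category.{v} A] [Abelian A] [HasInjectiveResolutions A]
    {B : Type u'} [Category.{v'} B] [Abelian B] (R : C ⥤ A) [R.Additive] [PreservesFiniteLimits R]
    [PreservesFiniteColimits R] (G : A ⥤ B) [G.Additive] [PreservesFiniteLimits G]
    (hI : ∀ (I : C), Injective I → ∀ q, IsZero ((G.rightDerived (q + 1)).obj (R.obj I)))
    (hepi : ∀ {X Z : C} (g : X ⟶ Z), Epi g → Epi (G.map (R.map g))) (q : ℕ) :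
    ∀ J : C, IsZero ((G.rightDerived (q + 1)).obj (R.obj J)) := by
  induction q with
  | zero =>
    intro J
    obtain ⟨p⟩ := EnoughInjectives.presentation J
    have hS := p.shortExact_shortComplex
    exact isZero_rd_one G (hS.map_of_exact R) (hI p.J p.injective 0) (hepi p.shortComplex.g hS.epi_g)
  | succ q ih =>
    intro J
    obtain ⟨p⟩ := EnoughInjectives.presentation J
    exact isZero_rd_succ G (p.shortExact_shortComplex.map_of_exact R) q (hI p.J p.injective (q + 1)) (ih _)

end Groth.Agent.FibDesc74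

namespace Groth.Agent.FibDesc74

/-- Acyclicity is detected by a family of exact functors with acyclic values on injectives. -/
theorem isZero_rd_of_family {C : Type u} [Category.{v} C] [Abelian C] [EnoughInjectives C]
    {D : Type u'} [Category.{v'} D] [Abelian D] (G : C ⥤ D) [G.Additive] [PreservesFiniteLimits G]
    {κ : Type*} {A : κ → Type*} [∀ k, Category (A k)] [∀ k, Abelian (A k)] [∀ k, HasInjectiveResolutions (A k)]
    {B : κ → Type*} [∀ k, Category (B k)] [∀ k, Abelian (B k)]
    (R : ∀ k, C ⥤ A k) [∀ k, (R k).Additive] [∀ k, PreservesFiniteLimits (R k)]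
    [∀ k, PreservesFiniteColimits (R k)] (G' : ∀ k, A k ⥤ B k) [∀ k, (G' k).Additive]
    [∀ k, PreservesFiniteLimits (G' k)]
    (hepi : ∀ {X Z : C} (φ : X ⟶ Z), (∀ k, Epi ((G' k).map ((R k).map φ))) → Epi (G.map φ))
    (hI : ∀ k (I : C), Injective I → ∀ q, IsZero (((G' k).rightDerived (q + 1)).obj ((R k).obj I)))
    {X : C} (hX : ∀ k q, IsZero (((G' k).rightDerived (q + 1)).obj ((R k).obj X))) (q : ℕ) :
    IsZero ((G.rightDerived (q + 1)).obj X) := by
  refine isZero_rd_of_class G (fun M => ∀ k q, IsZero (((G' k).rightDerived (q + 1)).obj ((R k).obj M)))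
    (fun {T} hT h₁ h₂ => ⟨fun k q => ?_, ?_⟩) q hX
  · exact isZero_rd_of_succ (G' k) (hT.map_of_exact (R k)) q (h₁ k (q + 1)) (hI k T.X₂ h₂ q)
  · exact hepi T.g fun k => epi_map_of_rd_one (G' k) (hT.map_of_exact (R k)) (h₁ k 0)

end Groth.Agent.FibDesc74
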