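import Groth.Agent.FibDesc74.Push
import Groth.Agent.FibDesc74.Derived
import Groth.Agent.SiteBase.AbSecExact

/-!
# Sheaves acyclic for the direct image of an augmented simplicial space

A sheaf with acyclic complexes of sections, in a class of sheaves closed under quotients by which sections lift,
has vanishing higher direct images.
-/

set_option autoImplicit false

universe u

open CategoryTheory CategoryTheory.Limits Opposite TopologicalSpace Pseudofunctor.CoGrothendieck
open Simplicial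

namespace Groth.Agent.FibDesc74

variable {Y : Aug ⥤ TopCat.{u}} {S : ShortComplex (PSh Y)} (hS : S.ShortExact)

include hS

theorem cm_injective (U : Opens (Y.obj pnt)) (i : SimplexCategoryᵒᵖ) : Function.Injective (cm (U := U) S.f i) := by
  haveI := hS.mono_f
  exact SiteBase.sheaf_app_injective S.f _

theorem cm_exact (U : Opens (Y.obj pnt)) (i : SimplexCategoryᵒᵖ) (x : CS S.X₂ U i) (hx : cm S.g i x = 0) :
    ∃ y, cm S.f i y = x := by
  haveI := hS.mono_f
  exact (ShortComplex.ab_exact_iff _).1 (hS.exact.map_of_mono_of_preservesKernel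
    (sheafToPresheaf (totT.{0, u} (prt Y)) AddCommGrpCat.{u} ⋙
      (evaluation _ AddCommGrpCat.{u}).obj (op (mkO.{0, u} (Y := prt Y) i (pre U (toAug.obj i)))))
    inferInstance inferInstance) x hx

variable {U : Opens (Y.obj pnt)} (h₁ : Acy S.X₁ U)
  (hsurj : ∀ i, Function.Surjective (cm (U := U) S.g i))

include h₁ hsurj

theorem exists_cocycle_lift (n : ℕ) (s : CS S.X₃ U (op ⦋n⦌)) (hs : dd S.X₃ U n s = 0) :
    ∃ t, dd S.X₂ U n t = 0 ∧ cm S.g _ t = s := by
  obtain ⟨t, rfl⟩ := hsurj _ s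
  obtain ⟨a, ha⟩ := cm_exact hS U _ (dd S.X₂ U n t) (by rw [cm_dd, hs])
  have hda : dd S.X₁ U (n + 1) a = 0 := cm_injective hS U _ (by rw [cm_dd, ha, dd_dd, map_zero])
  obtain ⟨b, hb⟩ := h₁ n a hda
  refine ⟨t - cm S.f _ b, ?_, ?_⟩
  · rw [map_sub, ← cm_dd, hb, ha, sub_self]
  · rw [map_sub]
    have : cm S.g _ (cm S.f _ b) = 0 :=
      congrArg (fun q : S.X₁ ⟶ S.X₃ => cm q _ b) S.zero
    rw [this, sub_zero]

theorem acy_right (h₂ : Acy S.X₂ U) : Acy S.X₃ U := by
  intro n s hs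
  obtain ⟨t, ht, rfl⟩ := exists_cocycle_lift hS h₁ hsurj (n + 1) s hs
  obtain ⟨c, rfl⟩ := h₂ n t ht
  exact ⟨cm S.g _ c, (cm_dd _ _ _).symm⟩

theorem push_map_surjective :
    Function.Surjective (((pushA Y).map S.g).hom.app (op U)).hom := fun p => by
  obtain ⟨t, ht, hts⟩ := exists_cocycle_lift hS h₁ hsurj 0 (νP S.X₃ U p)
    ((dd_zero_eq_zero_iff _).2 (νP_mem _ U p))
  obtain ⟨q, rfl⟩ := exists_νP_eq S.X₂ U ((dd_zero_eq_zero_iff _).1 ht)
  exact ⟨q, νP_injective _ U ((νP_map _ S.g U q).trans hts)⟩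

omit hS h₁ hsurj

theorem epi_of_surjective {X : TopCat.{u}} {M N : CohTop.Ab X} (φ : M ⟶ N)
    (h : ∀ U : Opens X, Function.Surjective (φ.hom.app (op U)).hom) : Epi φ := by
  have : ∀ U, Epi (((sheafToPresheaf (Opens.grothendieckTopology X) AddCommGrpCat.{u}).map φ).app U) := fun U =>
    (AddCommGrpCat.epi_iff_surjective _).2 (h U.unop)
  exact (sheafToPresheaf (Opens.grothendieckTopology X) AddCommGrpCat.{u}).epi_of_epi_map
    (NatTrans.epi_of_epi_app _)

theorem preservesFiniteLimits_pushA : PreservesFiniteLimits (pushA Y) :=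
  haveI : (pushA Y).IsRightAdjoint := (adjA Y).isRightAdjoint
  inferInstance

/-- The criterion. -/
theorem isZero_rpush [EnoughInjectives (PSh Y)] (P : ObjectProperty (PSh Y))
    (hquot : ∀ {S : ShortComplex (PSh Y)}, S.ShortExact → P S.X₁ → Injective S.X₂ → P S.X₃)
    (hsurj : ∀ {S : ShortComplex (PSh Y)}, S.ShortExact → P S.X₁ →
      ∀ U i, Function.Surjective (cm (U := U) S.g i))
    {A : PSh Y} (hA : P A) (hAcy : ∀ U, Acy A U) (q : ℕ) :
    IsZero (((pushA Y).rightDerived (q + 1)).obj A) := by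
  haveI := preservesFiniteLimits_pushA (Y := Y)
  refine isZero_rd_of_class (pushA Y) (fun M => P M ∧ ∀ U, Acy M U) (fun {T} hT h₁ h₂ => ?_) q ⟨hA, hAcy⟩
  refine ⟨⟨hquot hT h₁.1 h₂, fun U => ?_⟩, ?_⟩
  · exact acy_right hT (h₁.2 U) (hsurj hT h₁.1 U) (@acy_of_injective _ T.X₂ h₂ U)
  · exact epi_of_surjective _ fun U => push_map_surjective hT (h₁.2 U) (hsurj hT h₁.1 U)

/-- Componentwise flasque sheaves. -/
def FlasqueComp : ObjectProperty (PSh Y) := fun A =>
  ∀ i, TopCat.Sheaf.IsFlasque ((res.{0, u} (prt Y) i).obj A)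

theorem shortExact_res {S : ShortComplex (PSh Y)} (hS : S.ShortExact) (i : SimplexCategoryᵒᵖ) :
    (S.map (res.{0, u} (prt Y) i)).ShortExact := by
  haveI : PreservesFiniteLimits (res.{0, u} (prt Y) i) := inferInstance
  haveI : PreservesFiniteColimits (res.{0, u} (prt Y) i) := inferInstance
  exact hS.map_of_exact _

/-- Componentwise flasque sheaves with acyclic complexes of sections are acyclic. -/
theorem isZero_rpush_of_flasque [EnoughInjectives (PSh Y)] {A : PSh Y} (hA : FlasqueComp A)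
    (hAcy : ∀ U, Acy A U) (q : ℕ) : IsZero (((pushA Y).rightDerived (q + 1)).obj A) := by
  refine isZero_rpush FlasqueComp ?_ ?_ hA hAcy q
  · intro S hS h₁ h₂ i
    haveI : TopCat.Sheaf.IsFlasque (S.map (res.{0, u} (prt Y) i)).X₁ := h₁ i
    haveI : TopCat.Sheaf.IsFlasque (S.map (res.{0, u} (prt Y) i)).X₂ :=
      @isFlasque_res_of_injective _ _ (prt Y) S.X₂ h₂ i
    exact TopCat.Sheaf.IsFlasque.of_shortExact_of_isFlasque₁₂ (shortExact_res hS i)
  · intro S hS h₁ U i
    haveI : TopCat.Sheaf.IsFlasque (S.map (res.{0, u} (prt Y) i)).X₁ := h₁ i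
    exact (AddCommGrpCat.epi_iff_surjective _).1
      (TopCat.Sheaf.IsFlasque.epi_of_shortExact (shortExact_res hS i) (U := pre U (toAug.obj i)))

end Groth.Agent.FibDesc74
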