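import Groth.Agent.FibSiteLib.Total
import Groth.Prelude.Def_FibDesc
import Groth.Prelude.Def_CohTop
import Mathlib.Topology.Sheaves.SheafCondition.UniqueGluing
import Mathlib.Topology.Sheaves.Stalks

/-!
# Sheaves on the open-set sites of a diagram of spaces

Sections, restriction along morphisms of the total site, fibres and stalks of abelian sheaves on the total
site of a diagram of topological spaces.
-/

set_option autoImplicit false

universe v u

open CategoryTheory CategoryTheory.Limits Opposite TopologicalSpace Pseudofunctor.CoGrothendieck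

namespace Groth.Agent.FibDesc74

variable {B : Type} [Category.{v} B] (Y : B ⥤ TopCat.{max u v})

/-- The family of open-set sites of a diagram of spaces. -/
noncomputable abbrev topPs : Pseudofunctor (LocallyDiscrete Bᵒᵖ) Cat.{max u v, max u v} :=
  (Y.op ⋙ FibDesc.opensCat.{max u v}).toPseudofunctor'

/-- The fibre topologies. -/
noncomputable abbrev topJ : FibSite.Topologies (topPs Y) := fun i => Opens.grothendieckTopology (Y.obj i)

/-- The total category. -/
abbrev Tot := ∫ᶜ (topPs Y)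

/-- The total topology. -/
noncomputable abbrev totT : GrothendieckTopology (Tot Y) := FibSite.totalTopology (topPs Y) (topJ Y)

/-- Abelian sheaves on the total site. -/
abbrev TSh := Sheaf (totT Y) AddCommGrpCat.{max u v}

theorem isPre : FibSite.IsPreFibSite (topPs Y) (topJ Y) := fun R S f =>
  inferInstanceAs ((Opens.map (Y.map f)).IsContinuous (Opens.grothendieckTopology (Y.obj S))
    (Opens.grothendieckTopology (Y.obj R)))

instance isContinuous_ι (i : B) :
    (ι (topPs Y) i).IsContinuous (topJ Y i) (FibSite.totalTopology (topPs Y) (topJ Y)) :=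
  FibSiteLib.isContinuous_ι (isPre Y) i

instance isCocontinuous_ι (i : B) :
    (ι (topPs Y) i).IsCocontinuous (topJ Y i) (FibSite.totalTopology (topPs Y) (topJ Y)) :=
  FibSiteLib.isCocontinuous_ι (isPre Y) i

variable {Y}

/-- An object of the total category. -/
noncomputable abbrev mkO (i : B) (W : Opens (Y.obj i)) : Tot Y := ⟨i, W⟩

/-- The open set of an object. -/
noncomputable abbrev fib (X : Tot Y) : Opens (Y.obj X.base) := X.fiber

/-- A morphism of the total category. -/
noncomputable abbrev mkM {i j : B} {W : Opens (Y.obj i)} {V : Opens (Y.obj j)} (f : i ⟶ j)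
    (h : W ≤ (Opens.map (Y.map f)).obj V) : mkO i W ⟶ mkO j V :=
  ⟨f, (homOfLE h : W ⟶ (Opens.map (Y.map f)).obj V)⟩

theorem hext {X W : Tot Y} (f g : X ⟶ W) (h : f.base = g.base) : f = g := by
  obtain ⟨f, a⟩ := f
  obtain ⟨g, b⟩ := g
  cases h
  exact congrArg (Hom.mk f)
    (Subsingleton.elim (α := fib X ⟶ (Opens.map (Y.map f)).obj (fib W)) a b)

theorem hom_le {X W : Tot Y} (f : X ⟶ W) : fib X ≤ (Opens.map (Y.map f.base)).obj (fib W) :=
  leOfHom (f.fiber : fib X ⟶ (Opens.map (Y.map f.base)).obj (fib W))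

theorem le_id {i : B} {W V : Opens (Y.obj i)} (h : W ≤ V) : W ≤ (Opens.map (Y.map (𝟙 i))).obj V := by
  rw [Y.map_id]
  exact h

theorem le_comp {i j k : B} {f : i ⟶ j} {g : j ⟶ k} {W : Opens (Y.obj i)} {V : Opens (Y.obj j)}
    {U : Opens (Y.obj k)} (h : W ≤ (Opens.map (Y.map f)).obj V) (h' : V ≤ (Opens.map (Y.map g)).obj U) :
    W ≤ (Opens.map (Y.map (f ≫ g))).obj U := fun x hx => by
  show Y.map (f ≫ g) x ∈ U
  rw [Y.map_comp]
  exact h' (h hx)

/-- Sections. -/
noncomputable abbrev sec (A : TSh Y) (i : B) (W : Opens (Y.obj i)) : AddCommGrpCat.{max u v} := A.obj.obj (op (mkO i W))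

/-- Restriction of sections along a morphism. -/
noncomputable abbrev tr (A : TSh Y) {i j : B} {W : Opens (Y.obj i)} {V : Opens (Y.obj j)} (f : i ⟶ j)
    (h : W ≤ (Opens.map (Y.map f)).obj V) : sec A j V →+ sec A i W :=
  (A.obj.map (mkM f h).op).hom

/-- A morphism of sheaves on sections. -/
noncomputable abbrev ap {A A' : TSh Y} (φ : A ⟶ A') (i : B) (W : Opens (Y.obj i)) : sec A i W →+ sec A' i W :=
  (φ.hom.app (op (mkO i W))).hom

variable {A A' : TSh Y}

theorem tr_tr {i j k : B} {W : Opens (Y.obj i)} {V : Opens (Y.obj j)} {U : Opens (Y.obj k)} (f : i ⟶ j)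
    (g : j ⟶ k) (h : W ≤ (Opens.map (Y.map f)).obj V) (h' : V ≤ (Opens.map (Y.map g)).obj U) (s : sec A k U) :
    tr A f h (tr A g h' s) = tr A (f ≫ g) (le_comp h h') s := by
  show (A.obj.map (mkM g h').op ≫ A.obj.map (mkM f h).op).hom s = _
  rw [← A.obj.map_comp, ← op_comp,
    show mkM f h ≫ mkM g h' = mkM (f ≫ g) (le_comp h h') from hext _ _ rfl]

theorem tr_congr {i j : B} {W : Opens (Y.obj i)} {V : Opens (Y.obj j)} {f g : i ⟶ j} (e : f = g)
    (h : W ≤ (Opens.map (Y.map f)).obj V) (h' : W ≤ (Opens.map (Y.map g)).obj V) (s : sec A j V) :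
    tr A f h s = tr A g h' s := by
  subst e
  rfl

theorem tr_self {i : B} {W : Opens (Y.obj i)} (h : W ≤ (Opens.map (Y.map (𝟙 i))).obj W) (s : sec A i W) :
    tr A (𝟙 i) h s = s := by
  show (A.obj.map (mkM (𝟙 i) h).op).hom s = s
  rw [show mkM (𝟙 i) h = 𝟙 (mkO i W) from hext _ _ rfl, op_id, A.obj.map_id]
  rfl

theorem ap_tr (φ : A ⟶ A') {i j : B} {W : Opens (Y.obj i)} {V : Opens (Y.obj j)} (f : i ⟶ j)
    (h : W ≤ (Opens.map (Y.map f)).obj V) (s : sec A j V) : ap φ i W (tr A f h s) = tr A' f h (ap φ j V s) :=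
  ConcreteCategory.congr_hom (φ.hom.naturality (mkM f h).op) s

variable (Y) in
/-- The sheaf on one space. -/
noncomputable abbrev res (i : B) : TSh Y ⥤ CohTop.Ab (Y.obj i) :=
  FibSite.restr (topPs Y) (topJ Y) AddCommGrpCat.{max u v} i

theorem res_map (A : TSh Y) {i : B} {W V : Opens (Y.obj i)} (h : W ≤ V) (s : sec A i V) :
    (((res Y i).obj A).obj.map (homOfLE h).op).hom s = tr A (𝟙 i) (le_id h) s := by
  show (A.obj.map ((ι (topPs Y) i).map (show W ⟶ V from homOfLE h)).op).hom s = _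
  rw [show (ι (topPs Y) i).map (show W ⟶ V from homOfLE h) = mkM (𝟙 i) (le_id h) from hext _ _ rfl]
  rfl

/-- The stalk at a point of one of the spaces. -/
noncomputable abbrev St (A : TSh Y) {i : B} (x : Y.obj i) : AddCommGrpCat.{max u v} :=
  CohTop.stalk ((res Y i).obj A) x

/-- Germs. -/
noncomputable abbrev gm (A : TSh Y) {i : B} (x : Y.obj i) {W : Opens (Y.obj i)} (hx : x ∈ W) :
    sec A i W →+ St A x :=
  (TopCat.Presheaf.germ ((res Y i).obj A).obj W x hx).hom

/-- A morphism of sheaves on stalks. -/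
noncomputable abbrev stM {A A' : TSh Y} (φ : A ⟶ A') {i : B} (x : Y.obj i) : St A x →+ St A' x :=
  ((TopCat.Presheaf.stalkFunctor AddCommGrpCat.{max u v} x).map ((res Y i).map φ).hom).hom

theorem stM_gm (φ : A ⟶ A') {i : B} (x : Y.obj i) {W : Opens (Y.obj i)} (hx : x ∈ W) (s : sec A i W) :
    stM φ x (gm A x hx s) = gm A' x hx (ap φ i W s) :=
  TopCat.Presheaf.stalkFunctor_map_germ_apply W x hx ((res Y i).map φ).hom s

theorem exists_gm {i : B} {x : Y.obj i} (t : St A x) :
    ∃ (W : Opens (Y.obj i)) (hx : x ∈ W) (s : sec A i W), gm A x hx s = t :=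
  TopCat.Presheaf.exists_germ_eq _ t

theorem gm_res {i : B} (x : Y.obj i) {W V : Opens (Y.obj i)} (h : W ≤ V) (hx : x ∈ W) (s : sec A i V) :
    gm A x hx (tr A (𝟙 i) (le_id h) s) = gm A x (h hx) s := by
  rw [← res_map A h s]
  exact TopCat.Presheaf.germ_res_apply ((res Y i).obj A).obj (homOfLE h) x hx s

theorem gm_eq {i : B} {x : Y.obj i} {W W' : Opens (Y.obj i)} (hx : x ∈ W) (hx' : x ∈ W') (s : sec A i W)
    (s' : sec A i W') (h : gm A x hx s = gm A x hx' s') :
    ∃ (V : Opens (Y.obj i)) (h₁ : V ≤ W) (h₂ : V ≤ W'), x ∈ V ∧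
      tr A (𝟙 i) (le_id h₁) s = tr A (𝟙 i) (le_id h₂) s' := by
  obtain ⟨V, hV, i₁, i₂, e⟩ := TopCat.Presheaf.germ_eq ((res Y i).obj A).obj x hx hx' s s' h
  exact ⟨V, i₁.le, i₂.le, hV, ((res_map A i₁.le s).symm.trans e).trans (res_map A i₂.le s')⟩

theorem sec_ext {i : B} {W : Opens (Y.obj i)} (s t : sec A i W)
    (h : ∀ x (hx : x ∈ W), gm A x hx s = gm A x hx t) : s = t :=
  TopCat.Presheaf.section_ext ((res Y i).obj A) W s t h

theorem isIso_of_stalks (φ : A ⟶ A') (h : ∀ (i : B) (x : Y.obj i), Function.Bijective (stM φ x)) : IsIso φ := by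
  have h' : ∀ i, IsIso ((res Y i).map φ) := fun i => by
    haveI : ∀ x, IsIso ((TopCat.Presheaf.stalkFunctor AddCommGrpCat.{max u v} x).map ((res Y i).map φ).1) :=
      fun x => (ConcreteCategory.isIso_iff_bijective _).2 (h i x)
    exact TopCat.Presheaf.isIso_of_stalkFunctor_map_iso _
  have : ∀ X : (Tot Y)ᵒᵖ, IsIso (φ.hom.app X) := fun X => by
    haveI := h' X.unop.base
    exact inferInstanceAs (IsIso (((sheafToPresheaf _ _).map ((res Y X.unop.base).map φ)).app (op (fib X.unop))))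
  haveI : IsIso ((sheafToPresheaf (totT Y) AddCommGrpCat.{max u v}).map φ) :=
    @NatIso.isIso_of_isIso_app _ _ _ _ _ _ φ.hom this
  exact isIso_of_reflects_iso φ (sheafToPresheaf _ _)

instance additive_res (i : B) : (res Y i).Additive := ⟨rfl⟩

instance hasRan_ι (i : B) (Q : (Opens (Y.obj i))ᵒᵖ ⥤ AddCommGrpCat.{max u v}) :
    (ι (topPs Y) i).op.HasPointwiseRightKanExtension Q :=
  fun _ => inferInstanceAs (HasLimit _)

instance preservesFiniteLimits_res (i : B) : PreservesFiniteLimits (res Y i) := by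
  have : PreservesFiniteLimits (res Y i ⋙ sheafToPresheaf (topJ Y i) AddCommGrpCat.{max u v}) :=
    inferInstanceAs (PreservesFiniteLimits (sheafToPresheaf (totT Y) AddCommGrpCat.{max u v} ⋙
      (Functor.whiskeringLeft _ _ AddCommGrpCat.{max u v}).obj (ι (topPs Y) i).op))
  refine ⟨fun J _ _ => ⟨fun {K} => ⟨fun {c} hc => ?_⟩⟩⟩
  exact ⟨isLimitOfReflects (sheafToPresheaf (topJ Y i) AddCommGrpCat.{max u v})
    (isLimitOfPreserves (res Y i ⋙ sheafToPresheaf (topJ Y i) AddCommGrpCat.{max u v}) hc)⟩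

instance preservesFiniteColimits_res (i : B) : PreservesFiniteColimits (res Y i) :=
  haveI : ∀ Q : ((topPs Y).obj ⟨op i⟩)ᵒᵖ ⥤ AddCommGrpCat.{max u v},
      (ι (topPs Y) i).op.HasPointwiseRightKanExtension Q := hasRan_ι i
  haveI : (res Y i).IsLeftAdjoint :=
    ((ι (topPs Y) i).sheafAdjunctionCocontinuous AddCommGrpCat.{max u v} (topJ Y i) (totT Y)).isLeftAdjoint
  inferInstance

end Groth.Agent.FibDesc74
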