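import Groth.Agent.FibDesc74.Cech

/-!
# The part of an augmented simplicial space over a subset of the base
-/

set_option autoImplicit false

universe u

open CategoryTheory CategoryTheory.Limits Opposite TopologicalSpace Topology

namespace Groth.Agent.FibDesc74

variable (Y : Aug ⥤ TopCat.{u}) (T : Set (Y.obj pnt))

/-- The points over `T`. -/
abbrev subSet (i : Aug) : Set (Y.obj i) := Y.map (th i) ⁻¹' T

theorem subSet_maps {i j : Aug} (f : i ⟶ j) : Set.MapsTo (Y.map f) (subSet Y T i) (subSet Y T j) := by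
  intro x hx
  show Y.map (th j) (Y.map f x) ∈ T
  rw [← ConcreteCategory.comp_apply, ← Y.map_comp, to_pnt_ext (f ≫ th j) (th i)]
  exact hx

/-- The diagram over `T`. -/
noncomputable def subY : Aug ⥤ TopCat.{u} where
  obj i := TopCat.of (subSet Y T i)
  map {i j} f := TopCat.ofHom
    ⟨fun x => ⟨Y.map f x.1, subSet_maps Y T f x.2⟩,
      ((Y.map f).hom.continuous.comp continuous_subtype_val).subtype_mk _⟩
  map_id i := by
    refine ConcreteCategory.hom_ext _ _ fun x => Subtype.ext ?_
    show Y.map (𝟙 i) x.1 = x.1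
    rw [Y.map_id]
    rfl
  map_comp f f' := by
    refine ConcreteCategory.hom_ext _ _ fun x => Subtype.ext ?_
    show Y.map (f ≫ f') x.1 = Y.map f' (Y.map f x.1)
    rw [Y.map_comp]
    rfl

/-- The inclusion. -/
noncomputable def subι : subY Y T ⟶ Y where
  app i := TopCat.ofHom ⟨Subtype.val, continuous_subtype_val⟩
  naturality _ _ _ := rfl

theorem subι_isEmbedding (i : Aug) : IsEmbedding ((subι Y T).app i) := IsEmbedding.subtypeVal

theorem subι_injective (i : Aug) : Function.Injective ((subι Y T).app i) := Subtype.val_injective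

theorem range_subι (i : Aug) : Set.range ((subι Y T).app i) = subSet Y T i := Subtype.range_coe

theorem subι_isOpenEmbedding (hT : IsOpen T) (i : Aug) : IsOpenEmbedding ((subι Y T).app i) :=
  (hT.preimage (Y.map (th i)).hom.continuous).isOpenEmbedding_subtypeVal

theorem subι_pnt_mem (y' : (subY Y T).obj pnt) : (subι Y T).app pnt y' ∈ T := by
  have h : Y.map (th pnt) y'.1 ∈ T := y'.2
  rw [show th pnt = 𝟙 pnt from to_pnt_ext _ _, Y.map_id] at h
  exact h

theorem exists_subι_pnt {y : Y.obj pnt} (hy : y ∈ T) : ∃ y', (subι Y T).app pnt y' = y :=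
  ⟨⟨y, by show Y.map (th pnt) y ∈ T; rw [show th pnt = 𝟙 pnt from to_pnt_ext _ _, Y.map_id]; exact hy⟩, rfl⟩

end Groth.Agent.FibDesc74
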