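import Groth.Agent.FibDesc74.SplitUnit
import Groth.Agent.FibDesc74.Sub

/-!
# The Čech nerve over a subset with a section
-/

set_option autoImplicit false

universe u

set_option maxHeartbeats 400000

open CategoryTheory CategoryTheory.Limits Opposite TopologicalSpace
open Simplicial

namespace Groth.Agent.FibDesc74

variable {X S : TopCat.{u}} (f : X ⟶ S)

/-- The Čech nerve. -/
noncomputable abbrev cY : Aug ⥤ TopCat.{u} := FibDesc.cechAug f

/-- The iterated fibre product. -/
noncomputable abbrev wp (n : ℕ) : TopCat.{u} := widePullback S (fun _ : Fin (n + 1) => X) (fun _ => f)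

/-- Its projections. -/
noncomputable abbrev wπ (n : ℕ) (j : Fin (n + 1)) : wp f n ⟶ X := WidePullback.π (fun _ => f) j

/-- Its structure map. -/
noncomputable abbrev wb (n : ℕ) : wp f n ⟶ S := WidePullback.base (fun _ : Fin (n + 1) => f)

theorem cY_th (n : ℕ) : (cY f).map (th (toAug.obj (op ⦋n⦌))) = wb f n := rfl

theorem cY_π {n m : ℕ} (g : ⦋n⦌ ⟶ ⦋m⦌) (j : Fin (n + 1)) :
    ((cY f).map (toAug.map g.op) ≫ wπ f n j : wp f m ⟶ X) = wπ f m (g.toOrderHom j) :=
  WidePullback.lift_π _ _ _ _ _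

theorem cY_base {n m : ℕ} (g : ⦋n⦌ ⟶ ⦋m⦌) :
    ((cY f).map (toAug.map g.op) ≫ wb f n : wp f m ⟶ S) = wb f m :=
  WidePullback.lift_base _ _ _ _

theorem wp_ext {n : ℕ} {p q : wp f n} (h : ∀ j, wπ f n j p = wπ f n j q) (h' : wb f n p = wb f n q) : p = q := by
  have e : TopCat.ofHom (X := TopCat.of PUnit.{u + 1}) ⟨fun _ => p, continuous_const⟩ =
      TopCat.ofHom (X := TopCat.of PUnit.{u + 1}) ⟨fun _ => q, continuous_const⟩ :=
    WidePullback.hom_ext (fun _ => f) _ _ (fun j => ConcreteCategory.hom_ext _ _ fun _ => h j)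
      (ConcreteCategory.hom_ext _ _ fun _ => h')
  exact ConcreteCategory.congr_hom e PUnit.unit

theorem cY_π_apply {n m : ℕ} (g : ⦋n⦌ ⟶ ⦋m⦌) (j : Fin (n + 1)) (p : wp f m) :
    wπ f n j ((cY f).map (toAug.map g.op) p) = wπ f m (g.toOrderHom j) p :=
  ConcreteCategory.congr_hom (cY_π f g j) p

theorem cY_base_apply {n m : ℕ} (g : ⦋n⦌ ⟶ ⦋m⦌) (p : wp f m) :
    wb f n ((cY f).map (toAug.map g.op) p) = wb f m p :=
  ConcreteCategory.congr_hom (cY_base f g) p

section Section

variable (T : Set S) (σ : TopCat.of T ⟶ X) (hσ : σ ≫ f = TopCat.ofHom ⟨Subtype.val, continuous_subtype_val⟩)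

/-- The nerve over `T`. -/
noncomputable abbrev zY : Aug ⥤ TopCat.{u} := subY (cY f) T

/-- The inclusion. -/
noncomputable abbrev zι (n : ℕ) : (zY f T).obj (toAug.obj (op ⦋n⦌)) ⟶ wp f n :=
  (subι (cY f) T).app (toAug.obj (op ⦋n⦌))

/-- The map to `T` of a space over `T`. -/
noncomputable def zτ (i : Aug) : (zY f T).obj i ⟶ TopCat.of T :=
  TopCat.ofHom ⟨fun p => ⟨(cY f).map (th i) p.1, p.2⟩,
    (((cY f).map (th i)).hom.continuous.comp continuous_subtype_val).subtype_mk _⟩

theorem zτ_val (i : Aug) :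
    zτ f T i ≫ TopCat.ofHom ⟨Subtype.val, continuous_subtype_val⟩ = (subι (cY f) T).app i ≫ (cY f).map (th i) :=
  rfl

theorem zτ_nat {i j : Aug} (g : i ⟶ j) : (zY f T).map g ≫ zτ f T j = zτ f T i := by
  refine ConcreteCategory.hom_ext _ _ fun p => Subtype.ext ?_
  show (cY f).map (th j) ((cY f).map g p.1) = (cY f).map (th i) p.1
  rw [← ConcreteCategory.comp_apply, ← (cY f).map_comp, to_pnt_ext (g ≫ th j) (th i)]

/-- The components of the extra degeneracy. -/
noncomputable def degComp (n : ℕ) (j : Fin (n + 2)) : (zY f T).obj (toAug.obj (op ⦋n⦌)) ⟶ X :=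
  Fin.cases (zτ f T _ ≫ σ) (fun k => zι f T n ≫ wπ f n k) j

include hσ in
theorem degComp_f (n : ℕ) (j : Fin (n + 2)) : degComp f T σ n j ≫ f = zι f T n ≫ wb f n := by
  induction j using Fin.cases with
  | zero =>
    show (zτ f T _ ≫ σ) ≫ f = _
    rw [Category.assoc, hσ, zτ_val]
    rfl
  | succ k =>
    show (zι f T n ≫ wπ f n k) ≫ f = _
    rw [Category.assoc, WidePullback.π_arrow]

/-- Its lift. -/
noncomputable def degLift (n : ℕ) : (zY f T).obj (toAug.obj (op ⦋n⦌)) ⟶ wp f (n + 1) :=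
  WidePullback.lift (zι f T n ≫ wb f n) (degComp f T σ n) (degComp_f f T σ hσ n)

theorem degLift_mem (n : ℕ) (p : (zY f T).obj (toAug.obj (op ⦋n⦌))) :
    degLift f T σ hσ n p ∈ subSet (cY f) T (toAug.obj (op ⦋n + 1⦌)) := by
  show wb f (n + 1) (degLift f T σ hσ n p) ∈ T
  rw [← ConcreteCategory.comp_apply, degLift, WidePullback.lift_base]
  exact p.2

/-- The extra degeneracy. -/
noncomputable def zdeg (n : ℕ) : (zY f T).obj (toAug.obj (op ⦋n⦌)) ⟶ (zY f T).obj (toAug.obj (op ⦋n + 1⦌)) :=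
  TopCat.ofHom ⟨fun p => ⟨degLift f T σ hσ n p, degLift_mem f T σ hσ n p⟩,
    (degLift f T σ hσ n).hom.continuous.subtype_mk _⟩

theorem zdeg_ι (n : ℕ) : zdeg f T σ hσ n ≫ zι f T (n + 1) = degLift f T σ hσ n := rfl

include hσ in
theorem sec_f : (zτ f T pnt ≫ σ) ≫ f = (subι (cY f) T).app pnt := by
  rw [Category.assoc, hσ, zτ_val, show th pnt = 𝟙 pnt from to_pnt_ext _ _, (cY f).map_id]
  exact Category.comp_id _

/-- The lift of the section. -/
noncomputable def secLift : (zY f T).obj pnt ⟶ wp f 0 :=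
  WidePullback.lift ((subι (cY f) T).app pnt) (fun _ => zτ f T pnt ≫ σ) (fun _ => sec_f f T σ hσ)

theorem secLift_mem (p : (zY f T).obj pnt) : secLift f T σ hσ p ∈ subSet (cY f) T (toAug.obj (op ⦋0⦌)) := by
  show wb f 0 (secLift f T σ hσ p) ∈ T
  rw [← ConcreteCategory.comp_apply, secLift, WidePullback.lift_base]
  exact subι_pnt_mem (cY f) T p

/-- The section. -/
noncomputable def zsec : (zY f T).obj pnt ⟶ (zY f T).obj (toAug.obj (op ⦋0⦌)) :=
  TopCat.ofHom ⟨fun p => ⟨secLift f T σ hσ p, secLift_mem f T σ hσ p⟩,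
    (secLift f T σ hσ).hom.continuous.subtype_mk _⟩

theorem degLift_π (n : ℕ) (j : Fin (n + 2)) (p : (zY f T).obj (toAug.obj (op ⦋n⦌))) :
    wπ f (n + 1) j (degLift f T σ hσ n p) = degComp f T σ n j p :=
  ConcreteCategory.congr_hom (WidePullback.lift_π (fun _ => f) (zι f T n ≫ wb f n) (degComp f T σ n)
    (degComp_f f T σ hσ n) j) p

theorem degLift_base (n : ℕ) (p : (zY f T).obj (toAug.obj (op ⦋n⦌))) :
    wb f (n + 1) (degLift f T σ hσ n p) = wb f n (zι f T n p) :=
  ConcreteCategory.congr_hom (WidePullback.lift_base (fun _ => f) (zι f T n ≫ wb f n) (degComp f T σ n)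
    (degComp_f f T σ hσ n)) p

theorem secLift_π (j : Fin 1) (p : (zY f T).obj pnt) :
    wπ f 0 j (secLift f T σ hσ p) = σ (zτ f T pnt p) :=
  ConcreteCategory.congr_hom (WidePullback.lift_π (fun _ => f) ((subι (cY f) T).app pnt) (fun _ => zτ f T pnt ≫ σ)
    (fun _ => sec_f f T σ hσ) j) p

theorem secLift_base (p : (zY f T).obj pnt) : wb f 0 (secLift f T σ hσ p) = p.1 :=
  ConcreteCategory.congr_hom (WidePullback.lift_base (fun _ => f) ((subι (cY f) T).app pnt) (fun _ => zτ f T pnt ≫ σ)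
    (fun _ => sec_f f T σ hσ)) p

theorem zτ_eq {i j : Aug} (g : i ⟶ j) (p : (zY f T).obj i) : zτ f T j ((zY f T).map g p) = zτ f T i p :=
  ConcreteCategory.congr_hom (zτ_nat f T g) p

theorem zdeg_th (n : ℕ) :
    zdeg f T σ hσ n ≫ (zY f T).map (th (toAug.obj (op ⦋n + 1⦌))) = (zY f T).map (th (toAug.obj (op ⦋n⦌))) :=
  ConcreteCategory.hom_ext _ _ fun p => Subtype.ext (degLift_base f T σ hσ n p)

theorem zsec_th : zsec f T σ hσ ≫ (zY f T).map (th (toAug.obj (op ⦋0⦌))) = 𝟙 _ :=
  ConcreteCategory.hom_ext _ _ fun p => Subtype.ext (secLift_base f T σ hσ p)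

theorem zdeg_zero (n : ℕ) : zdeg f T σ hσ n ≫ (zY f T).map (dA n 0) = 𝟙 _ := by
  refine ConcreteCategory.hom_ext _ _ fun p => Subtype.ext ?_
  refine wp_ext f (fun j => ?_) ?_
  · exact (cY_π_apply f (SimplexCategory.δ (0 : Fin (n + 2))) j _).trans (degLift_π f T σ hσ n j.succ p)
  · exact (cY_base_apply f (SimplexCategory.δ (0 : Fin (n + 2))) _).trans (degLift_base f T σ hσ n p)

theorem zdeg_succ (n : ℕ) (k : Fin (n + 2)) :
    zdeg f T σ hσ (n + 1) ≫ (zY f T).map (dA (n + 1) k.succ) = (zY f T).map (dA n k) ≫ zdeg f T σ hσ n := by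
  refine ConcreteCategory.hom_ext _ _ fun p => Subtype.ext ?_
  refine wp_ext f (fun j => ?_) ?_
  · refine ((cY_π_apply f (SimplexCategory.δ k.succ) j _).trans (degLift_π f T σ hσ (n + 1) _ p)).trans
      (Eq.trans ?_ (degLift_π f T σ hσ n j ((zY f T).map (dA n k) p)).symm)
    induction j using Fin.cases with
    | zero =>
      rw [show (SimplexCategory.δ k.succ).toOrderHom 0 = 0 from Fin.succAbove_ne_zero_zero (Fin.succ_ne_zero k)]
      exact congrArg σ (zτ_eq f T (dA n k) p).symm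
    | succ j =>
      rw [show (SimplexCategory.δ k.succ).toOrderHom j.succ = ((SimplexCategory.δ k).toOrderHom j).succ from
        Fin.succ_succAbove_succ k j]
      exact (cY_π_apply f (SimplexCategory.δ k) j p.1).symm
  · refine ((cY_base_apply f (SimplexCategory.δ k.succ) _).trans (degLift_base f T σ hσ (n + 1) p)).trans
      (Eq.trans ?_ (degLift_base f T σ hσ n ((zY f T).map (dA n k) p)).symm)
    exact (cY_base_apply f (SimplexCategory.δ k) p.1).symm

theorem zdeg_one :
    zdeg f T σ hσ 0 ≫ (zY f T).map (dA 0 1) = (zY f T).map (th (toAug.obj (op ⦋0⦌))) ≫ zsec f T σ hσ := by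
  refine ConcreteCategory.hom_ext _ _ fun p => Subtype.ext ?_
  refine wp_ext f (fun j => ?_) ?_
  · refine ((cY_π_apply f (SimplexCategory.δ (1 : Fin 2)) j _).trans (degLift_π f T σ hσ 0 _ p)).trans
      (Eq.trans ?_ (secLift_π f T σ hσ j ((zY f T).map (th _) p)).symm)
    obtain rfl : j = 0 := Subsingleton.elim (α := Fin 1) j 0
    exact congrArg σ (zτ_eq f T (th (toAug.obj (op ⦋0⦌))) p).symm
  · exact ((cY_base_apply f (SimplexCategory.δ (1 : Fin 2)) _).trans (degLift_base f T σ hσ 0 p)).trans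
      (secLift_base f T σ hσ ((zY f T).map (th _) p)).symm

/-- The spaces over `T`. -/
noncomputable def zObj (i : Aug) : Over ((zY f T).obj pnt) := Over.mk ((zY f T).map (th i))

/-- The category of the spaces over `T` with all maps over the base. -/
abbrev ZCat := InducedCategory (Over ((zY f T).obj pnt)) (zObj f T)

/-- The spaces of that category. -/
noncomputable abbrev zY' : ZCat f T ⥤ TopCat.{u} := inducedFunctor (zObj f T) ⋙ Over.forget _

/-- The inclusion of the nerve. -/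
noncomputable def zL : Aug ⥤ ZCat f T where
  obj i := i
  map {i j} g := ⟨Over.homMk ((zY f T).map g) (by
    show (zY f T).map g ≫ (zY f T).map (th j) = (zY f T).map (th i)
    rw [← Functor.map_comp, to_pnt_ext (g ≫ th j) (th i)])⟩
  map_id i := InducedCategory.hom_ext (Over.OverMorphism.ext ((zY f T).map_id i))
  map_comp g g' := InducedCategory.hom_ext (Over.OverMorphism.ext ((zY f T).map_comp g g'))

theorem zL_comp : zL f T ⋙ zY' f T = zY f T := rfl

theorem zcat_ext {i j : ZCat f T} {a b : i ⟶ j} (h : (zY' f T).map a = (zY' f T).map b) : a = b :=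
  InducedCategory.hom_ext (Over.OverMorphism.ext h)

/-- The extra degeneracy data. -/
noncomputable def zSplit : SplitData (zL f T) where
  uniq {i} a b := by
    refine zcat_ext f T ?_
    have key : ∀ a : i ⟶ (zL f T).obj pnt, (zY' f T).map a = (zY f T).map (th i) := fun a => by
      have e : (zY' f T).map a ≫ (zY f T).map (th pnt) = (zY f T).map (th i) := Over.w a.hom
      have h : (zY f T).map (th pnt) = 𝟙 ((zY f T).obj pnt) := by
        rw [show th pnt = 𝟙 pnt from to_pnt_ext _ _, (zY f T).map_id]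
      exact ((Category.comp_id _).symm.trans (congrArg ((zY' f T).map a ≫ ·) h.symm)).trans e
    exact (key a).trans (key b).symm
  sec0 := ⟨Over.homMk (zsec f T σ hσ) (by
    show zsec f T σ hσ ≫ (zY f T).map (th (toAug.obj (op ⦋0⦌))) = (zY f T).map (th pnt)
    rw [zsec_th, show th pnt = 𝟙 pnt from to_pnt_ext _ _, (zY f T).map_id])⟩
  deg n := ⟨Over.homMk (zdeg f T σ hσ n) (zdeg_th f T σ hσ n)⟩
  deg_zero n := zcat_ext f T (zdeg_zero f T σ hσ n)
  deg_succ n k := zcat_ext f T (zdeg_succ f T σ hσ n k)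
  deg_one := zcat_ext f T (zdeg_one f T σ hσ)

/-- The higher direct images of inverse images vanish. -/
def PullAcyclic (Z : Aug ⥤ TopCat.{u}) : Prop :=
  ∀ (G : CohTop.Ab (Z.obj pnt)) (q : ℕ), IsZero (((pushA Z).rightDerived (q + 1)).obj ((pullA Z).obj G))

include hσ in
theorem pullAcyclic_sub : PullAcyclic (zY f T) := by
  have h : PullAcyclic (zL f T ⋙ zY' f T) := fun G q => (split_descent (zSplit f T σ hσ) G).2 q
  rw [zL_comp] at h
  exact h

end Section

end Groth.Agent.FibDesc74
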