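import Groth.Agent.FibDesc74.Transfer
import Groth.Agent.FibDesc74.Sub
import Groth.Agent.CTopNbd.Unit

/-!
# Sections near an open part and near a compact fibre
-/

set_option autoImplicit false

universe u

open CategoryTheory CategoryTheory.Limits Opposite TopologicalSpace Pseudofunctor.CoGrothendieck
open Simplicial Topology

namespace Groth.Agent.FibDesc74

section Generic

variable {B : Type} [Category.{0} B] {Y Z : B ⥤ TopCat.{u}} (g : Z ⟶ Y) (A : TSh.{0, u} Y) (i : B)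

theorem usec_injective {W : Opens (Y.obj i)} (hW : (W : Set (Y.obj i)) ⊆ Set.range (g.app i)) :
    Function.Injective (usec g A i W) := by
  refine (injective_iff_map_eq_zero _).2 fun s hs => sec_ext.{0, u} _ _ fun x hx => ?_
  obtain ⟨a, rfl⟩ := hW hx
  rw [map_zero]
  exact gm_usec_injective g A a hx s (by rw [hs, map_zero])

/-- The unit on one space. -/
noncomputable abbrev unitMor : (res.{0, u} Y i).obj A ⟶ (res.{0, u} Y i).obj ((pushG g).obj ((pullG g).obj A)) :=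
  (res.{0, u} Y i).map ((adjG g).unit.app A)

theorem locInj_unitMor : CTopNbd.LocInj (g.app i) (unitMor g A i) := by
  intro a U ha d hd
  have h0 : gm.{0, u} ((pullG g).obj A) a (show a ∈ (Opens.map (g.app i)).obj U from ha) (usec g A i U d) = 0 :=
    (congrArg _ hd).trans (map_zero _)
  have h1 := gm_usec_injective g A a ha d h0
  rw [← map_zero (gm.{0, u} A (g.app i a) ha)] at h1
  obtain ⟨V, h₁, h₂, hxV, e⟩ := gm_eq.{0, u} ha ha _ _ h1
  rw [map_zero] at e
  exact ⟨V, h₁, hxV, (res_map.{0, u} A h₁ d).trans e⟩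

theorem locSurj_unitMor (hi : IsInducing (g.app i)) : CTopNbd.LocSurj (g.app i) (unitMor g A i) := by
  intro a U ha n
  let n' : sec.{0, u} ((pullG g).obj A) i ((Opens.map (g.app i)).obj U) := n
  obtain ⟨W, hW, s, hs⟩ := gm_usec_surjective g A a
    (gm.{0, u} ((pullG g).obj A) a (show a ∈ (Opens.map (g.app i)).obj U from ha) n')
  obtain ⟨O, h₁, h₂, haO, e⟩ := gm_eq.{0, u} (show a ∈ (Opens.map (g.app i)).obj W from hW)
    (show a ∈ (Opens.map (g.app i)).obj U from ha) _ _ hs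
  obtain ⟨O', hO', hOO'⟩ := hi.isOpen_iff.1 O.isOpen
  let V : Opens (Y.obj i) := W ⊓ U ⊓ ⟨O', hO'⟩
  have hVO : (Opens.map (g.app i)).obj V ≤ O := fun x hx => by
    show x ∈ (O : Set (Z.obj i))
    rw [← hOO']
    exact hx.2
  have haO' : g.app i a ∈ O' := by
    have : a ∈ (O : Set (Z.obj i)) := haO
    rw [← hOO'] at this
    exact this
  refine ⟨V, inf_le_left.trans inf_le_right, ⟨⟨hW, ha⟩, haO'⟩,
    tr.{0, u} A (𝟙 i) (le_id.{0, u} (inf_le_left.trans inf_le_left : V ≤ W)) s, ?_⟩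
  refine (usec_tr g A (𝟙 i) _ s).trans (Eq.trans ?_ (res_map.{0, u} ((pushG g).obj ((pullG g).obj A)) _ n).symm)
  have e' := congrArg (tr.{0, u} ((pullG g).obj A) (𝟙 i) (le_id.{0, u} hVO)) e
  rw [tr_tr, tr_tr] at e'
  exact ((tr_congr.{0, u} (Category.id_comp (𝟙 i)).symm _ _ _).trans e').trans
    (tr_congr.{0, u} (Category.id_comp (𝟙 i)) _ _ _)

theorem usec_surjective (hi : IsInducing (g.app i)) {W : Opens (Y.obj i)}
    (hW : (W : Set (Y.obj i)) ⊆ Set.range (g.app i)) : Function.Surjective (usec g A i W) := by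
  intro n
  have h : ∀ x : W, ∃ (V : Opens (Y.obj i)) (hV : V ≤ W), x.1 ∈ V ∧
      ∃ m, usec g A i V m = CTopNbd.rs ((res.{0, u} Y i).obj ((pushG g).obj ((pullG g).obj A))) hV n := fun x => by
    obtain ⟨a, ha⟩ := hW x.2
    obtain ⟨V, hV, haV, m, hm⟩ := locSurj_unitMor g A i hi a W (ha ▸ x.2) n
    exact ⟨V, hV, ha ▸ haV, m, hm⟩
  choose V hV hxV m hm using h
  have hcover : W ≤ iSup V := fun x hx => Opens.mem_iSup.2 ⟨⟨x, hx⟩, hxV ⟨x, hx⟩⟩
  obtain ⟨c, hc, -⟩ := TopCat.Sheaf.existsUnique_gluing' ((res.{0, u} Y i).obj A) V W (fun x => homOfLE (hV x))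
    hcover m (by
      intro x x'
      refine usec_injective g A i (W := V x ⊓ V x') (fun z hz => hW (hV x hz.1)) ?_
      refine (CTopNbd.sa_rs (unitMor g A i) inf_le_left (m x)).trans ?_
      refine Eq.trans ?_ (CTopNbd.sa_rs (unitMor g A i) inf_le_right (m x')).symm
      refine (congrArg _ (hm x)).trans (Eq.trans ?_ (congrArg _ (hm x')).symm)
      exact (CTopNbd.rs_rs ((res.{0, u} Y i).obj ((pushG g).obj ((pullG g).obj A))) (hV x)
        (inf_le_left : V x ⊓ V x' ≤ V x) n).trans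
        (CTopNbd.rs_rs ((res.{0, u} Y i).obj ((pushG g).obj ((pullG g).obj A))) (hV x')
          (inf_le_right : V x ⊓ V x' ≤ V x') n).symm)
  refine ⟨c, ?_⟩
  refine TopCat.Sheaf.eq_of_locally_eq' ((res.{0, u} Y i).obj ((pushG g).obj ((pullG g).obj A))) V W
    (fun x => homOfLE (hV x)) hcover _ _ fun x => ?_
  exact ((CTopNbd.sa_rs (unitMor g A i) (hV x) c).symm.trans (congrArg _ (hc x))).trans (hm x)

theorem isFlasque_pullG_of_open (hi : IsOpenEmbedding (g.app i))
    [hA : TopCat.Sheaf.IsFlasque ((res.{0, u} Y i).obj A)] :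
    TopCat.Sheaf.IsFlasque ((res.{0, u} Z i).obj ((pullG g).obj A)) where
  epi {U V} k := by
    refine (AddCommGrpCat.epi_iff_surjective _).2 fun s => ?_
    let W : Opens (Y.obj i) := ⟨g.app i '' (V.unop : Set (Z.obj i)), hi.isOpenMap _ V.unop.isOpen⟩
    have e₁ : (Opens.map (g.app i)).obj W ≤ V.unop := fun x hx => by
      obtain ⟨x', hx', e⟩ := hx
      exact hi.injective e ▸ hx'
    obtain ⟨t, ht⟩ := usec_surjective g A i hi.isInducing (W := W) (Set.image_subset_range _ _)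
      (tr.{0, u} ((pullG g).obj A) (𝟙 i) (le_id.{0, u} e₁) s)
    obtain ⟨T, hT⟩ := (AddCommGrpCat.epi_iff_surjective _).1 (hA.epi (homOfLE (le_top : W ≤ ⊤)).op) t
    refine ⟨tr.{0, u} ((pullG g).obj A) (𝟙 i)
      (le_id.{0, u} (fun x _ => trivial : U.unop ≤ (Opens.map (g.app i)).obj ⊤)) (usec g A i ⊤ T), ?_⟩
    refine (res_map.{0, u} ((pullG g).obj A) k.unop.le _).trans ?_
    rw [tr_tr]
    have e₂ : V.unop ≤ (Opens.map (g.app i)).obj W := fun x hx => ⟨x, hx, rfl⟩
    have hT' := congrArg (fun z => tr.{0, u} ((pullG g).obj A) (𝟙 i) (le_id.{0, u} e₂) (usec g A i W z))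
      ((res_map.{0, u} A (le_top : W ≤ ⊤) T).symm.trans hT)
    beta_reduce at hT'
    rw [usec_tr, tr_tr, ht, tr_tr] at hT'
    exact (tr_congr.{0, u} rfl _ _ _).trans (hT'.trans ((tr_congr.{0, u} (Category.id_comp _) _
      (le_id.{0, u} le_rfl) s).trans (tr_self.{0, u} _ s)))

/-- Soft sheaves on the fibres. -/
theorem soft_pullG [CompactSpace (Z.obj i)] (hi : IsInducing (g.app i))
    (hsep : ∀ a b, a ≠ b → Disjoint (𝓝 (g.app i a)) (𝓝 (g.app i b)))
    [hA : TopCat.Sheaf.IsFlasque ((res.{0, u} Y i).obj A)] :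
    CTopNbd.Soft (X := Z.obj i) id {C | IsClosed C} ((res.{0, u} Z i).obj ((pullG g).obj A)) := by
  intro C hC U hCU n
  obtain ⟨O, hO, hOU⟩ := hi.isOpen_iff.1 U.2
  obtain rfl : (Opens.map (g.app i)).obj ⟨O, hO⟩ = U := Opens.ext hOU
  obtain ⟨U₁, hU₁, hCU₁, f, hf⟩ := CTopNbd.lift_near (CTopNbd.ctx_compact hi hsep) (unitMor g A i)
    (locSurj_unitMor g A i hi) ((locInj_unitMor g A i).kerExt _) hC (U₀ := ⟨O, hO⟩) hCU n
  obtain ⟨fT, hfT⟩ := (AddCommGrpCat.epi_iff_surjective _).1 (hA.epi (homOfLE (le_top : U₁ ≤ ⊤)).op) f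
  refine ⟨usec g A i ⊤ fT, (Opens.map (g.app i)).obj U₁, fun a ha => hU₁ ha, hCU₁, ?_⟩
  have e := ((CTopNbd.sa_rs (unitMor g A i) (le_top : U₁ ≤ ⊤) fT).symm.trans (congrArg _ hfT)).trans hf
  refine (res_map.{0, u} ((pullG g).obj A) _ _).trans (Eq.trans ?_ (res_map.{0, u} ((pullG g).obj A) _ n).symm)
  exact ((res_map.{0, u} ((pushG g).obj ((pullG g).obj A)) (le_top : U₁ ≤ ⊤) _).symm.trans e).trans
    (res_map.{0, u} ((pushG g).obj ((pullG g).obj A)) hU₁ n)

end Generic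

variable {Y : Aug ⥤ TopCat.{u}}

theorem cs_self {Z : Aug ⥤ TopCat.{u}} (A : PSh Z) {U : Opens (Z.obj pnt)} (h : U ≤ U) (i : SimplexCategoryᵒᵖ)
    (s : CS A U i) : cr A h i s = s :=
  tr_self.{0, u} (Y := prt Z) _ s

section Open

variable (T : Set (Y.obj pnt))

theorem pre_subset_range {U : Opens (Y.obj pnt)} (hU : (U : Set (Y.obj pnt)) ⊆ T) (i : SimplexCategoryᵒᵖ) :
    (pre U (toAug.obj i) : Set (Y.obj (toAug.obj i))) ⊆ Set.range ((gP (subι Y T)).app i) := fun x hx => by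
  show x ∈ Set.range ((subι Y T).app (toAug.obj i))
  rw [range_subι]
  exact hU hx

theorem us_bijective (A : PSh Y) {U : Opens (Y.obj pnt)} (hU : (U : Set (Y.obj pnt)) ⊆ T) (i : SimplexCategoryᵒᵖ) :
    Function.Bijective (us (subι Y T) A U i) := by
  have hi : IsInducing ((gP (subι Y T)).app i) := (subι_isEmbedding Y T (toAug.obj i)).isInducing
  have e := pre_preimg (subι Y T) U (toAug.obj i)
  have hb : Function.Bijective (tr.{0, u} (Y := prt (subY Y T)) ((pullG (gP (subι Y T))).obj A) (𝟙 i)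
      (le_id.{0, u} (Y := prt (subY Y T)) e.le)) := by
    refine Function.bijective_iff_has_inverse.2 ⟨tr.{0, u} (Y := prt (subY Y T)) _ (𝟙 i)
      (le_id.{0, u} (Y := prt (subY Y T)) e.ge), fun s => ?_, fun s => ?_⟩
    · rw [tr_tr]
      exact (tr_congr.{0, u} (Category.id_comp _) _ (le_id.{0, u} le_rfl) s).trans (tr_self.{0, u} _ s)
    · rw [tr_tr]
      exact (tr_congr.{0, u} (Category.id_comp _) _ (le_id.{0, u} le_rfl) s).trans (tr_self.{0, u} _ s)
  exact hb.comp ⟨usec_injective _ A i (pre_subset_range T hU i), usec_surjective _ A i hi (pre_subset_range T hU i)⟩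

theorem nearBC_open (hT : IsOpen T) (y' : (subY Y T).obj pnt) : NearBC (subι Y T) y' where
  surj A i U' hy t' := by
    let V : Opens (Y.obj pnt) := ⟨(subι Y T).app pnt '' (U' : Set ((subY Y T).obj pnt)),
      (subι_isOpenEmbedding Y T hT pnt).isOpenMap _ U'.isOpen⟩
    have hV : (V : Set (Y.obj pnt)) ⊆ T := by
      rintro _ ⟨x, -, rfl⟩
      exact subι_pnt_mem Y T x
    have h₁ : U' ≤ (Opens.map ((subι Y T).app pnt)).obj V := fun x hx => ⟨x, hx, rfl⟩
    have h₂ : (Opens.map ((subι Y T).app pnt)).obj V ≤ U' := by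
      rintro x ⟨x', hx', e⟩
      exact subι_injective Y T pnt e ▸ hx'
    obtain ⟨t, ht⟩ := (us_bijective T A hV i).2 (cr _ h₂ i t')
    refine ⟨V, h₁ hy, U', h₁, le_rfl, t, hy, ?_⟩
    rw [ht, cr_cr]
  inj A i V t W h hy h0 := by
    let V₂ : Opens (Y.obj pnt) := ⟨(subι Y T).app pnt '' (W : Set ((subY Y T).obj pnt)),
      (subι_isOpenEmbedding Y T hT pnt).isOpenMap _ W.isOpen⟩
    have hV₂ : V₂ ≤ V := by
      rintro _ ⟨x, hx, rfl⟩
      exact h hx
    have hsub : (V₂ : Set (Y.obj pnt)) ⊆ T := by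
      rintro _ ⟨x, -, rfl⟩
      exact subι_pnt_mem Y T x
    have h₂ : (Opens.map ((subι Y T).app pnt)).obj V₂ ≤ W := by
      rintro x ⟨x', hx', e⟩
      exact subι_injective Y T pnt e ▸ hx'
    refine ⟨V₂, hV₂, ⟨y', hy, rfl⟩, (us_bijective T A hsub i).1 ?_⟩
    rw [us_cr, map_zero, ← cr_cr _ h h₂, h0, map_zero]

theorem isZero_rpush_open [EnoughInjectives (PSh (subY Y T))] (hT : IsOpen T) (I : PSh Y) [Injective I] (q : ℕ) :
    IsZero (((pushA (subY Y T)).rightDerived (q + 1)).obj ((pullG (gP (subι Y T))).obj I)) := by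
  refine isZero_rpush_of_flasque (fun i => ?_) (fun U' => ?_) q
  · haveI := isFlasque_res_of_injective.{0, u} I i
    exact isFlasque_pullG_of_open (gP (subι Y T)) I i (subι_isOpenEmbedding Y T hT (toAug.obj i))
  · let V : Opens (Y.obj pnt) := ⟨(subι Y T).app pnt '' (U' : Set ((subY Y T).obj pnt)),
      (subι_isOpenEmbedding Y T hT pnt).isOpenMap _ U'.isOpen⟩
    have hV : (V : Set (Y.obj pnt)) ⊆ T := by
      rintro _ ⟨x, -, rfl⟩
      exact subι_pnt_mem Y T x
    have e : (Opens.map ((subι Y T).app pnt)).obj V = U' := by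
      refine le_antisymm ?_ fun x hx => ⟨x, hx, rfl⟩
      rintro x ⟨x', hx', e⟩
      exact subι_injective Y T pnt e ▸ hx'
    rw [← e]
    intro n s' hs'
    obtain ⟨s, rfl⟩ := (us_bijective T I hV _).2 s'
    have hs : dd I V (n + 1) s = 0 := by
      refine (us_bijective T I hV _).1 ?_
      rw [map_zero, ← hs', dd_apply, dd_apply, map_sum]
      exact Finset.sum_congr rfl fun k _ => by rw [map_zsmul, us_ct]
    obtain ⟨t, rfl⟩ := acy_of_injective I V n s hs
    refine ⟨us (subι Y T) I V _ t, ?_⟩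
    rw [dd_apply, dd_apply, map_sum]
    exact Finset.sum_congr rfl fun k _ => by rw [map_zsmul, us_ct]

end Open

section Fibre

variable (y : Y.obj pnt) (hclosed : ∀ i : SimplexCategoryᵒᵖ, IsClosedMap (Y.map (th (toAug.obj i))))
  (hcpt : ∀ i : SimplexCategoryᵒᵖ, CompactSpace ((subY Y {y}).obj (toAug.obj i)))
  (hsep : ∀ (i : SimplexCategoryᵒᵖ) (a b : (subY Y {y}).obj (toAug.obj i)), a ≠ b →
    Disjoint (𝓝 ((subι Y {y}).app (toAug.obj i) a)) (𝓝 ((subι Y {y}).app (toAug.obj i) b)))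

theorem pnt_fibre_eq (a b : (subY Y {y}).obj pnt) : a = b :=
  subι_injective Y {y} pnt ((Set.mem_singleton_iff.1 (subι_pnt_mem Y {y} a)).trans
    (Set.mem_singleton_iff.1 (subι_pnt_mem Y {y} b)).symm)

theorem pre_fibre_top {W : Opens ((subY Y {y}).obj pnt)} {y' : (subY Y {y}).obj pnt} (hy : y' ∈ W)
    (j : Aug) (x : (subY Y {y}).obj j) : x ∈ pre W j := by
  show (subY Y {y}).map (th j) x ∈ W
  rw [pnt_fibre_eq y ((subY Y {y}).map (th j) x) y']
  exact hy

include hclosed in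
theorem exists_tube {V : Opens (Y.obj pnt)} {i : SimplexCategoryᵒᵖ} {y' : (subY Y {y}).obj pnt}
    (hy : (subι Y {y}).app pnt y' ∈ V) (E : Opens (Y.obj (toAug.obj i)))
    (hE : ∀ a : (subY Y {y}).obj (toAug.obj i), (subι Y {y}).app _ a ∈ E) :
    ∃ (V₂ : Opens (Y.obj pnt)), V₂ ≤ V ∧ (subι Y {y}).app pnt y' ∈ V₂ ∧ pre V₂ (toAug.obj i) ≤ E := by
  refine ⟨V ⊓ ⟨(Y.map (th (toAug.obj i)) '' (E : Set (Y.obj (toAug.obj i)))ᶜ)ᶜ,
    (hclosed i _ E.isOpen.isClosed_compl).isOpen_compl⟩, inf_le_left, ⟨hy, ?_⟩, fun x hx => ?_⟩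
  · rintro ⟨x, hx, e⟩
    have hx' : x ∈ subSet Y {y} (toAug.obj i) := Set.mem_singleton_iff.2
      (e.trans (Set.mem_singleton_iff.1 (subι_pnt_mem Y {y} y')))
    exact hx (hE ⟨x, hx'⟩)
  · by_contra h
    exact hx.2 ⟨x, h, rfl⟩

include hclosed hcpt hsep in
theorem nearBC_fibre (y' : (subY Y {y}).obj pnt) : NearBC (subι Y {y}) y' where
  surj A i U' hy t' := by
    haveI : CompactSpace ((prt (subY Y {y})).obj i) := hcpt i
    have hi : IsInducing ((gP (subι Y {y})).app i) := (subι_isEmbedding Y {y} (toAug.obj i)).isInducing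
    let G := gP (subι Y {y})
    let n : sec.{0, u} ((pullG G).obj A) i ((Opens.map (G.app i)).obj ⊤) :=
      tr.{0, u} (Y := prt (subY Y {y})) _ (𝟙 i) (le_id.{0, u} (Y := prt (subY Y {y}))
        (fun a _ => pre_fibre_top y hy (toAug.obj i) a)) t'
    obtain ⟨E, hE, hAE, f, hf⟩ := CTopNbd.lift_near (CTopNbd.ctx_compact hi (hsep i)) (unitMor G A i)
      (locSurj_unitMor G A i hi) ((locInj_unitMor G A i).kerExt _) isClosed_univ (U₀ := ⊤)
      (fun a _ => trivial) n
    obtain ⟨V, -, hV, hVE⟩ := exists_tube y hclosed (V := ⊤) (i := i) (y' := y') trivial E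
      fun a => hAE (Set.mem_univ a)
    refine ⟨V, hV, (Opens.map ((subι Y {y}).app pnt)).obj V ⊓ U', inf_le_left, inf_le_right,
      tr.{0, u} (Y := prt Y) A (𝟙 i) (le_id.{0, u} (Y := prt Y) hVE) f, ⟨hV, hy⟩, ?_⟩
    have hf' : usec G A i E f = tr.{0, u} (Y := prt (subY Y {y})) ((pullG G).obj A) (𝟙 i)
        (le_id.{0, u} (Y := prt (subY Y {y})) (fun a ha => hE ha)) n :=
      hf.trans (res_map.{0, u} ((pushG G).obj ((pullG G).obj A)) hE n)
    show tr.{0, u} _ _ _ (tr.{0, u} _ _ _ (usec G A i _ (tr.{0, u} A _ _ f))) = _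
    rw [usec_tr, hf', tr_tr, tr_tr, tr_tr, tr_tr]
    exact tr_congr.{0, u} (by simp) _ _ _
  inj A i V t W h hy h0 := by
    have hi : IsInducing ((gP (subι Y {y})).app i) := (subι_isEmbedding Y {y} (toAug.obj i)).isInducing
    let G := gP (subι Y {y})
    have hz : usec G A i (pre V (toAug.obj i)) t = 0 := by
      refine sec_ext.{0, u} _ _ fun a ha => ?_
      have hW : a ∈ pre W (toAug.obj i) := pre_fibre_top y hy _ a
      refine Eq.trans ?_ (map_zero (gm.{0, u} ((pullG G).obj A) a ha)).symm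
      refine (gm_res.{0, u} (A := (pullG G).obj A) a (W := pre W (toAug.obj i))
        (fun b hb => (pre_preimg (subι Y {y}) V (toAug.obj i)).le (pre_mono h _ hb)) hW _).symm.trans ?_
      refine Eq.trans (congrArg _ ?_) (map_zero _)
      refine Eq.trans ?_ h0
      refine Eq.trans ?_ (tr_tr.{0, u} _ _ _ _ _).symm
      exact tr_congr.{0, u} (Category.id_comp _).symm _ _ _
    obtain ⟨E, hE, hmem, hE0⟩ := (locInj_unitMor G A i).zero_near t hz
    obtain ⟨V₂, hV₂, hy₂, hVE⟩ := exists_tube y hclosed (V := V) (i := i) (y' := y') (h hy) E fun a => hmem a (by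
      show Y.map (th (toAug.obj i)) a.1 ∈ V
      have e : Y.map (th (toAug.obj i)) a.1 = (subι Y {y}).app pnt y' :=
        (Set.mem_singleton_iff.1 a.2).trans (Set.mem_singleton_iff.1 (subι_pnt_mem Y {y} y')).symm
      rw [e]
      exact h hy)
    refine ⟨V₂, hV₂, hy₂, ?_⟩
    have e := congrArg (tr.{0, u} (Y := prt Y) A (𝟙 i) (le_id.{0, u} (Y := prt Y) hVE))
      ((res_map.{0, u} A hE t).symm.trans hE0)
    replace e := ((tr_tr.{0, u} _ _ _ _ t).symm.trans e).trans (map_zero _)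
    exact (tr_congr.{0, u} (Category.id_comp _).symm _ _ _).trans e

include hclosed hcpt hsep in
theorem isZero_rpush_fibre [EnoughInjectives (PSh (subY Y {y}))] (I : PSh Y) [Injective I] (q : ℕ) :
    IsZero (((pushA (subY Y {y})).rightDerived (q + 1)).obj ((pullG (gP (subι Y {y}))).obj I)) := by
  have hcs : ∀ i : SimplexCategoryᵒᵖ, CompactSpace ((prt (subY Y {y})).obj i) := hcpt
  have ht2 : ∀ i : SimplexCategoryᵒᵖ, T2Space ((prt (subY Y {y})).obj i) := fun i =>
    CTopNbd.t2Space_of_sep (subι_isEmbedding Y {y} (toAug.obj i)).isInducing (hsep i)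
  refine isZero_rpush
    (fun M => ∀ i, CTopNbd.Soft (X := (prt (subY Y {y})).obj i) id {C | IsClosed C}
      ((res.{0, u} (prt (subY Y {y})) i).obj M))
    (fun {S} hS h₁ h₂ i => ?_) (fun {S} hS h₁ U i s => ?_) (fun i => ?_) (fun U n s hs => ?_) q
  · haveI := hcs i
    haveI := ht2 i
    haveI : TopCat.Sheaf.IsFlasque (S.map (res.{0, u} (prt (subY Y {y})) i)).X₂ :=
      @isFlasque_res_of_injective _ _ (prt (subY Y {y})) S.X₂ h₂ i
    exact CTopNbd.soft_quotient CTopNbd.ctx_compact_id (shortExact_res hS i) (h₁ i)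
  · haveI := hcs i
    haveI := ht2 i
    by_cases hU : ∃ y', y' ∈ U
    · obtain ⟨y', hy⟩ := hU
      obtain ⟨E, hE, hAE, f, hf⟩ := CTopNbd.lift_near CTopNbd.ctx_compact_id
        (S.map (res.{0, u} (prt (subY Y {y})) i)).g
        (CTopNbd.locSurj_of_epi id _ (shortExact_res hS i).epi_g)
        (CTopNbd.kerExt_of_soft (shortExact_res hS i) (h₁ i)) isClosed_univ (U₀ := pre U (toAug.obj i))
        (fun a _ => pre_fibre_top y hy _ a) s
      refine ⟨CTopNbd.rs _ (fun a _ => hAE (Set.mem_univ a) : pre U (toAug.obj i) ≤ E) f, ?_⟩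
      let M := (S.map (res.{0, u} (prt (subY Y {y})) i)).X₃
      have hle : pre U (toAug.obj i) ≤ E := fun a _ => hAE (Set.mem_univ a)
      refine (CTopNbd.sa_rs (S.map (res.{0, u} (prt (subY Y {y})) i)).g hle f).trans ?_
      refine (congrArg _ hf).trans ?_
      exact (CTopNbd.rs_rs M hE hle s).trans (CTopNbd.rs_self M _ s)
    · refine ⟨0, sec_ext.{0, u} _ _ fun a ha => ?_⟩
      exact (hU ⟨_, ha⟩).elim
  · haveI := hcs i
    haveI := isFlasque_res_of_injective.{0, u} I i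
    exact soft_pullG (gP (subι Y {y})) I i (subι_isEmbedding Y {y} (toAug.obj i)).isInducing (hsep i)
  · by_cases hU : ∃ y', y' ∈ U
    · obtain ⟨y', hy⟩ := hU
      have hn := nearBC_fibre y hclosed hcpt hsep y'
      obtain ⟨V, hV, W, h₁, h₂, t, hyW, ht⟩ := hn.surj I (op ⦋n + 1⦌) U hy s
      have hUW : U ≤ W := fun a _ => pnt_fibre_eq y y' a ▸ hyW
      have hd : cr _ h₁ _ (us (subι Y {y}) I V _ (dd I V (n + 1) t)) = 0 := by
        have e : ∀ {P Q : Opens ((subY Y {y}).obj pnt)} (h : Q ≤ P) (m : ℕ)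
            (z : CS ((pullG (gP (subι Y {y}))).obj I) P (op ⦋m⦌)),
            cr _ h _ (dd _ P m z) = dd _ Q m (cr _ h _ z) := fun h m z => by
          rw [dd_apply, dd_apply, map_sum]
          exact Finset.sum_congr rfl fun k _ => by rw [map_zsmul, cr_ct]
        have e' : us (subι Y {y}) I V _ (dd I V (n + 1) t) = dd _ _ (n + 1) (us (subι Y {y}) I V _ t) := by
          rw [dd_apply, dd_apply, map_sum]
          exact Finset.sum_congr rfl fun k _ => by rw [map_zsmul, us_ct]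
        rw [e', e, ht, ← e, hs, map_zero]
      obtain ⟨V₂, hV₂, hy₂, hd₂⟩ := hn.inj I _ V _ W h₁ hyW hd
      have hd₃ : dd I V₂ (n + 1) (cr I hV₂ _ t) = 0 := by
        rw [dd_apply] at hd₂ ⊢
        rw [map_sum] at hd₂
        rw [← hd₂]
        exact Finset.sum_congr rfl fun k _ => by rw [map_zsmul, cr_ct]
      obtain ⟨w, hw⟩ := acy_of_injective I V₂ n _ hd₃
      have hU₂ : U ≤ (Opens.map ((subι Y {y}).app pnt)).obj V₂ := fun a _ => pnt_fibre_eq y y' a ▸ hy₂
      refine ⟨cr _ hU₂ _ (us (subι Y {y}) I V₂ _ w), ?_⟩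
      have e'' := congrArg (fun z => cr _ hU₂ _ (us (subι Y {y}) I V₂ _ z)) hw
      simp only [dd_apply, map_sum, map_zsmul, us_ct, us_cr] at e''
      rw [cr_cr] at e''
      rw [dd_apply]
      refine Eq.trans ?_ (e''.trans ?_)
      · exact Finset.sum_congr rfl fun k _ => by rw [cr_ct]
      · have e3 := congrArg (cr _ hUW _) ht
        rw [cr_cr, cr_cr, cs_self] at e3
        exact e3
    · refine ⟨0, ?_⟩
      rw [map_zero]
      exact sec_ext.{0, u} _ _ fun a ha => (hU ⟨_, ha⟩).elim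

end Fibre

end Groth.Agent.FibDesc74
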