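import Groth.Agent.FibDesc74.Compat
import Groth.Agent.FibDesc74.Near

/-!
# Acyclicity of inverse images from acyclicity over a covering of the base
-/

set_option autoImplicit false

universe u

open CategoryTheory CategoryTheory.Limits Opposite TopologicalSpace Topology

namespace Groth.Agent.FibDesc74

variable {Y : Aug ⥤ TopCat.{u}}

theorem isZero_rd_of_open_cover {κ : Type u} (T : κ → Set (Y.obj pnt)) (hT : ∀ k, IsOpen (T k))
    (hcov : ∀ y, ∃ k, y ∈ T k)
    (h : ∀ k (G' : CohTop.Ab ((subY Y (T k)).obj pnt)) (q : ℕ),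
      IsZero (((pushA (subY Y (T k))).rightDerived (q + 1)).obj ((pullA (subY Y (T k))).obj G')))
    (G : CohTop.Ab (Y.obj pnt)) (q : ℕ) :
    IsZero (((pushA Y).rightDerived (q + 1)).obj ((pullA Y).obj G)) := by
  refine isZero_rpush_of_pullG (Y := Y) (κ := κ) (Zf := fun k => subY Y (T k)) (fun k => subι Y (T k))
    (fun y => ?_) (fun k I hI q => ?_) (fun k q => ?_) q
  · obtain ⟨k, hk⟩ := hcov y
    obtain ⟨y', hy'⟩ := exists_subι_pnt Y (T k) hk
    exact ⟨k, y', hy', nearBC_open (T k) (hT k) y'⟩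
  · exact @isZero_rpush_open Y (T k) _ (hT k) I hI q
  · exact isZero_rd_pullG_pullA (subι Y (T k)) (h k) G q

theorem isZero_rd_of_fibres (hclosed : ∀ i : SimplexCategoryᵒᵖ, IsClosedMap (Y.map (th (toAug.obj i))))
    (hcpt : ∀ (y : Y.obj pnt) (i : SimplexCategoryᵒᵖ), CompactSpace ((subY Y {y}).obj (toAug.obj i)))
    (hsep : ∀ (y : Y.obj pnt) (i : SimplexCategoryᵒᵖ) (a b : (subY Y {y}).obj (toAug.obj i)), a ≠ b →
      Disjoint (𝓝 ((subι Y {y}).app (toAug.obj i) a)) (𝓝 ((subι Y {y}).app (toAug.obj i) b)))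
    (h : ∀ y (G' : CohTop.Ab ((subY Y {y}).obj pnt)) (q : ℕ),
      IsZero (((pushA (subY Y {y})).rightDerived (q + 1)).obj ((pullA (subY Y {y})).obj G')))
    (G : CohTop.Ab (Y.obj pnt)) (q : ℕ) :
    IsZero (((pushA Y).rightDerived (q + 1)).obj ((pullA Y).obj G)) := by
  refine isZero_rpush_of_pullG (Y := Y) (κ := (Y.obj pnt)) (Zf := fun y => subY Y {y}) (fun y => subι Y {y})
    (fun y => ?_) (fun y I hI q => ?_) (fun y q => ?_) q
  · obtain ⟨y', hy'⟩ := exists_subι_pnt Y {y} (Set.mem_singleton y)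
    exact ⟨y, y', hy', nearBC_fibre y hclosed (hcpt y) (hsep y) y'⟩
  · exact @isZero_rpush_fibre Y y hclosed (hcpt y) (hsep y) _ I hI q
  · exact isZero_rd_pullG_pullA (subι Y {y}) (h y) G q

end Groth.Agent.FibDesc74
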