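import Groth.Agent.FibDesc74.Criterion
import Groth.Agent.FibDesc74.CechSplit
import Groth.Agent.FibDesc74.Cover
import Mathlib.Topology.Maps.Proper.Basic

/-!
# Maps of cohomological descent: local sections and proper surjections
-/

set_option autoImplicit false

universe u

open CategoryTheory CategoryTheory.Limits Opposite TopologicalSpace Topology Filter
open Simplicial

namespace Groth.Agent.FibDesc74

variable {X S : TopCat.{u}} (f : X ⟶ S)

/-- The subspace of tuples in a common fibre. -/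
noncomputable abbrev wSub (n : ℕ) : TopCat.{u} :=
  TopCat.of {p : S × (Fin (n + 1) → X) // ∀ j, f (p.2 j) = p.1}

/-- The comparison with the subspace of tuples. -/
noncomputable def wΦ (n : ℕ) : wp f n ⟶ wSub f n :=
  TopCat.ofHom ⟨fun p => ⟨(wb f n p, fun j => wπ f n j p),
      fun j => ConcreteCategory.congr_hom (WidePullback.π_arrow (fun _ : Fin (n + 1) => f) j) p⟩,
    ((wb f n).hom.continuous.prodMk (continuous_pi fun j => (wπ f n j).hom.continuous)).subtype_mk _⟩

/-- Its inverse. -/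
noncomputable def wΨ (n : ℕ) : wSub f n ⟶ wp f n :=
  WidePullback.lift (TopCat.ofHom ⟨fun p => p.1.1, continuous_fst.comp continuous_subtype_val⟩)
    (fun j => TopCat.ofHom ⟨fun p => p.1.2 j,
      (continuous_apply j).comp (continuous_snd.comp continuous_subtype_val)⟩)
    (fun j => ConcreteCategory.hom_ext _ _ fun p => p.2 j)

theorem wΨ_π (n : ℕ) (j : Fin (n + 1)) (p : wSub f n) : wπ f n j (wΨ f n p) = p.1.2 j :=
  ConcreteCategory.congr_hom (WidePullback.lift_π (fun _ : Fin (n + 1) => f) _ _ _ j :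
    wΨ f n ≫ wπ f n j = TopCat.ofHom ⟨fun p => p.1.2 j,
      (continuous_apply j).comp (continuous_snd.comp continuous_subtype_val)⟩) p

theorem wΨ_base (n : ℕ) (p : wSub f n) : wb f n (wΨ f n p) = p.1.1 :=
  ConcreteCategory.congr_hom (WidePullback.lift_base (fun _ : Fin (n + 1) => f) _ _ _ :
    wΨ f n ≫ wb f n = TopCat.ofHom ⟨fun p => p.1.1, continuous_fst.comp continuous_subtype_val⟩) p

/-- The nerve in degree `n` as a space of tuples. -/
noncomputable def wHomeo (n : ℕ) : wp f n ≃ₜ wSub f n where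
  toFun := wΦ f n
  invFun := wΨ f n
  left_inv p := wp_ext f (fun j => wΨ_π f n j _) (wΨ_base f n _)
  right_inv p := Subtype.ext (Prod.ext (wΨ_base f n p) (funext fun j => wΨ_π f n j p))
  continuous_toFun := (wΦ f n).hom.continuous
  continuous_invFun := (wΨ f n).hom.continuous

theorem wEmb (n : ℕ) : IsEmbedding fun p : wp f n => (wb f n p, fun j => wπ f n j p) :=
  (IsEmbedding.subtypeVal.comp (wHomeo f n).isEmbedding :)

theorem wb_eq_π (n : ℕ) (j : Fin (n + 1)) (p : wp f n) : f (wπ f n j p) = wb f n p :=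
  ConcreteCategory.congr_hom (WidePullback.π_arrow (fun _ : Fin (n + 1) => f) j) p

theorem exists_pair (x x' : (cY f).obj (toAug.obj (op ⦋0⦌)))
    (h : (cY f).map (th _) x = (cY f).map (th _) x') :
    ∃ w : (cY f).obj (toAug.obj (op ⦋1⦌)), (cY f).map (toAug.map (SimplexCategory.δ (1 : Fin 2)).op) w = x ∧
      (cY f).map (toAug.map (SimplexCategory.δ (0 : Fin 2)).op) w = x' := by
  have hbase : wb f 0 x = wb f 0 x' := h
  refine ⟨wΨ f 1 ⟨(wb f 0 x, ![wπ f 0 0 x, wπ f 0 0 x']), fun j => ?_⟩, ?_, ?_⟩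
  · fin_cases j
    · exact wb_eq_π f 0 0 x
    · exact (wb_eq_π f 0 0 x').trans hbase.symm
  · refine wp_ext f (fun j => ?_) ?_
    · obtain rfl : j = 0 := Subsingleton.elim (α := Fin 1) j 0
      exact (cY_π_apply f (SimplexCategory.δ (1 : Fin 2)) (0 : Fin 1) _).trans (wΨ_π f 1 _ _)
    · exact (cY_base_apply f (SimplexCategory.δ (1 : Fin 2)) _).trans (wΨ_base f 1 _)
  · refine wp_ext f (fun j => ?_) ?_
    · obtain rfl : j = 0 := Subsingleton.elim (α := Fin 1) j 0
      exact (cY_π_apply f (SimplexCategory.δ (0 : Fin 2)) (0 : Fin 1) _).trans (wΨ_π f 1 _ _)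
    · exact ((cY_base_apply f (SimplexCategory.δ (0 : Fin 2)) _).trans (wΨ_base f 1 _)).trans hbase

theorem wb_zero_surjective (hsurj : Function.Surjective f) : Function.Surjective (wb f 0) := fun y => by
  obtain ⟨x, hx⟩ := hsurj y
  exact ⟨wΨ f 0 ⟨(y, fun _ => x), fun _ => hx⟩, wΨ_base f 0 _⟩

/-- Continuous sections exist locally on the base. -/
def HasLocSec : Prop :=
  ∀ y : S, ∃ T : Set S, IsOpen T ∧ y ∈ T ∧
    ∃ σ : TopCat.of T ⟶ X, σ ≫ f = TopCat.ofHom ⟨Subtype.val, continuous_subtype_val⟩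

variable {f}

theorem HasLocSec.surjective (h : HasLocSec f) : Function.Surjective f := fun y => by
  obtain ⟨T, -, hy, σ, hσ⟩ := h y
  exact ⟨σ ⟨y, hy⟩, ConcreteCategory.congr_hom hσ ⟨y, hy⟩⟩

theorem HasLocSec.isQuotientMap (h : HasLocSec f) : IsQuotientMap (wb f 0) := by
  refine ⟨.of_isOpen_preimage_iff_isOpen fun A =>
    ⟨fun hA => ?_, fun hA => hA.preimage (wb f 0).hom.continuous⟩, wb_zero_surjective f h.surjective⟩
  rw [isOpen_iff_forall_mem_open]
  intro y hy
  obtain ⟨T, hT, hyT, σ, hσ⟩ := h y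
  let s : T → wp f 0 := fun t => wΨ f 0 ⟨(t.1, fun _ => σ t), fun _ => ConcreteCategory.congr_hom hσ t⟩
  have hs : Continuous s := (wΨ f 0).hom.continuous.comp
    ((continuous_subtype_val.prodMk (continuous_pi fun _ => σ.hom.continuous)).subtype_mk _)
  have e : s ⁻¹' (wb f 0 ⁻¹' A) = (Subtype.val : T → S) ⁻¹' A :=
    Set.ext fun t => Iff.of_eq (congrArg (· ∈ A) (wΨ_base f 0 _))
  have ho := hA.preimage hs
  rw [e] at ho
  refine ⟨Subtype.val '' ((Subtype.val : T → S) ⁻¹' A), ?_, hT.isOpenMap_subtype_val _ ho, ⟨⟨y, hyT⟩, hy, rfl⟩⟩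
  rintro _ ⟨t, ht, rfl⟩
  exact ht

/-- Maps with local sections are of cohomological descent. -/
theorem HasLocSec.isCohDescentMap (h : HasLocSec f) : FibDesc.IsCohDescentMap f := by
  refine isCohDescentTop_of fun G => ⟨isIso_adjA_unit h.isQuotientMap (exists_pair f) G, fun q => ?_⟩
  choose T hT hyT σ hσ using h
  exact isZero_rd_of_open_cover (Y := cY f) (κ := S) T hT (fun y => ⟨y, hyT y⟩)
    (fun k => pullAcyclic_sub f (T k) (σ k) (hσ k)) G q

theorem HasLocSec.baseChange (h : HasLocSec f) {S' : TopCat.{u}} (g : S' ⟶ S) :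
    HasLocSec (pullback.snd f g) := fun y => by
  obtain ⟨T, hT, hy, σ, hσ⟩ := h (g y)
  let i' : TopCat.of (g ⁻¹' T) ⟶ S' := TopCat.ofHom ⟨Subtype.val, continuous_subtype_val⟩
  let r : TopCat.of (g ⁻¹' T) ⟶ TopCat.of T :=
    TopCat.ofHom ⟨fun t => ⟨g t.1, t.2⟩, (g.hom.continuous.comp continuous_subtype_val).subtype_mk _⟩
  have w : (r ≫ σ) ≫ f = i' ≫ g := by
    rw [Category.assoc, hσ]
    rfl
  exact ⟨g ⁻¹' T, hT.preimage g.hom.continuous, hy, pullback.lift (r ≫ σ) i' w, pullback.lift_snd _ _ w⟩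

theorem HasLocSec.isUnivCohDescentMap (h : HasLocSec f) : FibDesc.IsUnivCohDescentMap f := fun _ g =>
  (h.baseChange g).isCohDescentMap

theorem hasLocSec_of_section {s : S ⟶ X} (h : s ≫ f = 𝟙 S) : HasLocSec f := fun y =>
  ⟨Set.univ, isOpen_univ, trivial, TopCat.ofHom ⟨Subtype.val, continuous_subtype_val⟩ ≫ s, by
    rw [Category.assoc, h, Category.comp_id]⟩

theorem hasLocSec_of_isLocalHomeomorph (hf : IsLocalHomeomorph f) (hsurj : Function.Surjective f) :
    HasLocSec f := fun y => by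
  obtain ⟨x, rfl⟩ := hsurj y
  obtain ⟨e, hx, he⟩ := hf x
  refine ⟨e.target, e.open_target, he ▸ e.map_source hx,
    TopCat.ofHom ⟨fun t => e.symm t.1, e.continuousOn_symm.domRestrict⟩, ?_⟩
  refine ConcreteCategory.hom_ext _ _ fun t => ?_
  show f (e.symm t.1) = t.1
  rw [he]
  exact e.right_inv t.2

section Proper

variable (hf : IsProperMap f)

include hf in
theorem isProperMap_wb (n : ℕ) : IsProperMap (wb f n) := by
  rw [isProperMap_iff_ultrafilter]
  refine ⟨(wb f n).hom.continuous, fun 𝒰 y hy => ?_⟩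
  have hlim : ∀ j, ∃ x : X, f x = y ∧ Tendsto (fun p => wπ f n j p) 𝒰 (𝓝 x) := fun j => by
    have : Tendsto f ((𝒰.map fun p => wπ f n j p : Ultrafilter X) : Filter X) (𝓝 y) := by
      refine Tendsto.congr' ?_ (hy.comp (tendsto_id)) |> fun h => tendsto_map'_iff.2 h
      exact Eventually.of_forall fun p => (wb_eq_π f n j p).symm
    obtain ⟨x, hx, hle⟩ := hf.ultrafilter_le_nhds_of_tendsto this
    exact ⟨x, hx, hle⟩
  choose x hx hlim using hlim
  refine ⟨wΨ f n ⟨(y, x), hx⟩, wΨ_base f n _, ?_⟩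
  have h2 : Tendsto (fun p : wp f n => (wb f n p, fun j => wπ f n j p)) 𝒰 (𝓝 (y, x)) :=
    hy.prodMk_nhds (tendsto_pi_nhds.2 hlim)
  have h3 : (wb f n (wΨ f n ⟨(y, x), hx⟩), fun j => wπ f n j (wΨ f n ⟨(y, x), hx⟩)) = (y, x) :=
    Prod.ext (wΨ_base f n _) (funext fun j => wΨ_π f n j _)
  rw [(wEmb f n).isInducing.nhds_eq_comap, h3]
  exact map_le_iff_le_comap.1 h2

include hf in
theorem isCohDescentMap_of_proper
    (hs : ∀ x x' : X, f x = f x' → x ≠ x' → ∃ U V : Set X, IsOpen U ∧ IsOpen V ∧ x ∈ U ∧ x' ∈ V ∧ Disjoint U V)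
    (hsurj : Function.Surjective f) : FibDesc.IsCohDescentMap f := by
  have hclosed : ∀ i : SimplexCategoryᵒᵖ, IsClosedMap ((cY f).map (th (toAug.obj i))) := fun i =>
    (isProperMap_wb hf i.unop.len).isClosedMap
  have hq : IsQuotientMap ((cY f).map (th (toAug.obj (op ⦋0⦌)))) :=
    (hclosed _).isQuotientMap (wb f 0).hom.continuous (wb_zero_surjective f hsurj)
  have hcpt : ∀ (y : S) (i : SimplexCategoryᵒᵖ), CompactSpace ((subY (cY f) {y}).obj (toAug.obj i)) := fun y i =>
    isCompact_iff_compactSpace.1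
      ((isProperMap_wb hf i.unop.len).isCompact_preimage (isCompact_singleton (x := y)))
  have hsep : ∀ (y : S) (i : SimplexCategoryᵒᵖ) (a b : (subY (cY f) {y}).obj (toAug.obj i)), a ≠ b →
      Disjoint (𝓝 ((subι (cY f) {y}).app (toAug.obj i) a)) (𝓝 ((subι (cY f) {y}).app (toAug.obj i) b)) := by
    intro y i a b hab
    have hbase : wb f i.unop.len a.1 = wb f i.unop.len b.1 :=
      (Set.mem_singleton_iff.1 a.2).trans (Set.mem_singleton_iff.1 b.2).symm
    obtain ⟨j, hj⟩ : ∃ j, wπ f i.unop.len j a.1 ≠ wπ f i.unop.len j b.1 := by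
      by_contra hne
      push Not at hne
      exact hab (Subtype.ext (wp_ext f hne hbase))
    obtain ⟨U, V, hU, hV, haU, hbV, hd⟩ := hs _ _ ((wb_eq_π f _ j a.1).trans
      (hbase.trans (wb_eq_π f _ j b.1).symm)) hj
    exact Filter.disjoint_iff.2 ⟨_, (hU.preimage (wπ f i.unop.len j).hom.continuous).mem_nhds haU,
      _, (hV.preimage (wπ f i.unop.len j).hom.continuous).mem_nhds hbV, hd.preimage _⟩
  refine isCohDescentTop_of fun G => ⟨isIso_adjA_unit hq (exists_pair f) G, fun q => ?_⟩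
  refine isZero_rd_of_fibres (Y := cY f) hclosed hcpt hsep (fun y => ?_) G q
  obtain ⟨x, hx⟩ := hsurj y
  exact pullAcyclic_sub f {y} (TopCat.ofHom ⟨fun _ => x, continuous_const⟩)
    (ConcreteCategory.hom_ext _ _ fun t => hx.trans (Set.mem_singleton_iff.1 t.2).symm)

end Proper

end Groth.Agent.FibDesc74
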