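import Groth.Agent.FibDesc74.OpenSub
import Groth.Agent.FibDesc74.Maps

/-!
# Base change of the Čech nerve along an embedding, and locality of descent on the base
-/

set_option autoImplicit false

universe u

open CategoryTheory CategoryTheory.Limits Opposite TopologicalSpace Topology
open Simplicial

namespace Groth.Agent.FibDesc74

variable {X S X' S' : TopCat.{u}} {f : X ⟶ S} {f' : X' ⟶ S'} {a : X' ⟶ X} {b : S' ⟶ S}
  (sq : IsPullback a f' f b)

/-- The morphism of Čech nerves of a square. -/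
noncomputable def cMap : cY f' ⟶ cY f :=
  AugmentedSimplexCategory.equivAugmentedSimplicialObject.inverse.map
    (Arrow.mapAugmentedCechNerve (Arrow.homMk (f := Arrow.mk f') (g := Arrow.mk f) a b sq.w))

theorem cMap_pnt : (cMap sq).app pnt = b := rfl

theorem cMap_π (n : ℕ) (j : Fin (n + 1)) :
    ((cMap sq).app (toAug.obj (op ⦋n⦌)) : wp f' n ⟶ wp f n) ≫ wπ f n j = wπ f' n j ≫ a :=
  WidePullback.lift_π _ _ _ _ _

theorem cMap_base (n : ℕ) :
    ((cMap sq).app (toAug.obj (op ⦋n⦌)) : wp f' n ⟶ wp f n) ≫ wb f n = wb f' n ≫ b :=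
  WidePullback.lift_base _ _ _ _

theorem isEmbedding_cMap (hb : IsEmbedding b) (n : ℕ) :
    IsEmbedding ((cMap sq).app (toAug.obj (op ⦋n⦌)) : wp f' n ⟶ wp f n) := by
  have ha : IsEmbedding a := by
    have : IsEmbedding (pullback.fst f b) := TopCat.fst_isEmbedding_of_right f hb
    rw [← sq.isoPullback_hom_fst]
    exact this.comp (TopCat.homeoOfIso sq.isoPullback).isEmbedding
  refine IsEmbedding.of_comp ((cMap sq).app _).hom.continuous (wb f n |>.hom.continuous.prodMk
    (continuous_pi fun j => (wπ f n j).hom.continuous)) ?_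
  have e : (fun p : wp f n => (wb f n p, fun j => wπ f n j p)) ∘ (cMap sq).app (toAug.obj (op ⦋n⦌)) =
      Prod.map b (Pi.map fun _ => a) ∘ fun p : wp f' n => (wb f' n p, fun j => wπ f' n j p) :=
    funext fun p => Prod.ext (ConcreteCategory.congr_hom (cMap_base sq n) p)
      (funext fun j => ConcreteCategory.congr_hom (cMap_π sq n j) p)
  exact e ▸ (hb.prodMap (IsEmbedding.piMap fun _ => ha)).comp (wEmb f' n)

include sq in
theorem exists_of_base_mem {x : X} (hx : f x ∈ Set.range b) : ∃ x', a x' = x := by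
  obtain ⟨s, hs⟩ := hx
  let p : TopCat.of PUnit.{u + 1} ⟶ X' := sq.lift (TopCat.ofHom ⟨fun _ => x, continuous_const⟩)
    (TopCat.ofHom ⟨fun _ => s, continuous_const⟩) (ConcreteCategory.hom_ext _ _ fun _ => hs.symm)
  have e : p ≫ a = TopCat.ofHom ⟨fun _ => x, continuous_const⟩ := sq.lift_fst _ _ _
  exact ⟨p PUnit.unit, ConcreteCategory.congr_hom e PUnit.unit⟩

theorem range_cMap (hb : IsEmbedding b) (n : ℕ) :
    Set.range ((cMap sq).app (toAug.obj (op ⦋n⦌)) : wp f' n ⟶ wp f n) = wb f n ⁻¹' Set.range b := by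
  refine Set.Subset.antisymm ?_ fun q hq => ?_
  · rintro _ ⟨p, rfl⟩
    exact ⟨wb f' n p, (ConcreteCategory.congr_hom (cMap_base sq n) p).symm⟩
  · obtain ⟨s, hs⟩ := hq
    have h : ∀ j, ∃ x', a x' = wπ f n j q ∧ f' x' = s := fun j => by
      obtain ⟨x', hx'⟩ := exists_of_base_mem sq (x := wπ f n j q) ⟨s, hs.trans (wb_eq_π f n j q).symm⟩
      exact ⟨x', hx', hb.injective ((ConcreteCategory.congr_hom sq.w x').symm.trans
        ((congrArg f hx').trans ((wb_eq_π f n j q).trans hs.symm)))⟩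
    choose x' hx' hx'' using h
    refine ⟨wΨ f' n ⟨(s, x'), hx''⟩, wp_ext f (fun j => ?_) ?_⟩
    · exact (ConcreteCategory.congr_hom (cMap_π sq n j) _).trans
        ((congrArg a (wΨ_π f' n j _)).trans (hx' j))
    · exact (ConcreteCategory.congr_hom (cMap_base sq n) _).trans ((congrArg b (wΨ_base f' n _)).trans hs)

theorem isSubOver_cMap (hb : IsEmbedding b) : IsSubOver (cMap sq) (Set.range b) where
  emb
    | ⟨.star⟩ => hb
    | ⟨.of ⟨n⟩⟩ => isEmbedding_cMap sq hb n
  range
    | ⟨.star⟩ => Set.ext fun y => ((mem_subSet_pnt (Y := cY f) (Set.range b) y)).symm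
    | ⟨.of ⟨n⟩⟩ => range_cMap sq hb n

/-- Descent is local on the base. -/
theorem isCohDescentMap_of_cover {ι : Type u} {S' X' : ι → TopCat.{u}} {f' : ∀ i, X' i ⟶ S' i} {a : ∀ i, X' i ⟶ X}
    {b : ∀ i, S' i ⟶ S} (sq : ∀ i, IsPullback (a i) (f' i) f (b i)) (hb : ∀ i, IsOpenEmbedding (b i))
    (hcov : ∀ s, ∃ i, s ∈ Set.range (b i)) (h : ∀ i, FibDesc.IsCohDescentMap (f' i)) :
    FibDesc.IsCohDescentMap f :=
  (desc_iff (cY f)).1 (desc_of_cover (Y := cY f) (fun i => cMap (sq i)) (fun i => Set.range (b i))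
    (fun i => isSubOver_cMap (sq i) (hb i).isEmbedding) (fun i => (hb i).isOpen_range) hcov
    (fun i => (desc_iff _).2 (h i)))

include sq in
/-- Descent is invariant under isomorphism of base changes. -/
theorem isCohDescentMap_of_isPullback [IsIso b] (h : FibDesc.IsCohDescentMap f') : FibDesc.IsCohDescentMap f :=
  isCohDescentMap_of_cover (ι := PUnit) (fun _ => sq)
    (fun _ => (TopCat.homeoOfIso (asIso b)).isOpenEmbedding)
    (fun s => ⟨PUnit.unit, inv b s, ConcreteCategory.congr_hom (IsIso.inv_hom_id b) s⟩) (fun _ => h)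

end Groth.Agent.FibDesc74
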