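import Groth.Agent.FibDesc74.God
import Groth.Agent.SiteBase.RightExact
import Mathlib.Algebra.Homology.ShortComplex.ExactFunctor

/-!
# Restriction along a functor of index categories
-/

set_option autoImplicit false

universe v u

open CategoryTheory CategoryTheory.Limits Opposite TopologicalSpace Pseudofunctor.CoGrothendieck

namespace Groth.Agent.FibDesc74

variable {B : Type} [Category.{0} B] {B' : Type} [Category.{v} B'] (K : B ⥤ B')
  (Y' : B' ⥤ TopCat.{max u v})

/-- The functor between total categories. -/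
noncomputable def totMap : Tot.{0, max u v} (K ⋙ Y') ⥤ Tot.{v, u} Y' where
  obj X := mkO (Y := Y') (K.obj X.base) (fib.{0, max u v} X)
  map {X W} g := mkM (Y := Y') (K.map g.base) (hom_le.{0, max u v} g)
  map_id X := hext (Y := Y') _ _ (K.map_id _)
  map_comp g g' := hext (Y := Y') _ _ (K.map_comp g.base g'.base)

/-- A fibre inclusion followed by the functor between total categories. -/
noncomputable def ιTotMapIso (i : B) :
    ι (topPs.{0, max u v} (K ⋙ Y')) i ⋙ totMap K Y' ≅ ι (topPs.{v, u} Y') (K.obj i) :=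
  NatIso.ofComponents (fun _ => Iso.refl _) fun {V W} k => by
    refine (Category.comp_id _).trans (Eq.trans ?_ (Category.id_comp _).symm)
    exact hext (Y := Y') _ _ (K.map_id i)

instance isContinuous_totMap :
    (totMap K Y').IsContinuous (totT.{0, max u v} (K ⋙ Y')) (totT.{v, u} Y') := by
  rw [FibSiteLib.isContinuous_total_iff (isPre.{0, max u v} (K ⋙ Y'))]
  intro i
  haveI : (ι (topPs.{v, u} Y') (K.obj i)).IsContinuous (topJ.{0, max u v} (K ⋙ Y') i) (totT.{v, u} Y') :=
    FibSiteLib.isContinuous_ι (isPre.{v, u} Y') (K.obj i)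
  exact Functor.isContinuous_of_iso (ιTotMapIso K Y' i).symm (topJ.{0, max u v} (K ⋙ Y') i) (totT.{v, u} Y')

/-- Restriction of sheaves. -/
noncomputable def restrK : TSh.{v, u} Y' ⥤ TSh.{0, max u v} (K ⋙ Y') :=
  (totMap K Y').sheafPushforwardContinuous AddCommGrpCat.{max u v} (totT.{0, max u v} (K ⋙ Y')) (totT.{v, u} Y')

theorem sec_restrK (J : TSh.{v, u} Y') (i : B) (W : Opens ((K ⋙ Y').obj i)) :
    sec.{0, max u v} ((restrK K Y').obj J) i W = sec.{v, u} J (K.obj i) W := rfl

theorem tr_restrK (J : TSh.{v, u} Y') {i j : B} {W : Opens ((K ⋙ Y').obj i)} {V : Opens ((K ⋙ Y').obj j)}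
    (f : i ⟶ j) (h : W ≤ (Opens.map ((K ⋙ Y').map f)).obj V) (s : sec.{v, u} J (K.obj j) V) :
    tr.{0, max u v} ((restrK K Y').obj J) f h s = tr.{v, u} J (K.map f) h s := rfl

instance additive_restrK : (restrK K Y').Additive := ⟨rfl⟩

instance preservesFiniteLimits_restrK : PreservesFiniteLimits (restrK K Y') := by
  have : PreservesFiniteLimits (restrK K Y' ⋙ sheafToPresheaf _ AddCommGrpCat.{max u v}) :=
    inferInstanceAs (PreservesFiniteLimits (sheafToPresheaf (totT Y') AddCommGrpCat.{max u v} ⋙
      (Functor.whiskeringLeft _ _ AddCommGrpCat.{max u v}).obj (totMap K Y').op))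
  refine ⟨fun J _ _ => ⟨fun {D} => ⟨fun {c} hc => ?_⟩⟩⟩
  exact ⟨isLimitOfReflects (sheafToPresheaf _ AddCommGrpCat.{max u v})
    (isLimitOfPreserves (restrK K Y' ⋙ sheafToPresheaf _ AddCommGrpCat.{max u v}) hc)⟩

/-- Restriction to a fibre after restriction along `K`. -/
noncomputable def resIso (i : B) :
    restrK K Y' ⋙ res.{0, max u v} (K ⋙ Y') i ≅ res.{v, u} Y' (K.obj i) :=
  NatIso.ofComponents
    (fun J => (fullyFaithfulSheafToPresheaf _ _).preimageIso
      (Functor.isoWhiskerRight (NatIso.op (ιTotMapIso K Y' i).symm) J.obj))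
    (fun {J J'} φ => by
      refine Sheaf.hom_ext ?_
      refine NatTrans.ext (funext fun W => ?_)
      exact (φ.hom.naturality _).symm)

theorem epi_of_res {B₀ : Type} [Category.{v} B₀] {Z : B₀ ⥤ TopCat.{max u v}} {A A' : TSh Z} (φ : A ⟶ A')
    (h : ∀ i, Epi ((res Z i).map φ)) : Epi φ := by
  refine ⟨fun {T} a b e => ?_⟩
  refine Sheaf.hom_ext ?_
  refine NatTrans.ext (funext fun X => ?_)
  have e' := congrArg (fun q => (res Z X.unop.base).map q) e
  rw [Functor.map_comp, Functor.map_comp] at e'
  have e'' := (cancel_epi ((res Z X.unop.base).map φ)).1 e'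
  exact congrArg (fun q => q.hom.app (op (fib X.unop))) e''

instance preservesEpimorphisms_restrK : (restrK K Y').PreservesEpimorphisms where
  preserves {A A'} φ hφ := epi_of_res.{0, max u v} ((restrK K Y').map φ) fun i => by
    haveI := hφ
    haveI : (res Y' (K.obj i)).PreservesEpimorphisms := preservesEpimorphisms_of_preservesColimitsOfShape _
    have h : Epi ((res Y' (K.obj i)).map φ) := (res Y' (K.obj i)).map_epi φ
    exact ((MorphismProperty.epimorphisms _).arrow_mk_iso_iff
      ((Functor.mapArrowFunctor _ _).mapIso (resIso K Y' i) |>.app (Arrow.mk φ))).2 h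

instance preservesFiniteColimits_restrK : PreservesFiniteColimits (restrK K Y') :=
  SiteBase.preservesFiniteColimits_of_preservesEpis _

theorem isFlasque_restrK (J : TSh.{v, u} Y') [Injective J] (i : B) :
    TopCat.Sheaf.IsFlasque ((res.{0, max u v} (K ⋙ Y') i).obj ((restrK K Y').obj J)) where
  epi {U V} k := by
    refine (AddCommGrpCat.epi_iff_surjective _).2 fun s => ?_
    obtain ⟨t, ht⟩ := (AddCommGrpCat.epi_iff_surjective _).1
      ((isFlasque_res_of_injective.{v, u} J (K.obj i)).epi k) s
    refine ⟨t, ?_⟩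
    refine Eq.trans ?_ ht
    refine (res_map.{0, max u v} ((restrK K Y').obj J) k.unop.le t).trans ?_
    exact (tr_congr (K.map_id i) _ (le_id k.unop.le) t).trans (res_map.{v, u} J k.unop.le t).symm

end Groth.Agent.FibDesc74
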