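import Groth.Agent.FibDesc74.Criterion
import Groth.Agent.FibDesc74.Restr

/-!
# Bisimplicial spaces augmented in both directions: rows, columns and the relative direct image
-/

set_option autoImplicit false

universe u

open CategoryTheory CategoryTheory.Limits Opposite TopologicalSpace Pseudofunctor.CoGrothendieck
open Simplicial

namespace Groth.Agent.FibDesc74

/-- The index category of the part. -/
abbrev SC : Type := SimplexCategoryᵒᵖ

/-- The index category with both augmentations. -/
abbrev Aug2 : Type := Aug × Aug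

/-- The inclusion of a row. -/
abbrev sR (i : Aug) : Aug ⥤ Aug2 where
  obj j := (i, j)
  map f := (𝟙 i, f)
  map_id _ := rfl
  map_comp f g := Prod.ext (Category.id_comp (𝟙 i)).symm rfl

/-- The inclusion of a column. -/
abbrev sL (j : Aug) : Aug ⥤ Aug2 where
  obj i := (i, j)
  map f := (f, 𝟙 j)
  map_id _ := rfl
  map_comp f g := Prod.ext rfl (Category.id_comp (𝟙 j)).symm

/-- The inclusion of a row of the part. -/
abbrev sR' (m : SC) : SC ⥤ SC × SC where
  obj n := (m, n)
  map f := (𝟙 m, f)
  map_id _ := rfl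
  map_comp f g := Prod.ext (Category.id_comp (𝟙 m)).symm rfl

/-- The inclusion of a column of the part. -/
abbrev sL' (n : SC) : SC ⥤ SC × SC where
  obj m := (m, n)
  map f := (f, 𝟙 n)
  map_id _ := rfl
  map_comp f g := Prod.ext rfl (Category.id_comp (𝟙 n)).symm

/-- The inclusion of the part. -/
abbrev toAug2 : SC × SC ⥤ Aug2 where
  obj x := (toAug.obj x.1, toAug.obj x.2)
  map f := (toAug.map f.1, toAug.map f.2)
  map_id x := Prod.ext (toAug.map_id x.1) (toAug.map_id x.2)
  map_comp f g := Prod.ext (toAug.map_comp f.1 g.1) (toAug.map_comp f.2 g.2)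

/-- Exchanging the two directions. -/
abbrev swp : Aug2 ⥤ Aug2 where
  obj x := (x.2, x.1)
  map f := (f.2, f.1)
  map_id _ := rfl
  map_comp _ _ := rfl

/-- Exchanging the two directions on the part. -/
abbrev swp' : SC × SC ⥤ SC × SC where
  obj x := (x.2, x.1)
  map f := (f.2, f.1)
  map_id _ := rfl
  map_comp _ _ := rfl

variable (W : Aug2 ⥤ TopCat.{u})

/-- A row. -/
noncomputable abbrev rowD (i : Aug) : Aug ⥤ TopCat.{u} := sR i ⋙ W

/-- A column. -/
noncomputable abbrev colD (j : Aug) : Aug ⥤ TopCat.{u} := sL j ⋙ W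

/-- The diagram with the directions exchanged. -/
noncomputable abbrev swW : Aug2 ⥤ TopCat.{u} := swp ⋙ W

/-- The part. -/
noncomputable abbrev PW : SC × SC ⥤ TopCat.{u} := toAug2 ⋙ W

/-- Sheaves on the part. -/
abbrev BSh := TSh.{0, u} (PW W)

theorem rowD_swW (i : Aug) : rowD (swW W) i = colD W i := rfl

theorem colD_swW (j : Aug) : colD (swW W) j = rowD W j := rfl

theorem PW_swW : PW (swW W) = swp' ⋙ PW W := rfl

theorem prt_rowD (m : SC) : prt (rowD W (toAug.obj m)) = sR' m ⋙ PW W := rfl

/-- Restriction to a row of the part. -/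
noncomputable def rowSh (m : SC) : BSh W ⥤ PSh (rowD W (toAug.obj m)) :=
  restrK.{0, u} (sR' m) (PW W)

/-- Exchanging the directions on sheaves. -/
noncomputable def swSh : BSh W ⥤ BSh (swW W) :=
  restrK.{0, u} swp' (PW W)

instance additive_rowSh (m : SC) : (rowSh W m).Additive := ⟨rfl⟩

instance preservesFiniteLimits_rowSh (m : SC) : PreservesFiniteLimits (rowSh W m) :=
  preservesFiniteLimits_restrK.{0, u} (sR' m) (PW W)

instance preservesFiniteColimits_rowSh (m : SC) : PreservesFiniteColimits (rowSh W m) :=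
  preservesFiniteColimits_restrK.{0, u} (sR' m) (PW W)

instance additive_swSh : (swSh W).Additive := ⟨rfl⟩

instance preservesFiniteLimits_swSh : PreservesFiniteLimits (swSh W) :=
  preservesFiniteLimits_restrK.{0, u} swp' (PW W)

instance preservesFiniteColimits_swSh : PreservesFiniteColimits (swSh W) :=
  preservesFiniteColimits_restrK.{0, u} swp' (PW W)

theorem sec_rowSh (A : BSh W) (m n : SC) (U : Opens (W.obj (toAug.obj m, toAug.obj n))) :
    sec.{0, u} (Y := prt (rowD W (toAug.obj m))) ((rowSh W m).obj A) n U = sec.{0, u} A (m, n) U := rfl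

/-- The projection of a column of the part to the augmenting column. -/
noncomputable def projC (n : SC) : sL' n ⋙ PW W ⟶ prt (colD W pnt) where
  app m := W.map (𝟙 (toAug.obj m), th (toAug.obj n))
  naturality m m' f := by
    show W.map (CategoryTheory.Prod.mkHom (toAug.map f) (toAug.map (𝟙 n))) ≫
        W.map (CategoryTheory.Prod.mkHom (𝟙 (toAug.obj m')) (th (toAug.obj n))) =
      W.map (CategoryTheory.Prod.mkHom (𝟙 (toAug.obj m)) (th (toAug.obj n))) ≫
        W.map (CategoryTheory.Prod.mkHom (toAug.map f) (𝟙 pnt))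
    rw [← W.map_comp, ← W.map_comp]
    exact congrArg W.map (Prod.ext ((Category.comp_id _).trans (Category.id_comp _).symm) (to_pnt_ext _ _))

/-- The direct image of a column. -/
noncomputable def PC (n : SC) : BSh W ⥤ PSh (colD W pnt) :=
  restrK.{0, u} (sL' n) (PW W) ⋙ pushG (projC W n)

instance preservesFiniteLimits_PC (n : SC) : PreservesFiniteLimits (PC W n) := by
  haveI : PreservesFiniteLimits (restrK.{0, u} (sL' n) (PW W)) := preservesFiniteLimits_restrK.{0, u} _ _
  haveI : PreservesFiniteLimits (pushG (projC W n)) := inferInstance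
  exact inferInstanceAs (PreservesFiniteLimits (restrK.{0, u} (sL' n) (PW W) ⋙ pushG (projC W n)))

instance additive_PC (n : SC) : (PC W n).Additive := ⟨rfl⟩

theorem sec_PC (A : BSh W) (n m : SC) (U : Opens (W.obj (toAug.obj m, pnt))) :
    sec.{0, u} (Y := prt (colD W pnt)) ((PC W n).obj A) m U =
      sec.{0, u} A (m, n) ((Opens.map (W.map (𝟙 (toAug.obj m), th (toAug.obj n)))).obj U) := rfl

end Groth.Agent.FibDesc74
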