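import Groth.Agent.FibDesc74.Unit
import Groth.Agent.FibDesc74.Sub

/-!
# Inverse images of the base along morphisms of augmented simplicial spaces
-/

set_option autoImplicit false

universe u

open CategoryTheory CategoryTheory.Limits Opposite TopologicalSpace Pseudofunctor.CoGrothendieck
open Simplicial

namespace Groth.Agent.FibDesc74

variable {Y Z : Aug ⥤ TopCat.{u}} (g : Z ⟶ Y)

theorem gm_incl_iff (P : TSh.{0, u} Y) {i : SimplexCategoryᵒᵖ} (x : (prt Y).obj i) {W W' : Opens ((prt Y).obj i)}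
    (hx : x ∈ W) (hx' : x ∈ W') (s : sec.{0, u} P (toAug.obj i) W) (s' : sec.{0, u} P (toAug.obj i) W') :
    gm.{0, u} (Y := prt Y) ((inclRes Y).obj P) x hx s = gm.{0, u} (Y := prt Y) ((inclRes Y).obj P) x hx' s' ↔
      gm.{0, u} (Y := Y) P x hx s = gm.{0, u} (Y := Y) P x hx' s' := by
  constructor
  · intro h
    obtain ⟨V, h₁, h₂, hV, e⟩ := gm_eq.{0, u} (Y := prt Y) (A := (inclRes Y).obj P) hx hx' s s' h
    rw [← gm_res.{0, u} (Y := Y) (A := P) x h₁ hV s, ← gm_res.{0, u} (Y := Y) (A := P) x h₂ hV s']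
    exact congrArg _ (((tr_congr.{0, u} (Y := Y) (A := P) (toAug.map_id i).symm _ _ s).trans e).trans
      (tr_congr.{0, u} (Y := Y) (A := P) (toAug.map_id i) _ _ s'))
  · intro h
    obtain ⟨V, h₁, h₂, hV, e⟩ := gm_eq.{0, u} (Y := Y) (A := P) hx hx' s s' h
    rw [← gm_res.{0, u} (Y := prt Y) (A := (inclRes Y).obj P) x h₁ hV s,
      ← gm_res.{0, u} (Y := prt Y) (A := (inclRes Y).obj P) x h₂ hV s']
    exact congrArg _ (((tr_congr.{0, u} (Y := Y) (A := P) (toAug.map_id i) _ _ s).trans e).trans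
      (tr_congr.{0, u} (Y := Y) (A := P) (toAug.map_id i).symm _ _ s'))

theorem gm_usec_congr {B : Type} [Category.{0} B] {Y Z : B ⥤ TopCat.{u}} (g : Z ⟶ Y) (A : TSh.{0, u} Y) {i : B}
    (x : Z.obj i) {W W' : Opens (Y.obj i)} (hW : g.app i x ∈ W) (hW' : g.app i x ∈ W') (s : sec.{0, u} A i W)
    (s' : sec.{0, u} A i W') (h : gm.{0, u} A (g.app i x) hW s = gm.{0, u} A (g.app i x) hW' s') :
    gm.{0, u} ((pullG g).obj A) x (show x ∈ (Opens.map (g.app i)).obj W from hW) (usec g A i W s) =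
      gm.{0, u} ((pullG g).obj A) x (show x ∈ (Opens.map (g.app i)).obj W' from hW') (usec g A i W' s') := by
  obtain ⟨V, h₁, h₂, hV, e⟩ := gm_eq.{0, u} hW hW' s s' h
  have e' := congrArg (usec g A i V) e
  rw [usec_tr, usec_tr] at e'
  exact (gm_res.{0, u} (A := (pullG g).obj A) x (W := (Opens.map (g.app i)).obj V) (fun y hy => h₁ hy) hV _).symm.trans
    ((congrArg _ e').trans
      (gm_res.{0, u} (A := (pullG g).obj A) x (W := (Opens.map (g.app i)).obj V) (fun y hy => h₂ hy) hV _))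

/-- Restriction to the parts commutes with direct images. -/
noncomputable def bcPush (P : TSh.{0, u} Z) :
    (inclRes Y).obj ((pushG g).obj P) ⟶ (pushG (gP g)).obj ((inclRes Z).obj P) := ⟨
  { app := fun X => AddCommGrpCat.ofHom
      (AddMonoidHom.id (sec.{0, u} P (toAug.obj X.unop.base)
        ((Opens.map (g.app (toAug.obj X.unop.base))).obj (fib.{0, u} (Y := prt Y) X.unop))))
    naturality := fun X X' k => by
      refine ConcreteCategory.hom_ext _ _ fun r => ?_
      have e : (preTot g).map ((inclF Y).map k.unop) = (inclF Z).map ((preTot (gP g)).map k.unop) :=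
        hext.{0, u} (Y := Z) _ _ rfl
      exact congrArg (fun m => (P.obj.map (Quiver.Hom.op m)).hom r) e }⟩

/-- The base change map. -/
noncomputable def bcMap (E : TSh.{0, u} Y) :
    (pullG (gP g)).obj ((inclRes Y).obj E) ⟶ (inclRes Z).obj ((pullG g).obj E) :=
  ((adjG (gP g)).homEquiv _ _).symm ((inclRes Y).map ((adjG g).unit.app E) ≫ bcPush g ((pullG g).obj E))

theorem bcMap_usec (E : TSh.{0, u} Y) (i : SimplexCategoryᵒᵖ) (W : Opens ((prt Y).obj i))
    (s : sec.{0, u} E (toAug.obj i) W) :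
    ap.{0, u} (Y := prt Z) (bcMap g E) i ((Opens.map ((gP g).app i)).obj W)
        (usec (gP g) ((inclRes Y).obj E) i W s) =
      usec g E (toAug.obj i) W s := by
  have e : (adjG (gP g)).unit.app ((inclRes Y).obj E) ≫ (pushG (gP g)).map (bcMap g E) =
      (inclRes Y).map ((adjG g).unit.app E) ≫ bcPush g ((pullG g).obj E) :=
    ((adjG (gP g)).homEquiv_unit _ _ _).symm.trans (Equiv.apply_symm_apply _ _)
  exact congrArg (fun q : (inclRes Y).obj E ⟶ (pushG (gP g)).obj ((inclRes Z).obj ((pullG g).obj E)) =>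
    ap.{0, u} (Y := prt Y) q i W s) e

theorem stM_bcMap (E : TSh.{0, u} Y) (i : SimplexCategoryᵒᵖ) (x : (prt Z).obj i) {W : Opens ((prt Y).obj i)}
    (hW : (gP g).app i x ∈ W) (s : sec.{0, u} E (toAug.obj i) W) :
    stM.{0, u} (Y := prt Z) (bcMap g E) x (gm.{0, u} (Y := prt Z) _ x
        (show x ∈ (Opens.map ((gP g).app i)).obj W from hW) (usec (gP g) ((inclRes Y).obj E) i W s)) =
      gm.{0, u} (Y := prt Z) ((inclRes Z).obj ((pullG g).obj E)) x
        (show x ∈ (Opens.map ((gP g).app i)).obj W from hW) (usec g E (toAug.obj i) W s) :=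
  (stM_gm.{0, u} (Y := prt Z) (bcMap g E) x _ _).trans (congrArg _ (bcMap_usec g E i W s))

theorem isIso_bcMap (E : TSh.{0, u} Y) : IsIso (bcMap g E) := by
  refine isIso_of_stalks.{0, u} (Y := prt Z) _ fun i x => ⟨?_, fun t => ?_⟩
  · refine (injective_iff_map_eq_zero _).2 fun t ht => ?_
    obtain ⟨W, hW, s, rfl⟩ := gm_usec_surjective (gP g) ((inclRes Y).obj E) x t
    have h0 := (stM_bcMap g E i x hW s).symm.trans ht
    rw [← map_zero (gm.{0, u} (Y := prt Z) ((inclRes Z).obj ((pullG g).obj E)) x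
      (show x ∈ (Opens.map ((gP g).app i)).obj W from hW))] at h0
    have h1 := ((gm_incl_iff ((pullG g).obj E) x _ _ _ _).1 h0).trans (map_zero _)
    have h2 := gm_usec_injective g E (i := toAug.obj i) x hW s h1
    have h3 := (gm_incl_iff E ((gP g).app i x) hW hW s 0).2 (h2.trans (map_zero _).symm)
    refine (gm_usec_congr (gP g) ((inclRes Y).obj E) x hW hW s 0 h3).trans ?_
    rw [map_zero, map_zero]
  · obtain ⟨W', hW', r, rfl⟩ := exists_gm.{0, u} (Y := prt Z) t
    obtain ⟨W, hW, s, hs⟩ := gm_usec_surjective g E (i := toAug.obj i) x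
      (gm.{0, u} (Y := Z) ((pullG g).obj E) (i := toAug.obj i) x hW' r)
    exact ⟨_, (stM_bcMap g E i x hW s).trans ((gm_incl_iff ((pullG g).obj E) x _ hW' _ r).2 hs)⟩

theorem isCart_pullG {G : CohTop.Ab (Y.obj pnt)} {E : TSh.{0, u} Y} {η : G ⟶ (res.{0, u} Y pnt).obj E}
    (hη : IsCart.{0, u} η) :
    IsCart.{0, u} (Y := Z) (b := pnt) (E := (pullG g).obj E)
      (𝟙 ((res.{0, u} Z pnt).obj ((pullG g).obj E))) := by
  intro i f z
  have nat : g.app pnt (Z.map f z) = Y.map f (g.app i z) :=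
    ConcreteCategory.congr_hom (g.naturality f) z
  have step : ∀ (W : Opens (Y.obj pnt)) (hW : g.app pnt (Z.map f z) ∈ W) (s : sec.{0, u} E pnt W),
      kap.{0, u} (𝟙 ((res.{0, u} Z pnt).obj ((pullG g).obj E))) f z
          (gm.{0, u} ((pullG g).obj E) (Z.map f z)
            (show Z.map f z ∈ (Opens.map (g.app pnt)).obj W from hW) (usec g E pnt W s)) =
        gm.{0, u} ((pullG g).obj E) z
          (show z ∈ (Opens.map (g.app i)).obj ((Opens.map (Y.map f)).obj W) from
            (show Y.map f (g.app i z) ∈ W from nat ▸ hW))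
          (usec g E i ((Opens.map (Y.map f)).obj W) (tr.{0, u} E f le_rfl s)) := fun W hW s => by
    refine (kap_germ.{0, u} (𝟙 ((res.{0, u} Z pnt).obj ((pullG g).obj E))) f z _ hW _).trans ?_
    rw [usec_tr]
    show gm.{0, u} ((pullG g).obj E) z _
      (tr.{0, u} ((pullG g).obj E) f le_rfl (usec g E pnt W s)) = _
    have hle : (Opens.map (g.app i)).obj ((Opens.map (Y.map f)).obj W) ≤
        (Opens.map (Z.map f)).obj ((Opens.map (g.app pnt)).obj W) := preimg_le g f le_rfl
    refine (gm_res.{0, u} (A := (pullG g).obj E) z hle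
      (show Y.map f (g.app i z) ∈ W from nat ▸ hW) _).symm.trans ?_
    exact congrArg _ ((tr_tr.{0, u} _ _ _ _ _).trans (tr_congr.{0, u} (Category.id_comp f) _ _ _))
  constructor
  · refine (injective_iff_map_eq_zero _).2 fun t ht => ?_
    obtain ⟨W, hW, s, rfl⟩ := gm_usec_surjective g E (i := pnt) (Z.map f z) t
    have h1 := (step W hW s).symm.trans ht
    have h2 := gm_usec_injective g E z (show Y.map f (g.app i z) ∈ W from nat ▸ hW) _ h1
    have h3 := hη.gm_zero_of_tr f (g.app i z) s (nat ▸ hW) h2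
    have h4 : gm.{0, u} E (g.app pnt (Z.map f z)) hW s = 0 := by
      exact germ_transport.{0, u} (M := (res.{0, u} Y pnt).obj E) nat.symm (nat ▸ hW) hW s h3
    refine (gm_usec_congr g E (Z.map f z) hW hW s 0 (h4.trans (map_zero _).symm)).trans ?_
    rw [map_zero, map_zero]
  · intro t
    obtain ⟨V, hV, s, rfl⟩ := gm_usec_surjective g E z t
    obtain ⟨a, ha⟩ := (hη i f (g.app i z)).2 (gm.{0, u} E (g.app i z) hV s)
    obtain ⟨U, hU, r, rfl⟩ := TopCat.Presheaf.exists_germ_eq G.obj a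
    rw [kap_germ.{0, u}] at ha
    exact ⟨_, (step U (nat.symm ▸ hU) ((η.hom.app (op U)).hom r)).trans
      (gm_usec_congr g E z _ hV _ s ha)⟩

/-- The inverse image of an inverse image of the base is an inverse image of the base. -/
theorem exists_pullA_iso (G : CohTop.Ab (Y.obj pnt)) :
    ∃ G' : CohTop.Ab (Z.obj pnt),
      Nonempty ((pullG (gP g)).obj ((pullA Y).obj G) ≅ (pullA Z).obj G') := by
  let E' := (pullG g).obj ((extA Y).obj G)
  have h' := isCart_pullG g (isCart_extAdj Y G)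
  let G' := (res.{0, u} Z pnt).obj E'
  let Φ : (extA Z).obj G' ⟶ E' := ((extAdj Z).homEquiv G' E').symm (𝟙 G')
  have hΦ : (extAdj Z).unit.app G' ≫ (res.{0, u} Z pnt).map Φ = 𝟙 G' :=
    ((extAdj Z).homEquiv_unit G' E' Φ).symm.trans (Equiv.apply_symm_apply _ _)
  haveI : IsIso Φ := (isCart_extAdj Z G').isIso_of_fac h' (fun i => ⟨th i⟩) Φ hΦ
  haveI := isIso_bcMap g ((extA Y).obj G)
  exact ⟨G', ⟨(pullG (gP g)).mapIso ((pullAIso Y).app G).symm ≪≫ asIso (bcMap g ((extA Y).obj G)) ≪≫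
    ((inclRes Z).mapIso (asIso Φ)).symm ≪≫ (pullAIso Z).app G'⟩⟩

/-- The higher direct images of inverse images vanish. -/
theorem isZero_rd_pullG_pullA [EnoughInjectives (PSh Z)]
    (hZ : ∀ (G' : CohTop.Ab (Z.obj pnt)) (q : ℕ),
      IsZero (((pushA Z).rightDerived (q + 1)).obj ((pullA Z).obj G')))
    (G : CohTop.Ab (Y.obj pnt)) (q : ℕ) :
    IsZero (((pushA Z).rightDerived (q + 1)).obj ((pullG (gP g)).obj ((pullA Y).obj G))) := by
  obtain ⟨G', ⟨e⟩⟩ := exists_pullA_iso g G
  exact (hZ G' q).of_iso (((pushA Z).rightDerived (q + 1)).mapIso e)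

end Groth.Agent.FibDesc74
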