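import Groth.Agent.FibDesc74.Criterion
import Groth.Agent.FibDesc74.Compat
import Groth.Agent.FibDesc74.Near

/-!
# Morphisms of augmented simplicial spaces onto the part over a subset of the base, and locality of descent
-/

set_option autoImplicit false

universe u

open CategoryTheory CategoryTheory.Limits Opposite TopologicalSpace Pseudofunctor.CoGrothendieck
open Simplicial Topology

namespace Groth.Agent.FibDesc74

variable {Y : Aug ⥤ TopCat.{u}}

/-- `g` identifies its source with the part over `T`. -/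
structure IsSubOver {Y Z : Aug ⥤ TopCat.{u}} (g : Z ⟶ Y) (T : Set (Y.obj pnt)) : Prop where
  emb : ∀ i, IsEmbedding (g.app i)
  range : ∀ i, Set.range (g.app i) = subSet Y T i

theorem isSubOver_subι (T : Set (Y.obj pnt)) : IsSubOver (subι Y T) T :=
  ⟨subι_isEmbedding Y T, range_subι Y T⟩

theorem mem_subSet_pnt (T : Set (Y.obj pnt)) (y : Y.obj pnt) : y ∈ subSet Y T pnt ↔ y ∈ T := by
  show Y.map (th pnt) y ∈ T ↔ _
  rw [show th pnt = 𝟙 pnt from to_pnt_ext _ _, Y.map_id]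
  rfl

theorem IsSubOver.isOpenEmbedding {Z : Aug ⥤ TopCat.{u}} {g : Z ⟶ Y} {T : Set (Y.obj pnt)} (hg : IsSubOver g T)
    (hT : IsOpen T) (i : Aug) : IsOpenEmbedding (g.app i) :=
  ⟨hg.emb i, by rw [hg.range i]; exact hT.preimage (Y.map (th i)).hom.continuous⟩

theorem IsSubOver.pnt_mem {Z : Aug ⥤ TopCat.{u}} {g : Z ⟶ Y} {T : Set (Y.obj pnt)} (hg : IsSubOver g T)
    (x : Z.obj pnt) : g.app pnt x ∈ T :=
  (mem_subSet_pnt T _).1 (hg.range pnt ▸ Set.mem_range_self x)

theorem IsSubOver.exists_pnt {Z : Aug ⥤ TopCat.{u}} {g : Z ⟶ Y} {T : Set (Y.obj pnt)} (hg : IsSubOver g T)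
    {y : Y.obj pnt} (hy : y ∈ T) : ∃ x, g.app pnt x = y :=
  (hg.range pnt).ge ((mem_subSet_pnt T y).2 hy)

section Open

variable {Z : Aug ⥤ TopCat.{u}} {g : Z ⟶ Y} {T : Set (Y.obj pnt)} (hg : IsSubOver g T)
include hg

theorem IsSubOver.pre_subset_range {U : Opens (Y.obj pnt)} (hU : (U : Set (Y.obj pnt)) ⊆ T) (i : SimplexCategoryᵒᵖ) :
    (pre U (toAug.obj i) : Set (Y.obj (toAug.obj i))) ⊆ Set.range ((gP g).app i) := fun x hx => by
  show x ∈ Set.range (g.app (toAug.obj i))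
  rw [hg.range]
  exact hU hx

theorem IsSubOver.us_bijective (A : PSh Y) {U : Opens (Y.obj pnt)} (hU : (U : Set (Y.obj pnt)) ⊆ T) (i : SimplexCategoryᵒᵖ) :
    Function.Bijective (us g A U i) := by
  have hi : IsInducing ((gP g).app i) := (hg.emb (toAug.obj i)).isInducing
  have e := pre_preimg g U (toAug.obj i)
  have hb : Function.Bijective (tr.{0, u} (Y := prt Z) ((pullG (gP g)).obj A) (𝟙 i)
      (le_id.{0, u} (Y := prt Z) e.le)) := by
    refine Function.bijective_iff_has_inverse.2 ⟨tr.{0, u} (Y := prt Z) _ (𝟙 i)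
      (le_id.{0, u} (Y := prt Z) e.ge), fun s => ?_, fun s => ?_⟩
    · rw [tr_tr]
      exact (tr_congr.{0, u} (Category.id_comp _) _ (le_id.{0, u} le_rfl) s).trans (tr_self.{0, u} _ s)
    · rw [tr_tr]
      exact (tr_congr.{0, u} (Category.id_comp _) _ (le_id.{0, u} le_rfl) s).trans (tr_self.{0, u} _ s)
  exact hb.comp ⟨usec_injective _ A i (hg.pre_subset_range hU i), usec_surjective _ A i hi (hg.pre_subset_range hU i)⟩

theorem IsSubOver.nearBC (hT : IsOpen T) (y' : Z.obj pnt) : NearBC g y' where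
  surj A i U' hy t' := by
    let V : Opens (Y.obj pnt) := ⟨g.app pnt '' (U' : Set (Z.obj pnt)),
      (hg.isOpenEmbedding hT pnt).isOpenMap _ U'.isOpen⟩
    have hV : (V : Set (Y.obj pnt)) ⊆ T := by
      rintro _ ⟨x, -, rfl⟩
      exact hg.pnt_mem x
    have h₁ : U' ≤ (Opens.map (g.app pnt)).obj V := fun x hx => ⟨x, hx, rfl⟩
    have h₂ : (Opens.map (g.app pnt)).obj V ≤ U' := by
      rintro x ⟨x', hx', e⟩
      exact (hg.emb pnt).injective e ▸ hx'
    obtain ⟨t, ht⟩ := (hg.us_bijective A hV i).2 (cr _ h₂ i t')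
    refine ⟨V, h₁ hy, U', h₁, le_rfl, t, hy, ?_⟩
    rw [ht, cr_cr]
  inj A i V t W h hy h0 := by
    let V₂ : Opens (Y.obj pnt) := ⟨g.app pnt '' (W : Set (Z.obj pnt)),
      (hg.isOpenEmbedding hT pnt).isOpenMap _ W.isOpen⟩
    have hV₂ : V₂ ≤ V := by
      rintro _ ⟨x, hx, rfl⟩
      exact h hx
    have hsub : (V₂ : Set (Y.obj pnt)) ⊆ T := by
      rintro _ ⟨x, -, rfl⟩
      exact hg.pnt_mem x
    have h₂ : (Opens.map (g.app pnt)).obj V₂ ≤ W := by
      rintro x ⟨x', hx', e⟩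
      exact (hg.emb pnt).injective e ▸ hx'
    refine ⟨V₂, hV₂, ⟨y', hy, rfl⟩, (hg.us_bijective A hsub i).1 ?_⟩
    rw [us_cr, map_zero, ← cr_cr _ h h₂, h0, map_zero]

theorem IsSubOver.isZero_rpush [EnoughInjectives (PSh Z)] (hT : IsOpen T) (I : PSh Y) [Injective I] (q : ℕ) :
    IsZero (((pushA Z).rightDerived (q + 1)).obj ((pullG (gP g)).obj I)) := by
  refine isZero_rpush_of_flasque (fun i => ?_) (fun U' => ?_) q
  · haveI := isFlasque_res_of_injective.{0, u} I i
    exact isFlasque_pullG_of_open (gP g) I i (hg.isOpenEmbedding hT (toAug.obj i))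
  · let V : Opens (Y.obj pnt) := ⟨g.app pnt '' (U' : Set (Z.obj pnt)),
      (hg.isOpenEmbedding hT pnt).isOpenMap _ U'.isOpen⟩
    have hV : (V : Set (Y.obj pnt)) ⊆ T := by
      rintro _ ⟨x, -, rfl⟩
      exact hg.pnt_mem x
    have e : (Opens.map (g.app pnt)).obj V = U' := by
      refine le_antisymm ?_ fun x hx => ⟨x, hx, rfl⟩
      rintro x ⟨x', hx', e⟩
      exact (hg.emb pnt).injective e ▸ hx'
    rw [← e]
    intro n s' hs'
    obtain ⟨s, rfl⟩ := (hg.us_bijective I hV _).2 s'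
    have hs : dd I V (n + 1) s = 0 := by
      refine (hg.us_bijective I hV _).1 ?_
      rw [map_zero, ← hs', dd_apply, dd_apply, map_sum]
      exact Finset.sum_congr rfl fun k _ => by rw [map_zsmul, us_ct]
    obtain ⟨t, rfl⟩ := acy_of_injective I V n s hs
    refine ⟨us g I V _ t, ?_⟩
    rw [dd_apply, dd_apply, map_sum]
    exact Finset.sum_congr rfl fun k _ => by rw [map_zsmul, us_ct]

end Open

section Unit

variable {G : CohTop.Ab (Y.obj pnt)} {E : TSh.{0, u} Y} {η : G ⟶ (res.{0, u} Y pnt).obj E}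

/-- The sections over `U` of `G` are the compatible sections over the zeroth space. -/
def PlB (η : G ⟶ (res.{0, u} Y pnt).obj E) (U : Opens (Y.obj pnt)) : Prop :=
  Function.Injective (pl.{0, u} η (th (toAug.obj (op ⦋0⦌))) U) ∧
    ∀ t ∈ eqz ((inclRes Y).obj E) U, ∃ s, pl.{0, u} η (th (toAug.obj (op ⦋0⦌))) U s = t

theorem plB_iff_app (η : G ⟶ (res.{0, u} Y pnt).obj E) (U : Opens (Y.obj pnt)) :
    PlB η U ↔ Function.Bijective ((η ≫ (theta Y).app E).hom.app (op U)).hom := by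
  constructor
  · rintro ⟨h₁, h₂⟩
    refine ⟨fun s s' e => h₁ ?_, fun p => ?_⟩
    · rw [← νP_comp U s, ← νP_comp U s', e]
    · obtain ⟨s, hs⟩ := h₂ _ (νP_mem _ U p)
      exact ⟨s, νP_injective _ U ((νP_comp U s).trans hs)⟩
  · rintro ⟨h₁, h₂⟩
    refine ⟨fun s s' e => h₁ (νP_injective _ U (((νP_comp U s).trans e).trans (νP_comp U s').symm)), fun t ht => ?_⟩
    obtain ⟨p, rfl⟩ := exists_νP_eq _ U ht
    obtain ⟨s, rfl⟩ := h₂ p
    exact ⟨s, (νP_comp U s).symm⟩

theorem isIso_of_plB (h : ∀ y : Y.obj pnt, ∃ U₀ : Opens (Y.obj pnt), y ∈ U₀ ∧ ∀ U ≤ U₀, PlB η U) :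
    IsIso (η ≫ (theta Y).app E) := by
  let φ := η ≫ (theta Y).app E
  have hbig : ∀ (V : Opens (Y.obj pnt)), ∀ y ∈ V, ∃ W : Opens (Y.obj pnt), y ∈ W ∧ ∃ hW : W ≤ V,
      Function.Bijective (φ.hom.app (op W)).hom := fun V y hy => by
    obtain ⟨U₀, hy₀, h₀⟩ := h y
    exact ⟨V ⊓ U₀, ⟨hy, hy₀⟩, inf_le_left, (plB_iff_app η _).1 (h₀ _ inf_le_right)⟩
  have hinj : ∀ V : Opens (Y.obj pnt), Mono (φ.hom.app (op V)) := fun V =>
    (AddCommGrpCat.mono_iff_injective _).2 ((injective_iff_map_eq_zero (φ.hom.app (op V)).hom).2 fun s hs => by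
      refine TopCat.Presheaf.section_ext G V s 0 fun y hy => ?_
      obtain ⟨W, hyW, hW, hb⟩ := hbig V y hy
      have e : (G.obj.map (homOfLE hW).op).hom s = 0 := hb.1 (by
        rw [map_zero]
        refine (ConcreteCategory.congr_hom (φ.hom.naturality (homOfLE hW).op) s).trans ?_
        exact (congrArg _ hs).trans (map_zero ((((inclRes Y ⋙ pushA Y).obj E).obj.map (homOfLE hW).op).hom)))
      rw [map_zero]
      exact (TopCat.Presheaf.germ_res_apply G.obj (homOfLE hW) y hyW s).symm.trans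
        ((congrArg _ e).trans (map_zero _)))
  haveI : Mono φ := (sheafToPresheaf (Opens.grothendieckTopology (Y.obj pnt)) AddCommGrpCat.{u}).mono_of_mono_map
    (@NatTrans.mono_of_mono_app _ _ _ _ _ _ φ.hom fun V => hinj V.unop)
  haveI : Epi φ := epi_of_local _ fun V p y hy => by
    obtain ⟨W, hyW, hW, hb⟩ := hbig V y hy
    exact ⟨W, hW, hyW, hb.2 _⟩
  exact isIso_of_mono_of_epi φ

theorem isIso_adjA_unit_of_comp
    (h : IsIso ((extAdj Y).unit.app G ≫ (theta Y).app ((extA Y).obj G))) : IsIso ((adjA Y).unit.app G) := by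
  haveI := h
  haveI : IsIso ((adjA Y).unit.app G ≫ (pushA Y).map ((pullAIso Y).inv.app G)) := by
    rw [adjA_unit_app Y G]
    infer_instance
  exact IsIso.of_isIso_comp_right _ ((pushA Y).map ((pullAIso Y).inv.app G))

theorem isIso_comp_theta_of_unit (hη : IsCart.{0, u} η) (h : IsIso ((adjA Y).unit.app G)) :
    IsIso (η ≫ (theta Y).app E) := by
  let Φ : (extA Y).obj G ⟶ E := ((extAdj Y).homEquiv G E).symm η
  have hΦ : (extAdj Y).unit.app G ≫ (res.{0, u} Y pnt).map Φ = η :=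
    ((extAdj Y).homEquiv_unit G E Φ).symm.trans (Equiv.apply_symm_apply _ _)
  haveI hiso : IsIso Φ := (isCart_extAdj Y G).isIso_of_fac hη (fun i => ⟨th i⟩) Φ hΦ
  haveI := h
  have key : η ≫ (theta Y).app E = ((adjA Y).unit.app G ≫ (pushA Y).map ((pullAIso Y).inv.app G)) ≫
      (pushA Y).map ((inclRes Y).map Φ) := by
    rw [adjA_unit_app, Category.assoc, ← hΦ, Category.assoc]
    exact congrArg (fun q => (extAdj Y).unit.app G ≫ q) ((theta Y).naturality Φ)
  rw [key]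
  infer_instance

theorem plB_of_unit (hη : IsCart.{0, u} η) (h : IsIso ((adjA Y).unit.app G)) (U : Opens (Y.obj pnt)) :
    PlB η U := by
  haveI := isIso_comp_theta_of_unit hη h
  refine (plB_iff_app η U).2 ((ConcreteCategory.isIso_iff_bijective _).1 ?_)
  exact inferInstanceAs (IsIso (((sheafToPresheaf _ _).map (η ≫ (theta Y).app E)).app (op U)))

variable {Z : Aug ⥤ TopCat.{u}} (g : Z ⟶ Y)

/-- The inverse image on sections over the preimage of an open subset of the base. -/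
noncomputable def uP (E : TSh.{0, u} Y) (U : Opens (Y.obj pnt)) (i : Aug) :
    sec.{0, u} E i (pre U i) →+ sec.{0, u} ((pullG g).obj E) i (pre ((Opens.map (g.app pnt)).obj U) i) :=
  (tr.{0, u} ((pullG g).obj E) (𝟙 i) (le_id.{0, u} (pre_preimg g U i).le)).comp (usec g E i (pre U i))

theorem uP_tr (E : TSh.{0, u} Y) (U : Opens (Y.obj pnt)) {i j : Aug} (f : i ⟶ j) (s : sec.{0, u} E j (pre U j)) :
    uP g E U i (tr.{0, u} E f (pre_le U f) s) =
      tr.{0, u} ((pullG g).obj E) f (pre_le _ f) (uP g E U j s) := by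
  refine (congrArg _ (usec_tr g E f (pre_le U f) s)).trans ?_
  exact ((tr_tr.{0, u} _ _ _ _ _).trans
    (tr_congr.{0, u} ((Category.id_comp f).trans (Category.comp_id f).symm) _ _ _)).trans
    (tr_tr.{0, u} _ _ _ _ _).symm

theorem uP_th (E : TSh.{0, u} Y) (U : Opens (Y.obj pnt)) (i : Aug) (r : sec.{0, u} E pnt U) :
    uP g E U i (tr.{0, u} E (th i) le_rfl r) =
      tr.{0, u} ((pullG g).obj E) (th i) le_rfl (usec g E pnt U r) := by
  refine (congrArg _ (usec_tr g E (th i) le_rfl r)).trans ?_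
  exact (tr_tr.{0, u} _ _ _ _ _).trans (tr_congr.{0, u} (Category.id_comp _) _ _ _)

variable {g} {T : Set (Y.obj pnt)} (hg : IsSubOver g T)
include hg

theorem IsSubOver.uP_bijective (E : TSh.{0, u} Y) {U : Opens (Y.obj pnt)} (hU : (U : Set (Y.obj pnt)) ⊆ T)
    (i : Aug) : Function.Bijective (uP g E U i) := by
  have hr : (pre U i : Set (Y.obj i)) ⊆ Set.range (g.app i) := fun x hx => by
    rw [hg.range]
    exact hU hx
  have hb : Function.Bijective (tr.{0, u} ((pullG g).obj E) (𝟙 i) (le_id.{0, u} (pre_preimg g U i).le)) := by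
    refine Function.bijective_iff_has_inverse.2
      ⟨tr.{0, u} _ (𝟙 i) (le_id.{0, u} (pre_preimg g U i).ge), fun s => ?_, fun s => ?_⟩
    · rw [tr_tr]
      exact (tr_congr.{0, u} (Category.id_comp _) _ (le_id.{0, u} le_rfl) s).trans (tr_self.{0, u} _ s)
    · rw [tr_tr]
      exact (tr_congr.{0, u} (Category.id_comp _) _ (le_id.{0, u} le_rfl) s).trans (tr_self.{0, u} _ s)
  exact hb.comp ⟨usec_injective _ E i hr, usec_surjective _ E i (hg.emb i).isInducing hr⟩

theorem IsSubOver.plB (hη : IsCart.{0, u} η) (hZ : Desc Z) {U : Opens (Y.obj pnt)}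
    (hU : (U : Set (Y.obj pnt)) ⊆ T) : PlB η U := by
  haveI := hη.isIso
  haveI hηb : Function.Bijective (η.hom.app (op U)).hom := (ConcreteCategory.isIso_iff_bijective _).1
    (inferInstanceAs (IsIso (((sheafToPresheaf _ _).map η).app (op U))))
  have h' := plB_of_unit (isCart_pullG g hη) (hZ _).1 ((Opens.map (g.app pnt)).obj U)
  have hr : (U : Set (Y.obj pnt)) ⊆ Set.range (g.app pnt) := fun x hx => hg.exists_pnt (hU hx)
  have hu : Function.Bijective (usec g E pnt U) :=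
    ⟨usec_injective _ E pnt hr, usec_surjective _ E pnt (hg.emb pnt).isInducing hr⟩
  have hX := hg.uP_bijective E hU (toAug.obj (op ⦋0⦌))
  refine ⟨fun s s' e => hηb.1 (hu.1 (h'.1 ?_)), fun t ht => ?_⟩
  · exact (uP_th g E U _ _).symm.trans ((congrArg _ e).trans (uP_th g E U _ _))
  · have ht' : uP g E U _ t ∈ eqz ((inclRes Z).obj ((pullG g).obj E)) ((Opens.map (g.app pnt)).obj U) := by
      refine ((uP_tr g E U _ t).symm.trans ?_).trans (uP_tr g E U _ t)
      exact congrArg (uP g E U _) ht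
    obtain ⟨r', hr'⟩ := h'.2 _ ht'
    obtain ⟨r, rfl⟩ := hu.2 r'
    obtain ⟨s, rfl⟩ := hηb.2 r
    exact ⟨s, hX.1 ((uP_th g E U _ _).trans hr')⟩

omit hg

/-- Descent is local on the base. -/
theorem desc_of_cover {κ : Type u} {Zf : κ → Aug ⥤ TopCat.{u}} (gf : ∀ k, Zf k ⟶ Y) (T : κ → Set (Y.obj pnt))
    (hg : ∀ k, IsSubOver (gf k) (T k)) (hT : ∀ k, IsOpen (T k)) (hcov : ∀ y, ∃ k, y ∈ T k)
    (h : ∀ k, Desc (Zf k)) : Desc Y := fun G => by
  refine ⟨isIso_adjA_unit_of_comp (isIso_of_plB fun y => ?_), fun q => ?_⟩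
  · obtain ⟨k, hk⟩ := hcov y
    exact ⟨⟨T k, hT k⟩, hk, fun U hU => (hg k).plB (isCart_extAdj Y G) (h k) hU⟩
  · refine isZero_rpush_of_pullG (Y := Y) (κ := κ) (Zf := Zf) gf (fun y => ?_) (fun k I hI q => ?_) (fun k q => ?_) q
    · obtain ⟨k, hk⟩ := hcov y
      obtain ⟨y', hy'⟩ := (hg k).exists_pnt hk
      exact ⟨k, y', hy', (hg k).nearBC (hT k) y'⟩
    · haveI := hI
      exact (hg k).isZero_rpush (hT k) I q
    · exact isZero_rd_pullG_pullA (gf k) (fun G' => (h k G').2) G q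

/-- Descent is invariant under isomorphisms. -/
theorem desc_of_iso (e : Z ≅ Y) (h : Desc Z) : Desc Y :=
  desc_of_cover (κ := PUnit) (fun _ => e.hom) (fun _ => Set.univ)
    (fun _ => ⟨fun i => (TopCat.homeoOfIso (e.app i)).isEmbedding,
      fun i => Set.eq_univ_of_forall fun x => ⟨e.inv.app i x, ConcreteCategory.congr_hom (e.inv_hom_id_app i) x⟩⟩)
    (fun _ => isOpen_univ) (fun _ => ⟨PUnit.unit, trivial⟩) (fun _ => h)

end Unit

end Groth.Agent.FibDesc74
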