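import Groth.Agent.FibDesc74.BiTransfer
import Groth.Agent.FibDesc74.OpenSub

/-!
# Descent for a bisimplicial space augmented in both directions
-/

set_option autoImplicit false

universe u

open CategoryTheory CategoryTheory.Limits Opposite TopologicalSpace Pseudofunctor.CoGrothendieck
open Simplicial

namespace Groth.Agent.FibDesc74

/-- All transition maps on stalks are bijective. -/
def Loc {B : Type} [Category.{0} B] {Y : B ⥤ TopCat.{u}} (E : TSh.{0, u} Y) : Prop :=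
  ∀ j : B, IsCart.{0, u} (𝟙 ((res.{0, u} Y j).obj E))

section Loc

variable {B : Type} [Category.{0} B] {Y : B ⥤ TopCat.{u}}

theorem IsCart.loc {b : B} {G : CohTop.Ab (Y.obj b)} {E : TSh.{0, u} Y} {η : G ⟶ (res.{0, u} Y b).obj E}
    (hη : IsCart.{0, u} η) (hb : ∀ i, Nonempty (i ⟶ b)) : Loc E := by
  intro j i f x
  obtain ⟨g⟩ := hb j
  have hxg : Y.map g (Y.map f x) = Y.map (f ≫ g) x := by rw [Y.map_comp]; rfl
  have step : ∀ (U : Opens (Y.obj b)) (hU : Y.map (f ≫ g) x ∈ U) (s : G.obj.obj (op U)),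
      kap.{0, u} (𝟙 ((res.{0, u} Y j).obj E)) f x
          (gm.{0, u} E (Y.map f x) (show Y.map f x ∈ (Opens.map (Y.map g)).obj U from (show Y.map g (Y.map f x) ∈ U from hxg ▸ hU))
            (pl.{0, u} η g U s)) =
        kap.{0, u} η (f ≫ g) x (TopCat.Presheaf.germ G.obj U (Y.map (f ≫ g) x) hU s) := fun U hU s => by
    refine (kap_germ.{0, u} (𝟙 ((res.{0, u} Y j).obj E)) f x _ _ _).trans ?_
    refine Eq.trans ?_ (kap_germ.{0, u} η (f ≫ g) x U hU s).symm
    show gm.{0, u} E x _ (tr.{0, u} E f le_rfl (tr.{0, u} E g le_rfl ((η.hom.app (op U)).hom s))) = _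
    rw [tr_tr]
    refine Eq.trans ?_ (gm_res.{0, u} (A := E) x (W := (Opens.map (Y.map f)).obj ((Opens.map (Y.map g)).obj U))
      (V := (Opens.map (Y.map (f ≫ g))).obj U) (fun y hy => le_comp.{0, u} le_rfl le_rfl hy)
      (show Y.map g (Y.map f x) ∈ U from hxg ▸ hU) _)
    refine congrArg _ ?_
    refine Eq.trans ?_ (tr_tr.{0, u} (A := E) _ _ _ _ _).symm
    exact tr_congr.{0, u} (Category.id_comp _).symm _ _ _
  refine ⟨(injective_iff_map_eq_zero _).2 fun t ht => ?_, fun t => ?_⟩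
  · obtain ⟨a, ha⟩ := (hη j g (Y.map f x)).2 t
    obtain ⟨U, hU, s, rfl⟩ := TopCat.Presheaf.exists_germ_eq G.obj a
    rw [kap_germ.{0, u}] at ha
    subst ha
    have hU' : Y.map (f ≫ g) x ∈ U := hxg ▸ hU
    have h0 := (hη i (f ≫ g) x).1 ((((step U hU' s).symm.trans ht)).trans (map_zero _).symm)
    have h1 := germ_transport.{0, u} hxg.symm hU' hU s h0
    exact ((kap_germ.{0, u} η g (Y.map f x) U hU s).symm.trans (congrArg _ h1)).trans (map_zero _)
  · obtain ⟨a, rfl⟩ := (hη i (f ≫ g) x).2 t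
    obtain ⟨U, hU, s, rfl⟩ := TopCat.Presheaf.exists_germ_eq G.obj a
    exact ⟨_, step U hU s⟩

variable {B' : Type} [Category.{0} B'] (K : B' ⥤ B) (E : TSh.{0, u} Y)

theorem gm_restrK_iff {i : B'} (x : (K ⋙ Y).obj i) {V V' : Opens ((K ⋙ Y).obj i)} (hx : x ∈ V) (hx' : x ∈ V')
    (s : sec.{0, u} E (K.obj i) V) (s' : sec.{0, u} E (K.obj i) V') :
    gm.{0, u} (Y := K ⋙ Y) ((restrK.{0, u} K Y).obj E) x hx s =
        gm.{0, u} (Y := K ⋙ Y) ((restrK.{0, u} K Y).obj E) x hx' s' ↔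
      gm.{0, u} (Y := Y) E x hx s = gm.{0, u} (Y := Y) E x hx' s' := by
  constructor
  · intro h
    obtain ⟨T, h₁, h₂, hT, e⟩ := gm_eq.{0, u} (Y := K ⋙ Y) (A := (restrK.{0, u} K Y).obj E) hx hx' s s' h
    rw [← gm_res.{0, u} (Y := Y) (A := E) x h₁ hT s, ← gm_res.{0, u} (Y := Y) (A := E) x h₂ hT s']
    exact congrArg _ (((tr_congr.{0, u} (Y := Y) (A := E) (K.map_id i).symm _ _ s).trans e).trans
      (tr_congr.{0, u} (Y := Y) (A := E) (K.map_id i) _ _ s'))
  · intro h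
    obtain ⟨T, h₁, h₂, hT, e⟩ := gm_eq.{0, u} (Y := Y) (A := E) hx hx' s s' h
    rw [← gm_res.{0, u} (Y := K ⋙ Y) (A := (restrK.{0, u} K Y).obj E) x h₁ hT s,
      ← gm_res.{0, u} (Y := K ⋙ Y) (A := (restrK.{0, u} K Y).obj E) x h₂ hT s']
    exact congrArg _ (((tr_congr.{0, u} (Y := Y) (A := E) (K.map_id i) _ _ s).trans e).trans
      (tr_congr.{0, u} (Y := Y) (A := E) (K.map_id i).symm _ _ s'))

variable {E}

theorem Loc.restrK (h : Loc E) : Loc ((restrK.{0, u} K Y).obj E) := by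
  intro j i f x
  let E' := (FibDesc74.restrK.{0, u} K Y).obj E
  have hb := h (K.obj j) (K.obj i) (K.map f) x
  refine ⟨(injective_iff_map_eq_zero _).2 fun t ht => ?_, fun t => ?_⟩
  · obtain ⟨V, hV, r, rfl⟩ := exists_gm.{0, u} (Y := K ⋙ Y) (A := E') (i := j) t
    replace ht := (kap_germ.{0, u} (Y := K ⋙ Y) (𝟙 ((res.{0, u} (K ⋙ Y) j).obj E')) f x V hV r).symm.trans ht
    rw [← map_zero (gm.{0, u} (Y := K ⋙ Y) E' x
      (show x ∈ (Opens.map ((K ⋙ Y).map f)).obj V from hV))] at ht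
    have h1 := ((gm_restrK_iff K E x _ _ _ _).1 ht).trans (map_zero _)
    have h2 : gm.{0, u} (Y := Y) E (Y.map (K.map f) x) hV r = 0 :=
      hb.1 (((kap_germ.{0, u} (Y := Y) (𝟙 ((res.{0, u} Y (K.obj j)).obj E)) (K.map f) x V hV r).trans h1).trans
        (map_zero _).symm)
    exact ((gm_restrK_iff K E _ hV hV r 0).2 (h2.trans (map_zero _).symm)).trans (map_zero _)
  · obtain ⟨V', hV', r', rfl⟩ := exists_gm.{0, u} (Y := K ⋙ Y) (A := E') (i := i) t
    obtain ⟨a, ha⟩ := hb.2 (gm.{0, u} (Y := Y) E x hV' r')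
    obtain ⟨V, hV, r, rfl⟩ := exists_gm.{0, u} (Y := Y) (A := E) (i := K.obj j) a
    replace ha := (kap_germ.{0, u} (Y := Y) (𝟙 ((res.{0, u} Y (K.obj j)).obj E)) (K.map f) x V hV r).symm.trans ha
    exact ⟨gm.{0, u} (Y := K ⋙ Y) E' ((K ⋙ Y).map f x) hV r,
      (kap_germ.{0, u} (Y := K ⋙ Y) (𝟙 ((res.{0, u} (K ⋙ Y) j).obj E')) f x V hV r).trans
        ((gm_restrK_iff K E x _ hV' _ r').2 ha)⟩

end Loc

theorem nonempty_pullA_iso {Y : Aug ⥤ TopCat.{u}} {G : CohTop.Ab (Y.obj pnt)} {E : TSh.{0, u} Y}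
    {η : G ⟶ (res.{0, u} Y pnt).obj E} (hη : IsCart.{0, u} η) :
    Nonempty ((pullA Y).obj G ≅ (inclRes Y).obj E) := by
  let Φ : (extA Y).obj G ⟶ E := ((extAdj Y).homEquiv G E).symm η
  have hΦ : (extAdj Y).unit.app G ≫ (res.{0, u} Y pnt).map Φ = η :=
    ((extAdj Y).homEquiv_unit G E Φ).symm.trans (Equiv.apply_symm_apply _ _)
  haveI hiso : IsIso Φ := (isCart_extAdj Y G).isIso_of_fac hη (fun i => ⟨th i⟩) Φ hΦ
  exact ⟨((pullAIso Y).app G).symm ≪≫ (inclRes Y).mapIso (asIso Φ)⟩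

section Bi

variable (W : Aug2 ⥤ TopCat.{u}) (E : TSh.{0, u} W)

/-- The restriction to the part. -/
noncomputable abbrev part2 : BSh W := (restrK.{0, u} toAug2 W).obj E

/-- The restriction to a row. -/
noncomputable abbrev rowE (i : Aug) : TSh.{0, u} (rowD W i) := (restrK.{0, u} (sR i) W).obj E

/-- The restriction to a column. -/
noncomputable abbrev colE (j : Aug) : TSh.{0, u} (colD W j) := (restrK.{0, u} (sL j) W).obj E

/-- The sheaf with the directions exchanged. -/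
noncomputable abbrev swE : TSh.{0, u} (swW W) := (restrK.{0, u} swp W).obj E

/-- The row of the restriction to the part. -/
noncomputable def rowPartIso (m : SC) :
    (rowSh W m).obj (part2 W E) ≅ (inclRes (rowD W (toAug.obj m))).obj (rowE W E (toAug.obj m)) :=
  (fullyFaithfulSheafToPresheaf _ _).preimageIso
    (NatIso.ofComponents (fun _ => Iso.refl _) fun {X X'} g => by
      refine (Category.comp_id _).trans (Eq.trans ?_ (Category.id_comp _).symm)
      exact congrArg (fun k => E.obj.map (Quiver.Hom.op k)) (hext.{0, u} (Y := W) _ _ rfl))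

/-- The restriction to the part with the directions exchanged. -/
noncomputable def swPartIso : (swSh W).obj (part2 W E) ≅ part2 (swW W) (swE W E) :=
  (fullyFaithfulSheafToPresheaf _ _).preimageIso
    (NatIso.ofComponents (fun _ => Iso.refl _) fun {X X'} g => by
      refine (Category.comp_id _).trans (Eq.trans ?_ (Category.id_comp _).symm)
      exact congrArg (fun k => E.obj.map (Quiver.Hom.op k)) (hext.{0, u} (Y := W) _ _ rfl))

/-- The edge map before lifting. -/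
noncomputable def edge0 : (inclRes (colD W pnt)).obj (colE W E pnt) ⟶ (PC W (op ⦋0⦌)).obj (part2 W E) := ⟨
  { app := fun X => AddCommGrpCat.ofHom
      (tr.{0, u} (Y := W) E
        (CategoryTheory.Prod.mkHom (𝟙 (toAug.obj X.unop.base)) (th (toAug.obj (op ⦋0⦌))))
        (le_rfl : rp W (op ⦋0⦌) X.unop.base (fib.{0, u} (Y := prt (colD W pnt)) X.unop) ≤ _))
    naturality := fun X X' g => by
      refine ConcreteCategory.hom_ext _ _ fun s => ?_
      refine (tr_tr.{0, u} (Y := W) (A := E) (W := rp W (op ⦋0⦌) X'.unop.base _) _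
        (CategoryTheory.Prod.mkHom (toAug.map g.unop.base) (𝟙 pnt)) le_rfl
        (hom_le.{0, u} (Y := prt (colD W pnt)) g.unop) s).trans ?_
      refine Eq.trans ?_ (tr_tr.{0, u} (Y := W) (A := E) _ _ _ _ s).symm
      exact tr_congr.{0, u} (Y := W) (A := E)
        (Prod.ext ((Category.id_comp _).trans (Category.comp_id _).symm)
          (to_pnt_ext _ _)) _ _ s }⟩

theorem edge0_dd : edge0 W E ≫ dd01 W (part2 W E) = 0 := by
  rw [Preadditive.comp_sub, sub_eq_zero]
  refine Sheaf.hom_ext (NatTrans.ext (funext fun X => ConcreteCategory.hom_ext _ _ fun s => ?_))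
  refine (tr_tr.{0, u} (Y := W) (A := E) _ _ _ _ s).trans (Eq.trans ?_ (tr_tr.{0, u} (Y := W) (A := E) _ _ _ _ s).symm)
  exact tr_congr.{0, u} (Y := W) (A := E) (Prod.ext rfl (to_pnt_ext _ _)) _ _ s

/-- The edge map. -/
noncomputable def edge : (inclRes (colD W pnt)).obj (colE W E pnt) ⟶ (rel W).obj (part2 W E) :=
  relLift W (part2 W E) (edge0 W E) (edge0_dd W E)

variable {E}

theorem νR_edge (m : SC) (U : Opens (W.obj (toAug.obj m, pnt))) (s : sec.{0, u} (Y := W) E (toAug.obj m, pnt) U) :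
    νR W (part2 W E) m U (ap.{0, u} (Y := prt (colD W pnt)) (edge W E) m U s) =
      pl.{0, u} (Y := rowD W (toAug.obj m)) (𝟙 ((res.{0, u} (rowD W (toAug.obj m)) pnt).obj (rowE W E (toAug.obj m))))
        (th (toAug.obj (op ⦋0⦌))) U s :=
  congrArg (fun q => ap.{0, u} (Y := prt (colD W pnt)) q m U s) (relLift_ι W (part2 W E) (edge0 W E) (edge0_dd W E))

theorem isIso_edge (hE : Loc E) (h : ∀ m : SC, Desc (rowD W (toAug.obj m))) : IsIso (edge W E) := by
  have hb : ∀ (m : SC) (U : Opens (W.obj (toAug.obj m, pnt))),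
      Function.Bijective (ap.{0, u} (Y := prt (colD W pnt)) (edge W E) m U) := fun m U => by
    obtain ⟨h1, h2⟩ := plB_of_unit (hE.restrK (sR (toAug.obj m)) pnt) (h m _).1 U
    refine ⟨fun s s' e => h1 ?_, fun r => ?_⟩
    · exact (νR_edge W m U s).symm.trans ((congrArg _ e).trans (νR_edge W m U s'))
    · obtain ⟨s, hs⟩ := h2 (νR W (part2 W E) m U r) (νR_mem W (part2 W E) m U r)
      exact ⟨s, νR_injective W _ m U ((νR_edge W m U s).trans hs)⟩
  haveI : IsIso ((sheafToPresheaf (totT.{0, u} (prt (colD W pnt))) AddCommGrpCat.{u}).map (edge W E)) :=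
    @NatIso.isIso_of_isIso_app _ _ _ _ _ _ (edge W E).hom fun X =>
      (ConcreteCategory.isIso_iff_bijective _).2 (hb X.unop.base (fib.{0, u} (Y := prt (colD W pnt)) X.unop))
  exact isIso_of_reflects_iso (edge W E) (sheafToPresheaf _ _)

theorem isZero_rd_rowSh_part2 (hE : Loc E) (h : ∀ m : SC, Desc (rowD W (toAug.obj m))) (m : SC) (q : ℕ) :
    IsZero (((pushA (rowD W (toAug.obj m))).rightDerived (q + 1)).obj ((rowSh W m).obj (part2 W E))) := by
  obtain ⟨e⟩ := nonempty_pullA_iso (hE.restrK (sR (toAug.obj m)) pnt)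
  exact ((h m _).2 q).of_iso (((pushA (rowD W (toAug.obj m))).rightDerived (q + 1)).mapIso
    (rowPartIso W E m ≪≫ e.symm))

theorem nonempty_rel_iso (hE : Loc E) (h : ∀ m : SC, Desc (rowD W (toAug.obj m))) :
    Nonempty ((pullA (colD W pnt)).obj ((res.{0, u} (colD W pnt) pnt).obj (colE W E pnt)) ≅
      (rel W).obj (part2 W E)) := by
  obtain ⟨e⟩ := nonempty_pullA_iso (hE.restrK (sL pnt) pnt)
  haveI := isIso_edge W hE h
  exact ⟨e ≪≫ asIso (edge W E)⟩

theorem isZero_rd_col (hE : Loc E) (hrow : ∀ m : SC, Desc (rowD W (toAug.obj m)))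
    (hcol : ∀ n : SC, Desc (colD W (toAug.obj n))) (h0 : Desc (rowD W pnt)) (q : ℕ) :
    IsZero (((pushA (colD W pnt)).rightDerived (q + 1)).obj
      ((pullA (colD W pnt)).obj ((res.{0, u} (colD W pnt) pnt).obj (colE W E pnt)))) := by
  have hE' : Loc (swE W E) := hE.restrK swp
  obtain ⟨e⟩ := nonempty_rel_iso W hE hrow
  obtain ⟨e'⟩ := nonempty_rel_iso (swW W) hE' hcol
  refine IsZero.of_iso ?_ (((pushA (colD W pnt)).rightDerived (q + 1)).mapIso e)
  refine isZero_rd_rel_of_swap W q (part2 W E) ⟨isZero_rd_rowSh_part2 W hE hrow, fun m q => ?_⟩ ?_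
  · exact (isZero_rd_rowSh_part2 (swW W) hE' hcol m q).of_iso
      (((pushA (rowD (swW W) (toAug.obj m))).rightDerived (q + 1)).mapIso
        ((rowSh (swW W) m).mapIso (swPartIso W E)))
  · exact IsZero.of_iso ((h0 _).2 q) (((pushA (colD (swW W) pnt)).rightDerived (q + 1)).mapIso
      ((rel (swW W)).mapIso (swPartIso W E) ≪≫ e'.symm))

theorem plB_col (hE : Loc E) (hrow : ∀ m : SC, Desc (rowD W (toAug.obj m)))
    (hcol : ∀ n : SC, Desc (colD W (toAug.obj n))) (h0 : Desc (rowD W pnt)) (U : Opens (W.obj (pnt, pnt))) :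
    PlB (Y := colD W pnt) (𝟙 ((res.{0, u} (colD W pnt) pnt).obj (colE W E pnt))) U := by
  have hY := plB_of_unit (hE.restrK (sR pnt) pnt) (h0 _).1 U
  have hC : ∀ n : SC, PlB (Y := colD W (toAug.obj n)) (𝟙 ((res.{0, u} (colD W (toAug.obj n)) pnt).obj
      (colE W E (toAug.obj n)))) (pre (Y := rowD W pnt) U (toAug.obj n)) := fun n =>
    plB_of_unit (hE.restrK (sL (toAug.obj n)) pnt) (hcol n _).1 _
  have hR := plB_of_unit (hE.restrK (sR (toAug.obj (op ⦋0⦌))) pnt) (hrow (op ⦋0⦌) _).1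
    (pre (Y := colD W pnt) U (toAug.obj (op ⦋0⦌)))
  have hle : ∀ {i j i' j' : Aug} (f : (i, j) ⟶ (i', j')),
      (Opens.map (W.map (CategoryTheory.Prod.mkHom (th i) (th j)))).obj U ≤
        (Opens.map (W.map f)).obj ((Opens.map (W.map (CategoryTheory.Prod.mkHom (th i') (th j')))).obj U) := by
    intro i j i' j' f a ha
    show W.map _ (W.map f a) ∈ U
    rw [← ConcreteCategory.comp_apply, ← W.map_comp]
    exact (congrArg (fun z => W.map z a ∈ U) (Prod.ext (to_pnt_ext _ _) (to_pnt_ext _ _))).mp ha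
  have hc : ∀ n : SC, pre (Y := colD W (toAug.obj n)) (pre (Y := rowD W pnt) U (toAug.obj n))
      (toAug.obj (op ⦋0⦌)) = (Opens.map (W.map (CategoryTheory.Prod.mkHom (th (toAug.obj (op ⦋0⦌)))
        (th (toAug.obj n))))).obj U := fun n => by
    refine Opens.ext (Set.ext fun a => ?_)
    show W.map _ (W.map _ a) ∈ U ↔ W.map _ a ∈ U
    rw [← ConcreteCategory.comp_apply, ← W.map_comp]
    exact Iff.of_eq (congrArg (fun z => W.map z a ∈ U) (Prod.ext (to_pnt_ext _ _) (to_pnt_ext _ _)))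
  let X₀ := toAug.obj (op ⦋0⦌)
  let X₁ := toAug.obj (op ⦋1⦌)
  let O := fun (i j : Aug) => (Opens.map (W.map (CategoryTheory.Prod.mkHom (th i) (th j)))).obj U
  refine ⟨fun s s' e => hY.1 ((hC (op ⦋0⦌)).1 ?_), fun t ht => ?_⟩
  · have e2 := congrArg (tr.{0, u} (Y := W) E (CategoryTheory.Prod.mkHom (𝟙 X₀) (th X₀))
      ((hc (op ⦋0⦌)).le.trans (fun a ha => hle _ ha |> fun h => by
        have : W.map (CategoryTheory.Prod.mkHom (th X₀) (th pnt))
          (W.map (CategoryTheory.Prod.mkHom (𝟙 X₀) (th X₀)) a) ∈ U := h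
        rwa [show th pnt = 𝟙 pnt from to_pnt_ext _ _] at this))) e
    refine (tr_tr.{0, u} (Y := W) (A := E) _ _ _ _ _).trans (Eq.trans ?_ (tr_tr.{0, u} (Y := W) (A := E) _ _ _ _ _).symm)
    refine ((tr_congr.{0, u} (Y := W) (A := E) ?_ _ _ _).trans
      ((tr_tr.{0, u} (Y := W) (A := E) _ _ _ _ _).symm.trans e2)).trans
      ((tr_tr.{0, u} (Y := W) (A := E) _ _ _ _ _).trans (tr_congr.{0, u} (Y := W) (A := E) ?_ _ _ _))
    · exact Prod.ext (to_pnt_ext _ _) (to_pnt_ext _ _)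
    · exact Prod.ext (to_pnt_ext _ _) (to_pnt_ext _ _)
  · have hle0 : pre (Y := colD W (toAug.obj (op ⦋0⦌))) (pre (Y := rowD W pnt) U X₀) X₀ ≤
        (Opens.map (W.map (CategoryTheory.Prod.mkHom (𝟙 X₀) (th X₀)))).obj (pre (Y := colD W pnt) U X₀) := by
      intro a ha
      have ha' : W.map (CategoryTheory.Prod.mkHom (𝟙 pnt) (th X₀))
          (W.map (CategoryTheory.Prod.mkHom (th X₀) (𝟙 X₀)) a) ∈ U := ha
      show W.map (CategoryTheory.Prod.mkHom (th X₀) (𝟙 pnt))
        (W.map (CategoryTheory.Prod.mkHom (𝟙 X₀) (th X₀)) a) ∈ U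
      rw [← ConcreteCategory.comp_apply, ← W.map_comp] at ha' ⊢
      exact (congrArg (fun z => W.map z a ∈ U) (Prod.ext (to_pnt_ext _ _) (to_pnt_ext _ _))).mp ha'
    let t' := tr.{0, u} (Y := W) E (CategoryTheory.Prod.mkHom (𝟙 X₀) (th X₀)) hle0 t
    have ht' : t' ∈ eqz (Y := colD W (toAug.obj (op ⦋0⦌))) ((inclRes _).obj (colE W E X₀))
        (pre (Y := rowD W pnt) U X₀) := by
      show _ = _
      have hle1 : pre (Y := colD W X₀) (pre (Y := rowD W pnt) U X₀) X₁ ≤
          (Opens.map (W.map (CategoryTheory.Prod.mkHom (𝟙 X₁) (th X₀)))).obj (pre (Y := colD W pnt) U X₁) := by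
        intro a ha
        have ha' : W.map (CategoryTheory.Prod.mkHom (𝟙 pnt) (th X₀))
            (W.map (CategoryTheory.Prod.mkHom (th X₁) (𝟙 X₀)) a) ∈ U := ha
        show W.map (CategoryTheory.Prod.mkHom (th X₁) (𝟙 pnt))
          (W.map (CategoryTheory.Prod.mkHom (𝟙 X₁) (th X₀)) a) ∈ U
        rw [← ConcreteCategory.comp_apply, ← W.map_comp] at ha' ⊢
        exact (congrArg (fun z => W.map z a ∈ U) (Prod.ext (to_pnt_ext _ _) (to_pnt_ext _ _))).mp ha'
      have q := congrArg (tr.{0, u} (Y := W) E (CategoryTheory.Prod.mkHom (𝟙 X₁) (th X₀)) hle1)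
        ((mem_eqz _).1 ht)
      refine (tr_tr.{0, u} (Y := W) (A := E) _ _ _ _ t).trans (Eq.trans ?_ (tr_tr.{0, u} (Y := W) (A := E) _ _ _ _ t).symm)
      refine ((tr_congr.{0, u} (Y := W) (A := E) ?_ _ _ _).trans
        ((tr_tr.{0, u} (Y := W) (A := E) _ _ _ _ _).symm.trans q)).trans
        ((tr_tr.{0, u} (Y := W) (A := E) _ _ _ _ _).trans (tr_congr.{0, u} (Y := W) (A := E) ?_ _ _ _))
      · exact Prod.ext ((Category.comp_id _).trans (Category.id_comp _).symm)
          ((Category.id_comp _).trans (Category.comp_id _).symm)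
      · exact Prod.ext ((Category.id_comp _).trans (Category.comp_id _).symm)
          ((Category.comp_id _).trans (Category.id_comp _).symm)
    obtain ⟨t'', ht''⟩ := (hC (op ⦋0⦌)).2 t' ht'
    have hmem : t'' ∈ eqz (Y := rowD W pnt) ((inclRes _).obj (rowE W E pnt)) U := by
      show _ = _
      refine (hC (op ⦋1⦌)).1 ?_
      have hk : ∀ k : Fin 2, pre (Y := colD W X₁) (pre (Y := rowD W pnt) U X₁) X₀ ≤
          (Opens.map (W.map (CategoryTheory.Prod.mkHom (𝟙 X₀) (toAug.map (SimplexCategory.δ k).op)))).obj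
            (pre (Y := colD W X₀) (pre (Y := rowD W pnt) U X₀) X₀) := fun k =>
        ((hc (op ⦋1⦌)).le.trans (hle _)).trans (fun a ha => (hc (op ⦋0⦌)).ge ha)
      have q : ∀ k : Fin 2, _ := fun k => congrArg (tr.{0, u} (Y := W) E
        (CategoryTheory.Prod.mkHom (𝟙 X₀) (toAug.map (SimplexCategory.δ k).op)) (hk k)) ht''
      have qq : tr.{0, u} (Y := W) E _ (hk 0) t' = tr.{0, u} (Y := W) E _ (hk 1) t' := by
        refine (tr_tr.{0, u} (Y := W) (A := E) _ _ _ _ t).trans (Eq.trans ?_ (tr_tr.{0, u} (Y := W) (A := E) _ _ _ _ t).symm)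
        exact tr_congr.{0, u} (Y := W) (A := E) (Prod.ext rfl (to_pnt_ext _ _)) _ _ t
      have qqq := ((q 0).trans qq).trans (q 1).symm
      refine (tr_tr.{0, u} (Y := W) (A := E) _ _ _ _ _).trans (Eq.trans ?_ (tr_tr.{0, u} (Y := W) (A := E) _ _ _ _ _).symm)
      refine ((tr_congr.{0, u} (Y := W) (A := E) ?_ _ _ _).trans
        ((tr_tr.{0, u} (Y := W) (A := E) _ _ _ _ _).symm.trans qqq)).trans
        ((tr_tr.{0, u} (Y := W) (A := E) _ _ _ _ _).trans (tr_congr.{0, u} (Y := W) (A := E) ?_ _ _ _))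
      · exact Prod.ext ((Category.comp_id _).trans (Category.id_comp _).symm)
          ((Category.id_comp _).trans (Category.comp_id _).symm)
      · exact Prod.ext ((Category.id_comp _).trans (Category.comp_id _).symm)
          ((Category.comp_id _).trans (Category.id_comp _).symm)
    obtain ⟨s, hs⟩ := hY.2 t'' hmem
    refine ⟨s, hR.1 ?_⟩
    have hback : pre (Y := rowD W X₀) (pre (Y := colD W pnt) U X₀) X₀ ≤
        pre (Y := colD W X₀) (pre (Y := rowD W pnt) U X₀) X₀ := fun a ha => by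
      have ha' : W.map (CategoryTheory.Prod.mkHom (th X₀) (𝟙 pnt))
          (W.map (CategoryTheory.Prod.mkHom (𝟙 X₀) (th X₀)) a) ∈ U := ha
      show W.map (CategoryTheory.Prod.mkHom (𝟙 pnt) (th X₀))
        (W.map (CategoryTheory.Prod.mkHom (th X₀) (𝟙 X₀)) a) ∈ U
      rw [← ConcreteCategory.comp_apply, ← W.map_comp] at ha' ⊢
      exact (congrArg (fun z => W.map z a ∈ U) (Prod.ext (to_pnt_ext _ _) (to_pnt_ext _ _))).mp ha'
    rw [← hs] at ht''
    have q := congrArg (tr.{0, u} (Y := W) E (𝟙 (X₀, X₀)) (le_id.{0, u} (Y := W) hback)) ht''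
    refine ((tr_tr.{0, u} (Y := W) (A := E) _ _ _ _ _).trans ?_).trans
      ((q.trans (tr_tr.{0, u} (Y := W) (A := E) _ _ _ _ t)).trans
        (tr_congr.{0, u} (Y := W) (A := E) (Category.id_comp _) _ _ t))
    refine Eq.trans ?_ (tr_tr.{0, u} (Y := W) (A := E) _ _ _ _ _).symm
    refine Eq.trans ?_ (tr_tr.{0, u} (Y := W) (A := E) _ _ _ _ _).symm
    exact tr_congr.{0, u} (Y := W) (A := E) (Prod.ext (to_pnt_ext _ _) (to_pnt_ext _ _)) _ _ _

end Bi

end Groth.Agent.FibDesc74
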