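import Groth.Agent.FibDesc74.BiRel
import Groth.Agent.FibDesc74.Acyclic

/-!
# Injective sheaves on the part of a bisimplicial space
-/

set_option autoImplicit false

universe u

open CategoryTheory CategoryTheory.Limits Opposite TopologicalSpace Pseudofunctor.CoGrothendieck
open Simplicial

namespace Groth.Agent.FibDesc74

variable (W : Aug2 ⥤ TopCat.{u})

theorem flasque_of_retract {X : TopCat.{u}} {M N : CohTop.Ab X} [TopCat.Sheaf.IsFlasque N] (φ : M ⟶ N)
    (r : N ⟶ M) (h : φ ≫ r = 𝟙 M) : TopCat.Sheaf.IsFlasque M where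
  epi {U V} k := by
    refine (AddCommGrpCat.epi_iff_surjective _).2 fun s => ?_
    have hN : TopCat.Sheaf.IsFlasque N := inferInstance
    obtain ⟨t, ht⟩ := (AddCommGrpCat.epi_iff_surjective _).1 (hN.epi k) ((φ.hom.app V).hom s)
    refine ⟨(r.hom.app U).hom t, ?_⟩
    refine (ConcreteCategory.congr_hom (r.hom.naturality k) t).symm.trans ?_
    refine (congrArg (r.hom.app V).hom ht).trans ?_
    exact congrArg (fun q : M ⟶ M => (q.hom.app V).hom s) h

section God

variable {P : Type u} (pt : P → Σ j : SC × SC, (PW W).obj j) (M : P → AddCommGrpCat.{u})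

/-- The contraction on a row of a product of skyscrapers. -/
noncomputable def rowContr (m : SC) (U : Opens (W.obj (toAug.obj m, pnt))) (n : ℕ) :
    CS (Y := rowD W (toAug.obj m)) ((rowSh W m).obj (god pt M)) U (op ⦋n + 1⦌) →+
      CS (Y := rowD W (toAug.obj m)) ((rowSh W m).obj (god pt M)) U (op ⦋n⦌) where
  toFun f := show GodVal pt M (m, op ⦋n⦌) (rp W (op ⦋n⦌) m U) from fun p q =>
    (show GodVal pt M (m, op ⦋n + 1⦌) (rp W (op ⦋n + 1⦌) m U) from f) p
      ⟨CategoryTheory.Prod.mkHom q.1.1 (ext0 q.1.2.unop).op, by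
        have h : W.map _ (W.map (toAug2.map q.1) (pt p).2) ∈ U := q.2
        show W.map (CategoryTheory.Prod.mkHom (𝟙 (toAug.obj m)) (th (toAug.obj (op ⦋n + 1⦌))))
          (W.map (toAug2.map (CategoryTheory.Prod.mkHom q.1.1 (ext0 q.1.2.unop).op)) (pt p).2) ∈ U
        rw [← ConcreteCategory.comp_apply, ← W.map_comp] at h ⊢
        refine (congrArg (fun z => W.map z (pt p).2 ∈ U) ?_).mp h
        exact Prod.ext rfl (to_pnt_ext _ _)⟩
  map_zero' := rfl
  map_add' _ _ := rfl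

theorem acy_rowSh_god (m : SC) (U : Opens (W.obj (toAug.obj m, pnt))) :
    Acy (Y := rowD W (toAug.obj m)) ((rowSh W m).obj (god pt M)) U := by
  refine acy_of_contraction _ _ (rowContr W pt M m U) (fun n s => ?_) fun n k s => ?_
  · funext p ⟨φ, h⟩
    exact godVal_congr pt M (show GodVal pt M (m, op ⦋n⦌) (rp W (op ⦋n⦌) m U) from s)
      (φ := CategoryTheory.Prod.mkHom φ.1 (ext0 φ.2.unop).op ≫
        CategoryTheory.Prod.mkHom (𝟙 m) (SimplexCategory.δ (0 : Fin (n + 2))).op) (φ' := φ)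
      (Prod.ext (Category.comp_id φ.1) (Quiver.Hom.unop_inj (δ_zero_ext0 φ.2.unop))) _ _
  · funext p ⟨φ, h⟩
    exact godVal_congr pt M (show GodVal pt M (m, op ⦋n + 1⦌) (rp W (op ⦋n + 1⦌) m U) from s)
      (φ := CategoryTheory.Prod.mkHom φ.1 (ext0 φ.2.unop).op ≫
        CategoryTheory.Prod.mkHom (𝟙 m) (SimplexCategory.δ k.succ).op)
      (φ' := CategoryTheory.Prod.mkHom (φ.1 ≫ 𝟙 m) (ext0 (SimplexCategory.δ k ≫ φ.2.unop)).op)
      (Prod.ext rfl (Quiver.Hom.unop_inj (δ_succ_ext0 k φ.2.unop))) _ _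

/-- The points seen on the augmenting column. -/
noncomputable def ptC (p : P) : Σ j : SC, (prt (colD W pnt)).obj j :=
  ⟨(pt p).1.1, W.map (CategoryTheory.Prod.mkHom (𝟙 (toAug.obj (pt p).1.1)) (th (toAug.obj (pt p).1.2))) (pt p).2⟩

theorem mem_ptC {p : P} {m : SC} {U : Opens (W.obj (toAug.obj m, pnt))} (φ : (pt p).1 ⟶ (m, op ⦋0⦌)) :
    (PW W).map φ (pt p).2 ∈ rp W (op ⦋0⦌) m U ↔ (prt (colD W pnt)).map φ.1 (ptC W pt p).2 ∈ U := by
  show W.map _ (W.map (toAug2.map φ) (pt p).2) ∈ U ↔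
    W.map (CategoryTheory.Prod.mkHom (toAug.map φ.1) (𝟙 pnt)) (W.map _ (pt p).2) ∈ U
  rw [← ConcreteCategory.comp_apply, ← ConcreteCategory.comp_apply, ← W.map_comp, ← W.map_comp]
  refine Iff.of_eq (congrArg (fun z => W.map z (pt p).2 ∈ U) ?_)
  exact Prod.ext ((Category.comp_id _).trans (Category.id_comp _).symm) (to_pnt_ext _ _)

theorem eqz_god_indep {m : SC} {U : Opens (W.obj (toAug.obj m, pnt))}
    {s : sec.{0, u} (Y := PW W) (god pt M) (m, op ⦋0⦌) (rp W (op ⦋0⦌) m U)}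
    (hs : s ∈ eqz (Y := rowD W (toAug.obj m)) ((rowSh W m).obj (god pt M)) U) (p : P)
    (φ φ' : (pt p).1 ⟶ (m, op ⦋0⦌)) (e : φ.1 = φ'.1) (h : (PW W).map φ (pt p).2 ∈ rp W (op ⦋0⦌) m U)
    (h' : (PW W).map φ' (pt p).2 ∈ rp W (op ⦋0⦌) m U) :
    (show GodVal pt M (m, op ⦋0⦌) (rp W (op ⦋0⦌) m U) from s) p ⟨φ, h⟩ =
      (show GodVal pt M (m, op ⦋0⦌) (rp W (op ⦋0⦌) m U) from s) p ⟨φ', h'⟩ := by
  have key : ∀ (φ φ' : (pt p).1 ⟶ (m, op ⦋0⦌)), φ.1 = φ'.1 →
      ∀ (h : (PW W).map φ (pt p).2 ∈ rp W (op ⦋0⦌) m U) (h' : (PW W).map φ' (pt p).2 ∈ rp W (op ⦋0⦌) m U),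
      φ.2.unop.toOrderHom 0 ≤ φ'.2.unop.toOrderHom 0 →
      (show GodVal pt M (m, op ⦋0⦌) (rp W (op ⦋0⦌) m U) from s) p ⟨φ, h⟩ =
        (show GodVal pt M (m, op ⦋0⦌) (rp W (op ⦋0⦌) m U) from s) p ⟨φ', h'⟩ := by
    intro φ φ' e h h' hle
    let ε : (pt p).1.2 ⟶ op ⦋1⦌ :=
      (SimplexCategory.mkOfLe (n := (pt p).1.2.unop.len) (φ.2.unop.toOrderHom 0) (φ'.2.unop.toOrderHom 0) hle).op
    let ψ : (pt p).1 ⟶ (m, op ⦋1⦌) := CategoryTheory.Prod.mkHom φ.1 ε
    have hψ : (PW W).map ψ (pt p).2 ∈ rp W (op ⦋1⦌) m U := by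
      show W.map _ (W.map (toAug2.map ψ) (pt p).2) ∈ U
      have h₀ : W.map _ (W.map (toAug2.map φ) (pt p).2) ∈ U := h
      rw [← ConcreteCategory.comp_apply, ← W.map_comp] at h₀ ⊢
      exact (congrArg (fun z => W.map z (pt p).2 ∈ U) (Prod.ext rfl (to_pnt_ext _ _))).mp h₀
    have q : (show GodVal pt M (m, op ⦋1⦌) (rp W (op ⦋1⦌) m U) from
        cf (Y := rowD W (toAug.obj m)) ((rowSh W m).obj (god pt M)) U 0 0 s) p ⟨ψ, hψ⟩ =
      (show GodVal pt M (m, op ⦋1⦌) (rp W (op ⦋1⦌) m U) from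
        cf (Y := rowD W (toAug.obj m)) ((rowSh W m).obj (god pt M)) U 0 1 s) p ⟨ψ, hψ⟩ :=
      congrArg (fun z => (show GodVal pt M (m, op ⦋1⦌) (rp W (op ⦋1⦌) m U) from z) p ⟨ψ, hψ⟩) hs
    have h1 : ψ ≫ CategoryTheory.Prod.mkHom (𝟙 m) (SimplexCategory.δ (1 : Fin 2)).op = φ := by
      refine Prod.ext (Category.comp_id _) (Quiver.Hom.unop_inj ?_)
      show SimplexCategory.δ (1 : Fin 2) ≫ ε.unop = φ.2.unop
      ext k
      obtain rfl : k = 0 := Subsingleton.elim (α := Fin 1) k 0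
      rfl
    have h0 : ψ ≫ CategoryTheory.Prod.mkHom (𝟙 m) (SimplexCategory.δ (0 : Fin 2)).op = φ' := by
      refine Prod.ext ((Category.comp_id _).trans e) (Quiver.Hom.unop_inj ?_)
      show SimplexCategory.δ (0 : Fin 2) ≫ ε.unop = φ'.2.unop
      ext k
      obtain rfl : k = 0 := Subsingleton.elim (α := Fin 1) k 0
      rfl
    exact (godVal_congr pt M _ h1.symm h _).trans (q.symm.trans (godVal_congr pt M _ h0 _ h'))
  rcases le_total (φ.2.unop.toOrderHom 0) (φ'.2.unop.toOrderHom 0) with hle | hle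
  · exact key φ φ' e h h' hle
  · exact (key φ' φ e.symm h' h hle).symm

/-- The comparison with a product of skyscrapers on the augmenting column. -/
noncomputable def relGod : (rel W).obj (god pt M) ⟶ god (ptC W pt) M := ⟨
  { app := fun X => AddCommGrpCat.ofHom
      { toFun := fun r => show GodVal (ptC W pt) M X.unop.base (fib.{0, u} (Y := prt (colD W pnt)) X.unop) from
          fun p q => (show GodVal pt M (X.unop.base, op ⦋0⦌) (rp W (op ⦋0⦌) X.unop.base _) from
            νR W (god pt M) X.unop.base (fib.{0, u} (Y := prt (colD W pnt)) X.unop) r) p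
              ⟨CategoryTheory.Prod.mkHom q.1 (vtx 0), (mem_ptC W pt _).2 q.2⟩
        map_zero' := by
          funext p q
          exact congrFun (congrFun (map_zero (νR W (god pt M) _ _)) p) _
        map_add' := fun r r' => by
          funext p q
          exact congrFun (congrFun (map_add (νR W (god pt M) _ _) r r') p) _ }
    naturality := fun X X' g => by
      refine ConcreteCategory.hom_ext _ _ fun r => ?_
      funext p q
      refine (congrArg (fun z => (show GodVal pt M (X'.unop.base, op ⦋0⦌) (rp W (op ⦋0⦌) X'.unop.base _) from z) p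
        ⟨CategoryTheory.Prod.mkHom q.1 (vtx 0), (mem_ptC W pt _).2 q.2⟩)
          (νR_tr W (god pt M) g.unop.base (hom_le.{0, u} (Y := prt (colD W pnt)) g.unop) r)).trans ?_
      exact godVal_congr pt M (show GodVal pt M (X.unop.base, op ⦋0⦌) (rp W (op ⦋0⦌) X.unop.base _) from
          νR W (god pt M) X.unop.base (fib.{0, u} (Y := prt (colD W pnt)) X.unop) r)
        (φ := CategoryTheory.Prod.mkHom q.1 (vtx 0) ≫ CategoryTheory.Prod.mkHom g.unop.base (𝟙 (op ⦋0⦌)))
        (φ' := CategoryTheory.Prod.mkHom (q.1 ≫ g.unop.base) (vtx 0))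
        (Prod.ext rfl (Category.comp_id _)) _ _ }⟩

theorem relGod_bijective (m : SC) (U : Opens (W.obj (toAug.obj m, pnt))) :
    Function.Bijective (ap.{0, u} (Y := prt (colD W pnt)) (relGod W pt M) m U) := by
  refine ⟨fun r r' e => νR_injective W _ m U ?_, fun t => ?_⟩
  · funext p ⟨φ, h⟩
    refine (eqz_god_indep W pt M (νR_mem W _ m U r) p φ (CategoryTheory.Prod.mkHom φ.1 (vtx 0)) rfl h
      ((mem_ptC W pt _).2 ((mem_ptC W pt φ).1 h))).trans (Eq.trans ?_
        (eqz_god_indep W pt M (νR_mem W _ m U r') p φ (CategoryTheory.Prod.mkHom φ.1 (vtx 0)) rfl h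
          ((mem_ptC W pt _).2 ((mem_ptC W pt φ).1 h))).symm)
    exact congrFun (congrFun e p) ⟨φ.1, (mem_ptC W pt φ).1 h⟩
  · let t' : GodVal (ptC W pt) M m U := t
    let s : sec.{0, u} (Y := PW W) (god pt M) (m, op ⦋0⦌) (rp W (op ⦋0⦌) m U) :=
      show GodVal pt M (m, op ⦋0⦌) (rp W (op ⦋0⦌) m U) from fun p q => t' p ⟨q.1.1, (mem_ptC W pt q.1).1 q.2⟩
    obtain ⟨r, hr⟩ := exists_νR_eq W (god pt M) m U s (by
      show _ = _
      funext p q
      exact godVal_congr (ptC W pt) M t' rfl _ _)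
    refine ⟨r, ?_⟩
    funext p q
    exact congrFun (congrFun hr p) ⟨CategoryTheory.Prod.mkHom q.1 (vtx 0), (mem_ptC W pt _).2 q.2⟩

instance isIso_relGod : IsIso (relGod W pt M) := by
  have : ∀ X : (Tot.{0, u} (prt (colD W pnt)))ᵒᵖ, IsIso ((relGod W pt M).hom.app X) := fun X =>
    (ConcreteCategory.isIso_iff_bijective _).2
      (relGod_bijective W pt M X.unop.base (fib.{0, u} (Y := prt (colD W pnt)) X.unop))
  haveI : IsIso ((sheafToPresheaf (totT.{0, u} (prt (colD W pnt))) AddCommGrpCat.{u}).map (relGod W pt M)) :=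
    @NatIso.isIso_of_isIso_app _ _ _ _ _ _ (relGod W pt M).hom this
  exact isIso_of_reflects_iso (relGod W pt M) (sheafToPresheaf _ _)

end God

variable (I : BSh W) [Injective I]

theorem flasqueComp_rowSh (m : SC) : FlasqueComp ((rowSh W m).obj I) := fun n =>
  isFlasque_restrK.{0, u} (sR' m) (PW W) I n

theorem acy_rowSh (m : SC) (U : Opens (W.obj (toAug.obj m, pnt))) :
    Acy (Y := rowD W (toAug.obj m)) ((rowSh W m).obj I) U := by
  obtain ⟨r, hr⟩ := exists_retraction.{0, u} I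
  exact acy_of_retract ((rowSh W m).map (toGod I)) ((rowSh W m).map r)
    (((rowSh W m).map_comp _ _).symm.trans ((congrArg (rowSh W m).map hr).trans ((rowSh W m).map_id I)))
    (acy_rowSh_god W id (stFam I) m U)

theorem exists_rel_retract : ∃ (φ : (rel W).obj I ⟶ god (ptC W id) (stFam I)) (r : god (ptC W id) (stFam I) ⟶ (rel W).obj I),
    φ ≫ r = 𝟙 _ := by
  obtain ⟨r, hr⟩ := exists_retraction.{0, u} I
  refine ⟨(rel W).map (toGod I) ≫ relGod W id (stFam I), inv (relGod W id (stFam I)) ≫ (rel W).map r, ?_⟩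
  rw [Category.assoc, IsIso.hom_inv_id_assoc, ← (rel W).map_comp, hr, (rel W).map_id]

theorem acy_rel (U : Opens ((colD W pnt).obj pnt)) : Acy ((rel W).obj I) U := by
  obtain ⟨φ, r, h⟩ := exists_rel_retract W I
  exact acy_of_retract φ r h (acy_god (ptC W id) (stFam I))

theorem flasqueComp_rel : FlasqueComp ((rel W).obj I) := fun m => by
  obtain ⟨φ, r, h⟩ := exists_rel_retract W I
  haveI : TopCat.Sheaf.IsFlasque ((res.{0, u} (prt (colD W pnt)) m).obj (god (ptC W id) (stFam I))) :=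
    isFlasque_res_god.{0, u} (Y := prt (colD W pnt)) _ _ m
  exact flasque_of_retract ((res.{0, u} (prt (colD W pnt)) m).map φ) ((res.{0, u} (prt (colD W pnt)) m).map r)
    (((res.{0, u} (prt (colD W pnt)) m).map_comp _ _).symm.trans
      ((congrArg _ h).trans ((res.{0, u} (prt (colD W pnt)) m).map_id _)))

theorem isZero_rd_rowSh (m : SC) (q : ℕ) :
    IsZero (((pushA (rowD W (toAug.obj m))).rightDerived (q + 1)).obj ((rowSh W m).obj I)) :=
  isZero_rpush_of_flasque (flasqueComp_rowSh W I m) (acy_rowSh W I m) q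

theorem isZero_rd_rel (q : ℕ) : IsZero (((pushA (colD W pnt)).rightDerived (q + 1)).obj ((rel W).obj I)) :=
  isZero_rpush_of_flasque (flasqueComp_rel W I) (acy_rel W I) q

end Groth.Agent.FibDesc74
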