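import Groth.Agent.FibDesc74.BiDescent

/-!
# Descent along one side of a bisimplicial space
-/

set_option autoImplicit false

universe u

open CategoryTheory CategoryTheory.Limits Opposite TopologicalSpace Pseudofunctor.CoGrothendieck
open Simplicial

namespace Groth.Agent.FibDesc74

/-- The extension from the fibre over a terminal object has bijective stalk maps. -/
theorem exists_cart {B : Type} [Category.{0} B] (Y : B ⥤ TopCat.{u}) (b : B) (hb : ∀ {i : B} (f g : i ⟶ b), f = g)
    (G : CohTop.Ab (Y.obj b)) :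
    ∃ (E : TSh.{0, u} Y) (η : G ⟶ (res.{0, u} Y b).obj E), IsCart.{0, u} η :=
  ⟨_, _, isCart_unit.{0, u} _ ((ι (topPs.{0, u} Y) b).sheafAdjunctionContinuous AddCommGrpCat.{u}
    (topJ.{0, u} Y b) (totT.{0, u} Y)) G hb⟩

variable (W : Aug2 ⥤ TopCat.{u})

/-- Descent along one side of a bisimplicial space from descent along the other side and along all lines. -/
theorem desc_col (hrow : ∀ m : SC, Desc (rowD W (toAug.obj m)))
    (hcol : ∀ n : SC, Desc (colD W (toAug.obj n))) (h0 : Desc (rowD W pnt)) : Desc (colD W pnt) := by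
  intro G
  obtain ⟨E₀, η, hη⟩ := exists_cart W (pnt, pnt)
    (fun f g => Prod.ext (to_pnt_ext f.1 g.1) (to_pnt_ext f.2 g.2)) G
  have hE : Loc E₀ := hη.loc fun i => ⟨CategoryTheory.Prod.mkHom (th i.1) (th i.2)⟩
  haveI := hη.isIso
  let e : G ≅ (res.{0, u} (colD W pnt) pnt).obj (colE W E₀ pnt) :=
    asIso η ≪≫ ((resIso.{0, u} (sL pnt) W pnt).app E₀).symm
  refine ⟨?_, fun q => (isZero_rd_col W hE hrow hcol h0 q).of_iso
    (((pushA (colD W pnt)).rightDerived (q + 1)).mapIso ((pullA (colD W pnt)).mapIso e))⟩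
  have hcart := hE.restrK (sL pnt) pnt
  have hθ := isIso_of_plB (Y := colD W pnt) (η := 𝟙 ((res.{0, u} (colD W pnt) pnt).obj (colE W E₀ pnt)))
    fun y => ⟨⊤, trivial, fun U _ => plB_col W hE hrow hcol h0 U⟩
  rw [Category.id_comp] at hθ
  haveI hu : IsIso ((adjA (colD W pnt)).unit.app ((res.{0, u} (colD W pnt) pnt).obj (colE W E₀ pnt))) :=
    (unit_of_cart _ hcart hθ).1
  have n := (adjA (colD W pnt)).unit.naturality e.hom
  haveI : IsIso ((adjA (colD W pnt)).unit.app G ≫
      (pullA (colD W pnt) ⋙ pushA (colD W pnt)).map e.hom) := by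
    rw [← n]
    infer_instance
  exact IsIso.of_isIso_comp_right _ ((pullA (colD W pnt) ⋙ pushA (colD W pnt)).map e.hom)

end Groth.Agent.FibDesc74
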