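import Groth.Agent.FibDesc74.Cart
import Groth.Agent.SiteBase.RightExact

/-!
# Inverse image along a morphism of diagrams of spaces

The inverse image of sheaves along a morphism `g : Z ⟶ Y` of diagrams, with its stalks: the stalk at `x` is
the stalk of the original sheaf at `g x`; in particular the inverse image is exact.
-/

set_option autoImplicit false

universe u

open CategoryTheory CategoryTheory.Limits Opposite TopologicalSpace Pseudofunctor.CoGrothendieck

namespace Groth.Agent.FibDesc74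

theorem isContinuous_of_factor {C D E : Type*} [Category C] [Category D] [Category E] {F₁ : C ⥤ D}
    {F₂ : D ⥤ E} {F₁₂ : C ⥤ E} (e : F₁ ⋙ F₂ ≅ F₁₂) (J : GrothendieckTopology C) (K : GrothendieckTopology D)
    (L : GrothendieckTopology E) (h₁ : F₁.IsContinuous J K) (h₂ : F₂.IsContinuous K L) : F₁₂.IsContinuous J L :=
  haveI := h₁
  haveI := h₂
  Functor.isContinuous_comp' e J K L

variable {B : Type} [Category.{0} B] {Y Z : B ⥤ TopCat.{u}} (g : Z ⟶ Y)

theorem preimg_le {i j : B} (f : i ⟶ j) {W : Opens (Y.obj i)} {V : Opens (Y.obj j)}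
    (h : W ≤ (Opens.map (Y.map f)).obj V) :
    (Opens.map (g.app i)).obj W ≤ (Opens.map (Z.map f)).obj ((Opens.map (g.app j)).obj V) := fun x hx => by
  show g.app j (Z.map f x) ∈ V
  rw [← ConcreteCategory.comp_apply, g.naturality]
  exact h hx

/-- The preimage functor on total categories. -/
noncomputable def preTot : Tot.{0, u} Y ⥤ Tot.{0, u} Z where
  obj X := mkO.{0, u} X.base ((Opens.map (g.app X.base)).obj (fib.{0, u} X))
  map {X W} f := mkM.{0, u} f.base (preimg_le g f.base (hom_le.{0, u} f))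
  map_id X := hext.{0, u} _ _ rfl
  map_comp f f' := hext.{0, u} _ _ rfl

/-- A fibre inclusion followed by the preimage functor. -/
noncomputable def ιPreTotIso (i : B) :
    ι (topPs.{0, u} Y) i ⋙ preTot g ≅ Opens.map (g.app i) ⋙ ι (topPs.{0, u} Z) i :=
  NatIso.ofComponents (fun _ => Iso.refl _) fun {V W} k => by
    refine (Category.comp_id _).trans (Eq.trans ?_ (Category.id_comp _).symm)
    exact hext (Y := Z) _ _ rfl

instance isContinuous_preTot : (preTot g).IsContinuous (totT.{0, u} Y) (totT.{0, u} Z) := by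
  rw [FibSiteLib.isContinuous_total_iff (isPre.{0, u} Y)]
  intro i
  have h₁ : (Opens.map (g.app i)).IsContinuous (Opens.grothendieckTopology (Y.obj i))
      (Opens.grothendieckTopology (Z.obj i)) := inferInstance
  have h₂ : (ι (topPs.{0, u} Z) i).IsContinuous (topJ.{0, u} Z i) (totT.{0, u} Z) :=
    FibSiteLib.isContinuous_ι (isPre.{0, u} Z) i
  exact isContinuous_of_factor (ιPreTotIso g i).symm (Opens.grothendieckTopology (Y.obj i))
    (Opens.grothendieckTopology (Z.obj i)) (totT.{0, u} Z) h₁ h₂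

/-- The direct image. -/
noncomputable def pushG : TSh.{0, u} Z ⥤ TSh.{0, u} Y :=
  (preTot g).sheafPushforwardContinuous AddCommGrpCat.{u} (totT.{0, u} Y) (totT.{0, u} Z)

instance isRightAdjoint_pushG : (pushG g).IsRightAdjoint :=
  inferInstanceAs ((preTot g).sheafPushforwardContinuous AddCommGrpCat.{u} (totT.{0, u} Y)
    (totT.{0, u} Z)).IsRightAdjoint

/-- The inverse image. -/
noncomputable def pullG : TSh.{0, u} Y ⥤ TSh.{0, u} Z := (pushG g).leftAdjoint

/-- The adjunction. -/
noncomputable def adjG : pullG g ⊣ pushG g := Adjunction.ofIsRightAdjoint (pushG g)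

instance additive_pushG : (pushG g).Additive := ⟨rfl⟩

instance additive_pullG : (pullG g).Additive := (adjG g).left_adjoint_additive

instance isLeftAdjoint_pullG : (pullG g).IsLeftAdjoint := (adjG g).isLeftAdjoint

/-- The inverse image of sections. -/
noncomputable def usec (A : TSh.{0, u} Y) (i : B) (W : Opens (Y.obj i)) :
    sec.{0, u} A i W →+ sec.{0, u} ((pullG g).obj A) i ((Opens.map (g.app i)).obj W) :=
  ap.{0, u} ((adjG g).unit.app A) i W

theorem usec_tr (A : TSh.{0, u} Y) {i j : B} (f : i ⟶ j) {W : Opens (Y.obj i)} {V : Opens (Y.obj j)}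
    (h : W ≤ (Opens.map (Y.map f)).obj V) (s : sec.{0, u} A j V) :
    usec g A i W (tr.{0, u} A f h s) =
      tr.{0, u} ((pullG g).obj A) f (preimg_le g f h) (usec g A j V s) :=
  ap_tr.{0, u} ((adjG g).unit.app A) f h s

theorem usec_natural {A A' : TSh.{0, u} Y} (φ : A ⟶ A') (i : B) (W : Opens (Y.obj i)) (s : sec.{0, u} A i W) :
    usec g A' i W (ap.{0, u} φ i W s) =
      ap.{0, u} ((pullG g).map φ) i ((Opens.map (g.app i)).obj W) (usec g A i W s) :=
  congrArg (fun q : A ⟶ (pushG g).obj ((pullG g).obj A') => ap.{0, u} q i W s) ((adjG g).unit.naturality φ)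

theorem exists_sky_map (A : TSh.{0, u} Y) {i : B} (x : Z.obj i) {M : AddCommGrpCat.{u}}
    (a : ∀ (j : B) (W : Opens (Y.obj j)), sec.{0, u} A j W →+
      ({φ : i ⟶ j // g.app j (Z.map φ x) ∈ W} → M))
    (ha : ∀ {j j' : B} (f : j' ⟶ j) {W : Opens (Y.obj j)} {W' : Opens (Y.obj j')}
      (h : W' ≤ (Opens.map (Y.map f)).obj W) (s : sec.{0, u} A j W) (φ : i ⟶ j') (hφ : g.app j' (Z.map φ x) ∈ W'),
      a j' W' (tr.{0, u} A f h s) ⟨φ, hφ⟩ = a j W s ⟨φ ≫ f, by
        rw [Z.map_comp]
        exact preimg_le g f h hφ⟩) :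
    ∃ Φ : (pullG g).obj A ⟶ god (fun _ : PUnit.{u + 1} => (⟨i, x⟩ : Σ j, Z.obj j)) (fun _ => M),
      ∀ (j : B) (W : Opens (Y.obj j)) (s : sec.{0, u} A j W) (φ : i ⟶ j) (hφ : g.app j (Z.map φ x) ∈ W),
        (show GodVal (fun _ : PUnit.{u + 1} => (⟨i, x⟩ : Σ j, Z.obj j)) (fun _ => M) j
            ((Opens.map (g.app j)).obj W) from
          ap.{0, u} Φ j ((Opens.map (g.app j)).obj W) (usec g A j W s)) PUnit.unit ⟨φ, hφ⟩ = a j W s ⟨φ, hφ⟩ := by
  let T := god.{0, u} (fun _ : PUnit.{u + 1} => (⟨i, x⟩ : Σ j, Z.obj j)) (fun _ => M)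
  let g₀ : A ⟶ (pushG g).obj T := ⟨
    { app := fun X => AddCommGrpCat.ofHom
        { toFun := fun s => show GodVal (fun _ : PUnit.{u + 1} => (⟨i, x⟩ : Σ j, Z.obj j)) (fun _ => M)
              X.unop.base ((Opens.map (g.app X.unop.base)).obj (fib.{0, u} X.unop)) from
            fun _ q => a X.unop.base (fib.{0, u} X.unop) s ⟨q.1, q.2⟩
          map_zero' := by funext p q; exact congrFun (map_zero _) _
          map_add' := fun s t => by funext p q; exact congrFun (map_add _ s t) _ }
      naturality := fun X X' k => by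
        refine ConcreteCategory.hom_ext _ _ fun s => ?_
        funext p q
        exact ha k.unop.base (hom_le.{0, u} k.unop) s q.1 q.2 }⟩
  refine ⟨((adjG g).homEquiv A T).symm g₀, fun j W s φ hφ => ?_⟩
  have e : (adjG g).unit.app A ≫ (pushG g).map (((adjG g).homEquiv A T).symm g₀) = g₀ :=
    ((adjG g).homEquiv_unit _ _ _).symm.trans (Equiv.apply_symm_apply _ _)
  exact congrFun (congrFun (congrArg (fun q : A ⟶ (pushG g).obj T => ap.{0, u} q j W s) e) PUnit.unit) ⟨φ, hφ⟩

theorem gm_usec_surjective (A : TSh.{0, u} Y) {i : B} (x : Z.obj i) (t : St.{0, u} ((pullG g).obj A) x) :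
    ∃ (W : Opens (Y.obj i)) (hW : g.app i x ∈ W) (s : sec.{0, u} A i W),
      gm.{0, u} ((pullG g).obj A) x (show x ∈ (Opens.map (g.app i)).obj W from hW) (usec g A i W s) = t := by
  let P := (pullG g).obj A
  let K : AddSubgroup (St.{0, u} P x) :=
    { carrier := {t | ∃ (W : Opens (Y.obj i)) (hW : g.app i x ∈ W) (s : sec.{0, u} A i W),
        gm.{0, u} P x (show x ∈ (Opens.map (g.app i)).obj W from hW) (usec g A i W s) = t}
      zero_mem' := ⟨⊤, trivial, 0, by rw [map_zero, map_zero]⟩
      add_mem' := by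
        rintro _ _ ⟨W, hW, s, rfl⟩ ⟨W', hW', s', rfl⟩
        refine ⟨W ⊓ W', ⟨hW, hW'⟩, tr.{0, u} A (𝟙 i) (le_id.{0, u} inf_le_left) s +
          tr.{0, u} A (𝟙 i) (le_id.{0, u} inf_le_right) s', ?_⟩
        rw [map_add, map_add, usec_tr, usec_tr]
        refine congrArg₂ (· + ·) ?_ ?_
        · exact gm_res.{0, u} (A := P) x (W := (Opens.map (g.app i)).obj (W ⊓ W')) (fun y hy => hy.1) ⟨hW, hW'⟩ _
        · exact gm_res.{0, u} (A := P) x (W := (Opens.map (g.app i)).obj (W ⊓ W')) (fun y hy => hy.2) ⟨hW, hW'⟩ _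
      neg_mem' := by
        rintro _ ⟨W, hW, s, rfl⟩
        exact ⟨W, hW, -s, by rw [map_neg, map_neg]⟩ }
  let Q := QuotientAddGroup.mk' K
  let M : AddCommGrpCat.{u} := AddCommGrpCat.of (St.{0, u} P x ⧸ K)
  let pt : PUnit.{u + 1} → Σ j, Z.obj j := fun _ => ⟨i, x⟩
  let Φ : P ⟶ god.{0, u} pt (fun _ => M) := ⟨
    { app := fun X => AddCommGrpCat.ofHom
        { toFun := fun r => show GodVal pt (fun _ => M) X.unop.base (fib.{0, u} X.unop) from fun p q =>
            Q ((show GodVal id (stFam.{0, u} P) X.unop.base (fib.{0, u} X.unop) from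
              ((toGod.{0, u} P).hom.app X).hom r) ⟨i, x⟩ q)
          map_zero' := by
            funext p q
            exact (congrArg Q (congrFun (congrFun (map_zero ((toGod.{0, u} P).hom.app X).hom) ⟨i, x⟩) q)).trans
              (map_zero Q)
          map_add' := fun r r' => by
            funext p q
            exact (congrArg Q (congrFun (congrFun (map_add ((toGod.{0, u} P).hom.app X).hom r r') ⟨i, x⟩) q)).trans
              (map_add Q _ _) }
      naturality := fun X X' k => by
        refine ConcreteCategory.hom_ext _ _ fun r => ?_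
        funext p q
        exact congrArg Q (congrFun (congrFun
          (ConcreteCategory.congr_hom ((toGod.{0, u} P).hom.naturality k) r) ⟨i, x⟩) q) }⟩
  have hΦ : Φ = 0 := by
    refine ((adjG g).homEquiv A _).injective ?_
    rw [Adjunction.homEquiv_unit, Adjunction.homEquiv_unit, Functor.map_zero, comp_zero]
    refine Sheaf.hom_ext ?_
    refine NatTrans.ext (funext fun X => ConcreteCategory.hom_ext _ _ fun r => ?_)
    funext p q
    let W : Opens (Y.obj i) := (Opens.map (Y.map q.1)).obj (fib.{0, u} X.unop)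
    refine (QuotientAddGroup.eq_zero_iff _).2 ⟨W, ?_, tr.{0, u} A q.1 le_rfl r, ?_⟩
    · show Y.map q.1 (g.app i x) ∈ fib.{0, u} X.unop
      have e : g.app X.unop.base (Z.map q.1 x) = Y.map q.1 (g.app i x) :=
        ConcreteCategory.congr_hom (g.naturality q.1) x
      rw [← e]
      exact q.2
    · refine (congrArg _ (usec_tr g A q.1 le_rfl r)).trans ?_
      have hle : (Opens.map (g.app i)).obj W ≤
          (Opens.map (Z.map q.1)).obj ((Opens.map (g.app X.unop.base)).obj (fib.{0, u} X.unop)) :=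
        preimg_le g q.1 le_rfl
      have hx : x ∈ (Opens.map (g.app i)).obj W := by
        show Y.map q.1 (g.app i x) ∈ fib.{0, u} X.unop
        rw [← ConcreteCategory.comp_apply, ← g.naturality]
        exact q.2
      refine Eq.trans ?_ (gm_res.{0, u} (A := P) x hle hx _)
      exact congrArg _ ((tr_congr.{0, u} (Category.id_comp q.1).symm _ _ _).trans
        (tr_tr.{0, u} (𝟙 i) q.1 (le_id.{0, u} hle) le_rfl _).symm)
  obtain ⟨W, hxW, r, rfl⟩ := exists_gm.{0, u} t
  have hle : (Opens.map (Z.map (𝟙 i))).obj W ≤ W := by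
    intro y hy
    have hy' : Z.map (𝟙 i) y ∈ W := hy
    rw [Z.map_id] at hy'
    exact hy'
  have hmem : Z.map (𝟙 i) x ∈ W := (le_id.{0, u} le_rfl : W ≤ (Opens.map (Z.map (𝟙 i))).obj W) hxW
  have hmem' : x ∈ (Opens.map (Z.map (𝟙 i))).obj W := hmem
  have e : (show GodVal pt (fun _ => M) i W from ap.{0, u} Φ i W r) PUnit.unit ⟨𝟙 i, hmem⟩ = 0 := by rw [hΦ]; rfl
  have e' : gm.{0, u} P x hxW r = gm.{0, u} P x hmem' (tr.{0, u} P (𝟙 i) le_rfl r) :=
    (gm_res.{0, u} (A := P) x hle hmem' r).symm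
  rw [e']
  exact (QuotientAddGroup.eq_zero_iff _).1 e

theorem gm_usec_injective (A : TSh.{0, u} Y) {i : B} (x : Z.obj i) {W : Opens (Y.obj i)} (hW : g.app i x ∈ W)
    (s : sec.{0, u} A i W)
    (h : gm.{0, u} ((pullG g).obj A) x (show x ∈ (Opens.map (g.app i)).obj W from hW) (usec g A i W s) = 0) :
    gm.{0, u} A (g.app i x) hW s = 0 := by
  let M := St.{0, u} A (g.app i x)
  obtain ⟨Φ, hΦ⟩ := exists_sky_map g A x (M := M) (fun j V =>
    { toFun := fun r q => gm.{0, u} A (g.app i x) (show g.app i x ∈ (Opens.map (Y.map q.1)).obj V by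
          show Y.map q.1 (g.app i x) ∈ V
          rw [← ConcreteCategory.comp_apply, ← g.naturality]
          exact q.2) (tr.{0, u} A q.1 le_rfl r)
      map_zero' := by funext q; exact (congrArg _ (map_zero (tr.{0, u} A q.1 le_rfl))).trans (map_zero _)
      map_add' := fun r r' => by
        funext q; exact (congrArg _ (map_add (tr.{0, u} A q.1 le_rfl) r r')).trans (map_add _ _ _) })
    (fun {j j'} f {V V'} hf r φ hφ => by
      show gm.{0, u} A (g.app i x) _ (tr.{0, u} A φ le_rfl (tr.{0, u} A f hf r)) =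
        gm.{0, u} A (g.app i x) _ (tr.{0, u} A (φ ≫ f) le_rfl r)
      have hle : (Opens.map (Y.map φ)).obj V' ≤ (Opens.map (Y.map (φ ≫ f))).obj V := fun y hy => by
        show Y.map (φ ≫ f) y ∈ V
        rw [Y.map_comp]
        exact hf hy
      rw [tr_tr]
      refine Eq.trans ?_ (gm_res.{0, u} (A := A) (g.app i x) hle (show g.app i x ∈ (Opens.map (Y.map φ)).obj V' by
        show Y.map φ (g.app i x) ∈ V'
        rw [← ConcreteCategory.comp_apply, ← g.naturality]
        exact hφ) _)
      exact congrArg _ ((tr_congr.{0, u} (Category.id_comp _).symm _ _ _).trans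
        (tr_tr.{0, u} (𝟙 i) (φ ≫ f) (le_id.{0, u} hle) le_rfl r).symm))
  obtain ⟨W', h₁, h₂, hxW', e⟩ := gm_eq.{0, u} (show x ∈ (Opens.map (g.app i)).obj W from hW)
    (show x ∈ (Opens.map (g.app i)).obj W from hW) _ 0 (h.trans (map_zero _).symm)
  rw [map_zero] at e
  have hWi : g.app i (Z.map (𝟙 i) x) ∈ W := by rw [Z.map_id]; exact hW
  have e' := (congrArg (ap.{0, u} Φ i W') e).trans (map_zero _)
  rw [ap_tr] at e'
  have h2 : Z.map (𝟙 i) x ∈ W' := (le_id.{0, u} le_rfl : W' ≤ (Opens.map (Z.map (𝟙 i))).obj W') hxW'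
  have e'' := congrFun (congrFun e' PUnit.unit) ⟨𝟙 i, h2⟩
  have hgx : g.app i x ∈ (Opens.map (Y.map (𝟙 i))).obj W := (le_id.{0, u} le_rfl : W ≤ _) hW
  refine Eq.trans ?_ ((hΦ i W s (𝟙 i) hWi).symm.trans ((godVal_congr _ _
    (show GodVal _ (fun _ : PUnit.{u + 1} => M) i ((Opens.map (g.app i)).obj W) from
      ap.{0, u} Φ i ((Opens.map (g.app i)).obj W) (usec g A i W s)) (Category.comp_id (𝟙 i)).symm hWi _).trans e''))
  have hle : (Opens.map (Y.map (𝟙 i))).obj W ≤ W := fun y hy => by
    have hy' : Y.map (𝟙 i) y ∈ W := hy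
    rw [Y.map_id] at hy'
    exact hy'
  exact (gm_res.{0, u} (A := A) (g.app i x) hle hgx s).symm

theorem mono_of_stalks {A A' : TSh.{0, u} Z} (φ : A ⟶ A')
    (h : ∀ (i : B) (x : Z.obj i), Function.Injective (stM.{0, u} φ x)) : Mono φ := by
  refine ⟨fun {T} a b e => ?_⟩
  refine Sheaf.hom_ext ?_
  refine NatTrans.ext (funext fun X => ConcreteCategory.hom_ext _ _ fun r => ?_)
  refine sec_ext.{0, u} (i := X.unop.base) (W := fib.{0, u} X.unop) _ _ fun x hx => h _ x ?_
  exact (stM_gm.{0, u} φ x hx _).trans ((congrArg _ (congrArg (fun q : T ⟶ A' =>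
    ap.{0, u} q X.unop.base (fib.{0, u} X.unop) r) e)).trans (stM_gm.{0, u} φ x hx _).symm)

instance preservesMonomorphisms_pullG : (pullG g).PreservesMonomorphisms where
  preserves {A A'} φ hφ := mono_of_stalks _ fun i x => by
    refine (injective_iff_map_eq_zero _).2 fun t ht => ?_
    obtain ⟨W, hW, s, rfl⟩ := gm_usec_surjective g A x t
    have h1 : gm.{0, u} ((pullG g).obj A') x (show x ∈ (Opens.map (g.app i)).obj W from hW)
        (usec g A' i W (ap.{0, u} φ i W s)) = 0 := by
      rw [usec_natural]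
      exact (stM_gm.{0, u} ((pullG g).map φ) x _ _).symm.trans ht
    have h2 := gm_usec_injective g A' x hW _ h1
    rw [← map_zero (gm.{0, u} A' (g.app i x) hW)] at h2
    obtain ⟨V, h₁, h₂, hxV, e⟩ := gm_eq.{0, u} hW hW _ _ h2
    rw [map_zero] at e
    haveI : Mono ((sheafToPresheaf (totT.{0, u} Y) AddCommGrpCat.{u}).map φ) := by
      haveI := hφ
      infer_instance
    have hinj : Function.Injective (ap.{0, u} φ i V) :=
      (AddCommGrpCat.mono_iff_injective _).1 ((NatTrans.mono_iff_mono_app _).1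
        (inferInstanceAs (Mono ((sheafToPresheaf (totT.{0, u} Y) AddCommGrpCat.{u}).map φ)))
        (op (mkO.{0, u} (Y := Y) i V)))
    have e0 : tr.{0, u} A (𝟙 i) (le_id.{0, u} h₁) s = 0 := hinj (by rw [ap_tr, e, map_zero])
    have hz := congrArg (usec g A i V) e0
    rw [usec_tr, map_zero] at hz
    exact ((gm_res.{0, u} (A := (pullG g).obj A) x (fun y hy => h₁ hy) hxV _).symm.trans
      (congrArg _ hz)).trans (map_zero _)

instance preservesFiniteLimits_pullG : PreservesFiniteLimits (pullG g) :=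
  (Functor.preservesFiniteLimits_iff_forall_exact_map_and_mono (pullG g)).2 fun S hS => by
    haveI : PreservesFiniteColimits (pullG g) := inferInstance
    haveI := hS.mono_f
    exact ⟨((Functor.preservesFiniteColimits_iff_forall_exact_map_and_epi (pullG g)).1 inferInstance S hS).1,
      inferInstanceAs (Mono ((pullG g).map S.f))⟩

end Groth.Agent.FibDesc74
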