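import Groth.Agent.FibDesc74.Acyclic
import Groth.Agent.FibDesc74.Pullback
import Groth.Agent.CTopNbd.Lift

/-!
# Transfer of acyclicity along morphisms of augmented simplicial spaces

If sections near a point lift along a family of morphisms of augmented simplicial spaces covering the base, a
sheaf whose inverse images are acyclic is acyclic.
-/

set_option autoImplicit false

universe u

open CategoryTheory CategoryTheory.Limits Opposite TopologicalSpace Pseudofunctor.CoGrothendieck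
open Simplicial

namespace Groth.Agent.FibDesc74

variable {Y Z : Aug ⥤ TopCat.{u}}

/-- Restriction in the complex of sections. -/
noncomputable abbrev cr (A : PSh Y) {U V : Opens (Y.obj pnt)} (h : V ≤ U) (i : SimplexCategoryᵒᵖ) :
    CS A U i →+ CS A V i :=
  tr.{0, u} (Y := prt Y) A (𝟙 i) (le_id.{0, u} (Y := prt Y) (pre_mono h (toAug.obj i)))

theorem cr_cr (A : PSh Y) {U V W : Opens (Y.obj pnt)} (h : V ≤ U) (h' : W ≤ V) (i : SimplexCategoryᵒᵖ)
    (s : CS A U i) : cr A h' i (cr A h i s) = cr A (h'.trans h) i s :=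
  (tr_tr.{0, u} _ _ _ _ s).trans (tr_congr.{0, u} (Category.id_comp _) _ _ s)

theorem cr_ct (A : PSh Y) {U V : Opens (Y.obj pnt)} (h : V ≤ U) {i j : SimplexCategoryᵒᵖ} (f : i ⟶ j)
    (s : CS A U j) : ct A V f (cr A h j s) = cr A h i (ct A U f s) :=
  ((tr_tr.{0, u} _ _ _ _ s).trans (tr_congr.{0, u} ((Category.comp_id f).trans (Category.id_comp f).symm) _ _ s)).trans
    (tr_tr.{0, u} _ _ _ _ s).symm

theorem cm_cr {A A' : PSh Y} (φ : A ⟶ A') {U V : Opens (Y.obj pnt)} (h : V ≤ U) (i : SimplexCategoryᵒᵖ)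
    (s : CS A U i) : cm φ i (cr A h i s) = cr A' h i (cm φ i s) :=
  ap_tr.{0, u} φ _ _ s

theorem cr_mem_eqz (A : PSh Y) {U V : Opens (Y.obj pnt)} (h : V ≤ U) {s : CS A U (op ⦋0⦌)} (hs : s ∈ eqz A U) :
    cr A h _ s ∈ eqz A V :=
  (cr_ct A h _ s).trans ((congrArg (cr A h _) ((mem_eqz A).1 hs)).trans (cr_ct A h _ s).symm)

variable (g : Z ⟶ Y)

/-- The morphism of parts. -/
noncomputable abbrev gP : prt Z ⟶ prt Y := Functor.whiskerLeft toAug g

theorem pre_preimg (U : Opens (Y.obj pnt)) (i : Aug) :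
    pre ((Opens.map (g.app pnt)).obj U) i = (Opens.map (g.app i)).obj (pre U i) := by
  refine Opens.ext (Set.ext fun x => ?_)
  show g.app pnt (Z.map (th i) x) ∈ U ↔ Y.map (th i) (g.app i x) ∈ U
  rw [← ConcreteCategory.comp_apply, ← ConcreteCategory.comp_apply, g.naturality]

/-- The inverse image in the complex of sections. -/
noncomputable def us (A : PSh Y) (U : Opens (Y.obj pnt)) (i : SimplexCategoryᵒᵖ) :
    CS A U i →+ CS ((pullG (gP g)).obj A) ((Opens.map (g.app pnt)).obj U) i :=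
  (tr.{0, u} (Y := prt Z) ((pullG (gP g)).obj A) (𝟙 i)
    (le_id.{0, u} (Y := prt Z) (pre_preimg g U (toAug.obj i)).le)).comp
    (usec (gP g) A i (pre U (toAug.obj i)))

theorem us_ct (A : PSh Y) (U : Opens (Y.obj pnt)) {i j : SimplexCategoryᵒᵖ} (f : i ⟶ j) (s : CS A U j) :
    us g A U i (ct A U f s) = ct ((pullG (gP g)).obj A) _ f (us g A U j s) := by
  refine (congrArg _ (usec_tr (gP g) A f (pre_le U (toAug.map f)) s)).trans ?_
  exact ((tr_tr.{0, u} _ _ _ _ _).trans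
    (tr_congr.{0, u} ((Category.id_comp f).trans (Category.comp_id f).symm) _ _ _)).trans
    (tr_tr.{0, u} _ _ _ _ _).symm

theorem us_cr (A : PSh Y) {U V : Opens (Y.obj pnt)} (h : V ≤ U) (i : SimplexCategoryᵒᵖ) (s : CS A U i) :
    us g A V i (cr A h i s) =
      cr ((pullG (gP g)).obj A) (fun _ hx => h hx : (Opens.map (g.app pnt)).obj V ≤ (Opens.map (g.app pnt)).obj U) i
        (us g A U i s) := by
  refine (congrArg _ (usec_tr (gP g) A (𝟙 i) _ s)).trans ?_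
  exact ((tr_tr.{0, u} _ _ _ _ _).trans (tr_congr.{0, u} rfl _ _ _)).trans (tr_tr.{0, u} _ _ _ _ _).symm

theorem us_cm {A A' : PSh Y} (φ : A ⟶ A') (U : Opens (Y.obj pnt)) (i : SimplexCategoryᵒᵖ) (s : CS A U i) :
    us g A' U i (cm φ i s) = cm ((pullG (gP g)).map φ) i (us g A U i s) := by
  refine (congrArg _ (usec_natural (gP g) φ i _ s)).trans ?_
  exact (ap_tr.{0, u} ((pullG (gP g)).map φ) _ _ _).symm

theorem us_mem_eqz (A : PSh Y) {U : Opens (Y.obj pnt)} {s : CS A U (op ⦋0⦌)} (hs : s ∈ eqz A U) :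
    us g A U _ s ∈ eqz ((pullG (gP g)).obj A) _ :=
  (us_ct g A U _ s).symm.trans ((congrArg (us g A U _) ((mem_eqz A).1 hs)).trans (us_ct g A U _ s))

/-- Sections near `y'` of the inverse image come from sections near its image. -/
structure NearBC (y' : Z.obj pnt) : Prop where
  surj : ∀ (A : PSh Y) (i : SimplexCategoryᵒᵖ) (U' : Opens (Z.obj pnt)), y' ∈ U' →
    ∀ t' : CS ((pullG (gP g)).obj A) U' i, ∃ (V : Opens (Y.obj pnt)) (_ : g.app pnt y' ∈ V) (W : Opens (Z.obj pnt))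
      (h₁ : W ≤ (Opens.map (g.app pnt)).obj V) (h₂ : W ≤ U') (t : CS A V i),
        y' ∈ W ∧ cr _ h₁ i (us g A V i t) = cr _ h₂ i t'
  inj : ∀ (A : PSh Y) (i : SimplexCategoryᵒᵖ) (V : Opens (Y.obj pnt)) (t : CS A V i) (W : Opens (Z.obj pnt))
    (h : W ≤ (Opens.map (g.app pnt)).obj V), y' ∈ W → cr _ h i (us g A V i t) = 0 →
      ∃ (V₂ : Opens (Y.obj pnt)) (h₂ : V₂ ≤ V), g.app pnt y' ∈ V₂ ∧ cr A h₂ i t = 0

variable {g}

theorem NearBC.exists_lift {y' : Z.obj pnt} (hg : NearBC g y') {A A' : PSh Y} (φ : A ⟶ A')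
    (hφ : Epi ((pushA Z).map ((pullG (gP g)).map φ))) (U : Opens (Y.obj pnt)) (hU : g.app pnt y' ∈ U)
    (p : ((pushA Y).obj A').obj.obj (op U)) :
    ∃ (V : Opens (Y.obj pnt)) (h : V ≤ U), g.app pnt y' ∈ V ∧ ∃ q : ((pushA Y).obj A).obj.obj (op V),
      (((pushA Y).map φ).hom.app (op V)).hom q = (((pushA Y).obj A').obj.map (homOfLE h).op).hom p := by
  let U' := (Opens.map (g.app pnt)).obj U
  let s := νP A' U p
  obtain ⟨p', hp'⟩ := exists_νP_eq _ U' (us_mem_eqz g A' (νP_mem A' U p))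
  obtain ⟨W, hWU, hyW, q', hq'⟩ := CTopNbd.locSurj_of_epi (X := Z.obj pnt) id ((pushA Z).map ((pullG (gP g)).map φ))
    hφ y' U' hU p'
  have hq : cm ((pullG (gP g)).map φ) _ (νP _ W q') = cr _ hWU _ (us g A' U _ s) := by
    rw [← hp']
    exact (νP_map _ _ W q').symm.trans ((congrArg (νP _ W) hq').trans (νP_res _ hWU p'))
  obtain ⟨V₀, hV₀, W₁, h₁, h₂, t, hyW₁, ht⟩ := hg.surj A (op ⦋0⦌) W hyW (νP _ W q')
  let d := cf A V₀ 0 0 t - cf A V₀ 0 1 t
  obtain ⟨V₁, hV₁, hyV₁, hd⟩ := hg.inj A (op ⦋1⦌) V₀ d W₁ h₁ hyW₁ (by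
    rw [map_sub, map_sub, us_ct, us_ct, ← cr_ct, ← cr_ct, ht, cr_ct, cr_ct,
      (mem_eqz _).1 (νP_mem _ W q'), sub_self])
  let V₂ := V₁ ⊓ U
  have hV₂ : V₂ ≤ V₀ := inf_le_left.trans hV₁
  let W₂ := W₁ ⊓ (Opens.map (g.app pnt)).obj V₂
  let e := cm φ _ (cr A hV₂ _ t) - cr A' (inf_le_right : V₂ ≤ U) _ s
  obtain ⟨V₃, hV₃, hyV₃, he⟩ := hg.inj A' (op ⦋0⦌) V₂ e W₂ inf_le_right ⟨hyW₁, hyV₁, hU⟩ (by
    rw [map_sub, map_sub, us_cm, us_cr, us_cr, cm_cr, cr_cr, cr_cr, sub_eq_zero]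
    have e1 := congrArg (cm ((pullG (gP g)).map φ) _) ht
    rw [cm_cr, cm_cr, hq, cr_cr] at e1
    have e2 := congrArg (cr _ (inf_le_left : W₂ ≤ W₁) _) e1
    rw [cr_cr, cr_cr] at e2
    exact e2)
  have hmem : cr A (hV₃.trans hV₂) _ t ∈ eqz A V₃ := by
    show ct A V₃ _ (cr A _ _ t) = ct A V₃ _ (cr A _ _ t)
    rw [cr_ct, cr_ct, ← sub_eq_zero, ← map_sub]
    have := congrArg (cr A (hV₃.trans inf_le_left : V₃ ≤ V₁) _) hd
    rw [cr_cr, map_zero] at this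
    exact this
  obtain ⟨q, hqt⟩ := exists_νP_eq A V₃ hmem
  refine ⟨V₃, hV₃.trans inf_le_right, hyV₃, q, νP_injective A' V₃ ?_⟩
  rw [map_sub, sub_eq_zero, ← cm_cr, cr_cr, cr_cr] at he
  exact (νP_map A φ V₃ q).trans ((congrArg _ hqt).trans (he.trans (νP_res A' _ p).symm))

theorem epi_of_local {X : TopCat.{u}} {M N : CohTop.Ab X} (φ : M ⟶ N)
    (h : ∀ (U : Opens X) (n : N.obj.obj (op U)), ∀ x ∈ U, ∃ (V : Opens X) (hV : V ≤ U), x ∈ V ∧
      ∃ m, (φ.hom.app (op V)).hom m = (N.obj.map (homOfLE hV).op).hom n) : Epi φ := by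
  refine (Sheaf.isLocallySurjective_iff_epi' (A := AddCommGrpCat.{u}) φ).1 ⟨fun {U} n => ?_⟩
  intro x hx
  obtain ⟨V, hV, hxV, m, hm⟩ := h U n x hx
  exact ⟨V, homOfLE hV, ⟨m, hm⟩, hxV⟩

/-- Acyclicity is detected on a covering family. -/
theorem isZero_rpush_of_pullG [EnoughInjectives (PSh Y)] {κ : Type u} {Zf : κ → Aug ⥤ TopCat.{u}}
    (gf : ∀ k, Zf k ⟶ Y) (hcov : ∀ y : Y.obj pnt, ∃ k y', (gf k).app pnt y' = y ∧ NearBC (gf k) y')
    (hI : ∀ k (I : PSh Y), Injective I → ∀ q,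
      IsZero (((pushA (Zf k)).rightDerived (q + 1)).obj ((pullG (gP (gf k))).obj I)))
    {A : PSh Y} (hA : ∀ k q, IsZero (((pushA (Zf k)).rightDerived (q + 1)).obj ((pullG (gP (gf k))).obj A)))
    (q : ℕ) : IsZero (((pushA Y).rightDerived (q + 1)).obj A) := by
  haveI := preservesFiniteLimits_pushA (Y := Y)
  haveI : ∀ k, PreservesFiniteLimits (pushA (Zf k)) := fun k => preservesFiniteLimits_pushA
  refine isZero_rd_of_family (pushA Y) (fun k => pullG (gP (gf k))) (fun k => pushA (Zf k))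
    (fun {X M} φ h => epi_of_local _ fun U p y hy => ?_) hI hA q
  obtain ⟨k, y', rfl, hg⟩ := hcov y
  exact hg.exists_lift φ (h k) U hy p

end Groth.Agent.FibDesc74
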