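import Groth.Agent.FibDesc74.BiBase
import Groth.Agent.FibDesc74.Transfer

/-!
# The relative direct image of a bisimplicial space
-/

set_option autoImplicit false

universe u

open CategoryTheory CategoryTheory.Limits Opposite TopologicalSpace Pseudofunctor.CoGrothendieck
open Simplicial

namespace Groth.Agent.FibDesc74

variable (W : Aug2 ⥤ TopCat.{u})

/-- The zeroth preimage of an open subset of the augmenting column. -/
noncomputable abbrev rp (n : SC) (m : SC) (U : Opens (W.obj (toAug.obj m, pnt))) :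
    Opens (W.obj (toAug.obj m, toAug.obj n)) :=
  (Opens.map (W.map (CategoryTheory.Prod.mkHom (𝟙 (toAug.obj m)) (th (toAug.obj n))))).obj U

theorem rp_le (m : SC) (U : Opens (W.obj (toAug.obj m, pnt))) (k : Fin 2) :
    rp W (op ⦋1⦌) m U ≤ (Opens.map ((PW W).map (CategoryTheory.Prod.mkHom (𝟙 m) (SimplexCategory.δ k).op))).obj
      (rp W (op ⦋0⦌) m U) :=
  pre_le (Y := rowD W (toAug.obj m)) U (toAug.map (SimplexCategory.δ k).op)

/-- A coface on the direct images of the columns. -/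
noncomputable def dC (k : Fin 2) : PC W (op ⦋0⦌) ⟶ PC W (op ⦋1⦌) where
  app A := ⟨
    { app := fun X => AddCommGrpCat.ofHom
        (tr.{0, u} (Y := PW W) A
          (CategoryTheory.Prod.mkHom (𝟙 X.unop.base) (SimplexCategory.δ k).op)
          (rp_le W X.unop.base (fib.{0, u} (Y := prt (colD W pnt)) X.unop) k))
      naturality := fun X X' g => by
        refine ConcreteCategory.hom_ext _ _ fun s => ?_
        refine (tr_tr.{0, u} (Y := PW W) (A := A) _ _ _ _ s).trans (Eq.trans ?_ (tr_tr.{0, u} (Y := PW W) (A := A) _ _ _ _ s).symm)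
        exact tr_congr.{0, u} (Y := PW W) (A := A)
          (Prod.ext ((Category.id_comp _).trans (Category.comp_id _).symm)
            ((Category.comp_id _).trans (Category.id_comp _).symm)) _ _ s }⟩
  naturality A A' φ := by
    refine Sheaf.hom_ext ?_
    refine NatTrans.ext (funext fun X => ConcreteCategory.hom_ext _ _ fun s => ?_)
    exact (ap_tr.{0, u} (Y := PW W) φ _ _ s).symm

/-- The difference of the two cofaces. -/
noncomputable abbrev dd01 (A : BSh W) : (PC W (op ⦋0⦌)).obj A ⟶ (PC W (op ⦋1⦌)).obj A :=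
  (dC W 0).app A - (dC W 1).app A

/-- The relative direct image. -/
noncomputable def rel : BSh W ⥤ PSh (colD W pnt) where
  obj A := kernel (dd01 W A)
  map {A A'} φ := kernel.map _ _ ((PC W _).map φ) ((PC W _).map φ) (by
    rw [Preadditive.sub_comp, Preadditive.comp_sub, ← (dC W 0).naturality φ, ← (dC W 1).naturality φ])
  map_id A := by
    refine equalizer.hom_ext ?_
    simp
  map_comp φ φ' := by
    refine equalizer.hom_ext ?_
    simp

/-- The inclusion. -/
noncomputable abbrev relι (A : BSh W) : (rel W).obj A ⟶ (PC W (op ⦋0⦌)).obj A := kernel.ι (dd01 W A)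

instance mono_relι (A : BSh W) : Mono (relι W A) := inferInstanceAs (Mono (kernel.ι (dd01 W A)))

theorem rel_map_ι {A A' : BSh W} (φ : A ⟶ A') :
    (rel W).map φ ≫ relι W A' = relι W A ≫ (PC W _).map φ :=
  kernel.lift_ι _ _ _

instance additive_rel : (rel W).Additive where
  map_add {A A' φ ψ} := by
    refine equalizer.hom_ext ?_
    show (rel W).map (φ + ψ) ≫ relι W A' = ((rel W).map φ + (rel W).map ψ) ≫ relι W A'
    rw [rel_map_ι, Preadditive.add_comp, rel_map_ι, rel_map_ι, Functor.map_add, Preadditive.comp_add]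

/-- Lifting to the relative direct image. -/
noncomputable def relLift (A : BSh W) {T : PSh (colD W pnt)} (l : T ⟶ (PC W (op ⦋0⦌)).obj A)
    (h : l ≫ dd01 W A = 0) : T ⟶ (rel W).obj A :=
  kernel.lift (dd01 W A) l h

theorem relLift_ι (A : BSh W) {T : PSh (colD W pnt)} (l : T ⟶ (PC W (op ⦋0⦌)).obj A) (h : l ≫ dd01 W A = 0) :
    relLift W A l h ≫ relι W A = l :=
  kernel.lift_ι _ _ _

theorem relι_dd01 (A : BSh W) : relι W A ≫ dd01 W A = 0 := kernel.condition _

theorem shortExact_rel {S : ShortComplex (BSh W)} (hS : S.ShortExact) (he : Epi ((rel W).map S.g)) :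
    (S.map (rel W)).ShortExact := by
  haveI := hS.mono_f
  haveI hm : Mono ((rel W).map S.f) := by
    haveI : Mono (relι W S.X₁ ≫ (PC W (op ⦋0⦌)).map S.f) := inferInstance
    rw [← rel_map_ι] at this
    exact mono_of_mono ((rel W).map S.f) (relι W S.X₂)
  haveI : Mono (S.map (rel W)).f := hm
  haveI : Epi (S.map (rel W)).g := he
  refine ⟨ShortComplex.exact_of_f_is_kernel _ ?_⟩
  have h0 := hS.exact.map_of_mono_of_preservesKernel (PC W (op ⦋0⦌)) inferInstance inferInstance
  haveI : Mono (S.map (PC W (op ⦋0⦌))).f := inferInstanceAs (Mono ((PC W (op ⦋0⦌)).map S.f))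
  have key : ∀ {T : PSh (colD W pnt)} (k : T ⟶ (rel W).obj S.X₂), k ≫ (rel W).map S.g = 0 →
      Nonempty { l // l ≫ (rel W).map S.f = k } := fun {T} k hk => by
    have hk' : (k ≫ relι W S.X₂) ≫ (PC W (op ⦋0⦌)).map S.g = 0 :=
      (Category.assoc _ _ _).trans ((congrArg (k ≫ ·) (rel_map_ι W S.g).symm).trans
        ((Category.assoc _ _ _).symm.trans ((congrArg (· ≫ relι W S.X₃) hk).trans zero_comp)))
    obtain ⟨l, hl⟩ : { l // l ≫ (PC W (op ⦋0⦌)).map S.f = k ≫ relι W S.X₂ } :=
      ⟨h0.lift _ hk', h0.lift_f _ hk'⟩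
    have hl0 : l ≫ dd01 W S.X₁ = 0 := by
      haveI : Mono ((PC W (op ⦋1⦌)).map S.f) := inferInstance
      have e : dd01 W S.X₁ ≫ (PC W (op ⦋1⦌)).map S.f = (PC W (op ⦋0⦌)).map S.f ≫ dd01 W S.X₂ := by
        rw [Preadditive.sub_comp, Preadditive.comp_sub, ← (dC W 0).naturality S.f, ← (dC W 1).naturality S.f]
      rw [← cancel_mono ((PC W (op ⦋1⦌)).map S.f), zero_comp, Category.assoc, e, ← Category.assoc, hl]
      exact (Category.assoc _ _ _).trans ((congrArg (k ≫ ·) (relι_dd01 W S.X₂)).trans comp_zero)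
    refine ⟨⟨relLift W S.X₁ l hl0, (cancel_mono (relι W S.X₂)).1 ?_⟩⟩
    exact (Category.assoc _ _ _).trans ((congrArg (relLift W S.X₁ l hl0 ≫ ·) (rel_map_ι W S.f)).trans
      ((Category.assoc _ _ _).symm.trans ((congrArg (· ≫ (PC W _).map S.f) (relLift_ι W S.X₁ l hl0)).trans hl)))
  exact KernelFork.IsLimit.ofι' _ _ fun {T} k hk => (key k hk).some

/-- Sections of the relative direct image as sections over the zeroth column. -/
noncomputable def νR (A : BSh W) (m : SC) (U : Opens (W.obj (toAug.obj m, pnt))) :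
    sec.{0, u} (Y := prt (colD W pnt)) ((rel W).obj A) m U →+ sec.{0, u} (Y := PW W) A (m, op ⦋0⦌) (rp W (op ⦋0⦌) m U) :=
  ap.{0, u} (Y := prt (colD W pnt)) (relι W A) m U

theorem νR_injective (A : BSh W) (m : SC) (U : Opens (W.obj (toAug.obj m, pnt))) :
    Function.Injective (νR W A m U) :=
  SiteBase.sheaf_app_injective (relι W A) _

theorem νR_tr (A : BSh W) {m m' : SC} (f : m' ⟶ m) {U : Opens (W.obj (toAug.obj m, pnt))}
    {U' : Opens (W.obj (toAug.obj m', pnt))} (h : U' ≤ (Opens.map ((prt (colD W pnt)).map f)).obj U)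
    (r : sec.{0, u} (Y := prt (colD W pnt)) ((rel W).obj A) m U) :
    νR W A m' U' (tr.{0, u} (Y := prt (colD W pnt)) ((rel W).obj A) f h r) =
      tr.{0, u} (Y := PW W) A (CategoryTheory.Prod.mkHom f (𝟙 (op ⦋0⦌)))
        (preimg_le (projC W (op ⦋0⦌)) f h) (νR W A m U r) :=
  ap_tr.{0, u} (Y := prt (colD W pnt)) (relι W A) f h r

theorem νR_map {A A' : BSh W} (φ : A ⟶ A') (m : SC) (U : Opens (W.obj (toAug.obj m, pnt)))
    (r : sec.{0, u} (Y := prt (colD W pnt)) ((rel W).obj A) m U) :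
    νR W A' m U (ap.{0, u} (Y := prt (colD W pnt)) ((rel W).map φ) m U r) =
      ap.{0, u} (Y := PW W) φ (m, op ⦋0⦌) (rp W (op ⦋0⦌) m U) (νR W A m U r) :=
  congrArg (fun q => ap.{0, u} (Y := prt (colD W pnt)) q m U r) (rel_map_ι W φ)

theorem νR_mem (A : BSh W) (m : SC) (U : Opens (W.obj (toAug.obj m, pnt)))
    (r : sec.{0, u} (Y := prt (colD W pnt)) ((rel W).obj A) m U) :
    νR W A m U r ∈ eqz (Y := rowD W (toAug.obj m)) ((rowSh W m).obj A) U := by
  have e := congrArg (fun q => ap.{0, u} (Y := prt (colD W pnt)) q m U r) (kernel.condition (dd01 W A))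
  exact sub_eq_zero.1 e

theorem exists_νR_eq (A : BSh W) (m : SC) (U : Opens (W.obj (toAug.obj m, pnt)))
    (s : sec.{0, u} (Y := PW W) A (m, op ⦋0⦌) (rp W (op ⦋0⦌) m U))
    (hs : s ∈ eqz (Y := rowD W (toAug.obj m)) ((rowSh W m).obj A) U) : ∃ r, νR W A m U r = s := by
  have hS : (ShortComplex.mk (relι W A) (dd01 W A) (kernel.condition _)).Exact :=
    ShortComplex.exact_of_f_is_kernel _ (kernelIsKernel _)
  exact (ShortComplex.ab_exact_iff _).1 (hS.map_of_mono_of_preservesKernel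
    (sheafToPresheaf (totT.{0, u} (prt (colD W pnt))) AddCommGrpCat.{u} ⋙
      (evaluation _ AddCommGrpCat.{u}).obj (op (mkO.{0, u} (Y := prt (colD W pnt)) m U)))
    inferInstance inferInstance) s (sub_eq_zero.2 hs)

theorem epi_rel_map {A A' : BSh W} (φ : A ⟶ A')
    (h : ∀ m : SC, Epi ((pushA (rowD W (toAug.obj m))).map ((rowSh W m).map φ))) : Epi ((rel W).map φ) := by
  refine epi_of_res.{0, u} _ fun m => epi_of_local _ fun U p y hy => ?_
  obtain ⟨q, hq⟩ := exists_νP_eq (Y := rowD W (toAug.obj m)) ((rowSh W m).obj A') U (νR_mem W A' m U p)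
  obtain ⟨V, hV, hyV, t, ht⟩ := CTopNbd.locSurj_of_epi (X := W.obj (toAug.obj m, pnt)) id
    ((pushA (rowD W (toAug.obj m))).map ((rowSh W m).map φ)) (h m) y U hy q
  obtain ⟨r, hr⟩ := exists_νR_eq W A m V _ (νP_mem (Y := rowD W (toAug.obj m)) ((rowSh W m).obj A) V t)
  refine ⟨V, hV, hyV, r, νR_injective W A' m V ?_⟩
  refine (νR_map W φ m V r).trans ?_
  refine Eq.trans ?_ ((congrArg (νR W A' m V) (res_map.{0, u} ((rel W).obj A') hV p)).trans
    (νR_tr W A' (𝟙 m) _ p)).symm
  rw [hr]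
  refine ((νP_map (Y := rowD W (toAug.obj m)) ((rowSh W m).obj A) ((rowSh W m).map φ) V t).symm.trans
    (congrArg (νP (Y := rowD W (toAug.obj m)) ((rowSh W m).obj A') V) ht)).trans ?_
  refine (νP_res (Y := rowD W (toAug.obj m)) ((rowSh W m).obj A') hV q).trans ?_
  rw [hq]
  rfl

end Groth.Agent.FibDesc74
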