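import Groth.Agent.FibDesc74.BiInj
import Groth.Agent.FibDesc74.Derived

/-!
# Exchanging the two directions of a bisimplicial space
-/

set_option autoImplicit false

universe u

open CategoryTheory CategoryTheory.Limits Opposite TopologicalSpace Pseudofunctor.CoGrothendieck
open Simplicial

namespace Groth.Agent.FibDesc74

variable (W : Aug2 ⥤ TopCat.{u})

/-- The preimage of an open subset of the doubly augmenting space. -/
noncomputable abbrev pre2 (U : Opens (W.obj (pnt, pnt))) (x : SC × SC) :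
    Opens (W.obj (toAug.obj x.1, toAug.obj x.2)) :=
  (Opens.map (W.map (CategoryTheory.Prod.mkHom (th (toAug.obj x.1)) (th (toAug.obj x.2))))).obj U

theorem pre2_le (U : Opens (W.obj (pnt, pnt))) {x y : SC × SC} (f : x ⟶ y) :
    pre2 W U x ≤ (Opens.map ((PW W).map f)).obj (pre2 W U y) := fun a ha => by
  show W.map _ (W.map (toAug2.map f) a) ∈ U
  rw [← ConcreteCategory.comp_apply, ← W.map_comp]
  exact (congrArg (fun z => W.map z a ∈ U) (Prod.ext (to_pnt_ext _ _) (to_pnt_ext _ _))).mp ha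

theorem pre2_mono {U V : Opens (W.obj (pnt, pnt))} (h : V ≤ U) (x : SC × SC) : pre2 W V x ≤ pre2 W U x :=
  fun _ ha => h ha

theorem rp_pre (U : Opens (W.obj (pnt, pnt))) (x : SC × SC) :
    rp W x.2 x.1 (pre (Y := colD W pnt) U (toAug.obj x.1)) = pre2 W U x := by
  refine Opens.ext (Set.ext fun a => ?_)
  show W.map (CategoryTheory.Prod.mkHom (th (toAug.obj x.1)) (𝟙 pnt))
      (W.map (CategoryTheory.Prod.mkHom (𝟙 (toAug.obj x.1)) (th (toAug.obj x.2))) a) ∈ U ↔
    W.map (CategoryTheory.Prod.mkHom (th (toAug.obj x.1)) (th (toAug.obj x.2))) a ∈ U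
  rw [← ConcreteCategory.comp_apply, ← W.map_comp]
  exact Iff.of_eq (congrArg (fun z => W.map z a ∈ U) (Prod.ext (to_pnt_ext _ _) (to_pnt_ext _ _)))

variable (A : BSh W)

/-- The base vertex of the part. -/
abbrev z2 : SC × SC := (op ⦋0⦌, op ⦋0⦌)

/-- Sections compatible in both directions. -/
def IsDbl (U : Opens (W.obj (pnt, pnt))) (s : sec.{0, u} (Y := PW W) A z2 (pre2 W U z2)) : Prop :=
  tr.{0, u} (Y := PW W) A (CategoryTheory.Prod.mkHom (SimplexCategory.δ (0 : Fin 2)).op (𝟙 (op ⦋0⦌)))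
      (pre2_le W U _) s =
    tr.{0, u} (Y := PW W) A (CategoryTheory.Prod.mkHom (SimplexCategory.δ (1 : Fin 2)).op (𝟙 (op ⦋0⦌)))
      (pre2_le W U _) s ∧
  tr.{0, u} (Y := PW W) A (CategoryTheory.Prod.mkHom (𝟙 (op ⦋0⦌)) (SimplexCategory.δ (0 : Fin 2)).op)
      (pre2_le W U _) s =
    tr.{0, u} (Y := PW W) A (CategoryTheory.Prod.mkHom (𝟙 (op ⦋0⦌)) (SimplexCategory.δ (1 : Fin 2)).op)
      (pre2_le W U _) s

/-- Sections of the composite direct image over the base vertex. -/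
noncomputable def ν2 (U : Opens (W.obj (pnt, pnt))) :
    ((pushA (colD W pnt)).obj ((rel W).obj A)).obj.obj (op U) →+
      sec.{0, u} (Y := PW W) A z2 (pre2 W U z2) :=
  ((tr.{0, u} (Y := PW W) A (𝟙 z2) (le_id.{0, u} (Y := PW W) (rp_pre W U z2).ge)).comp
    (νR W A (op ⦋0⦌) (pre (Y := colD W pnt) U (toAug.obj (op ⦋0⦌))))).comp
    (νP (Y := colD W pnt) ((rel W).obj A) U)

theorem tr_rp_bijective (U : Opens (W.obj (pnt, pnt))) (x : SC × SC) :
    Function.Bijective (tr.{0, u} (Y := PW W) A (𝟙 x) (le_id.{0, u} (Y := PW W) (rp_pre W U x).ge)) := by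
  refine Function.bijective_iff_has_inverse.2
    ⟨tr.{0, u} (Y := PW W) A (𝟙 x) (le_id.{0, u} (Y := PW W) (rp_pre W U x).le), fun s => ?_, fun s => ?_⟩
  · rw [tr_tr]
    exact (tr_congr.{0, u} (Y := PW W) (Category.id_comp _) _ (le_id.{0, u} le_rfl) s).trans (tr_self.{0, u} _ s)
  · rw [tr_tr]
    exact (tr_congr.{0, u} (Y := PW W) (Category.id_comp _) _ (le_id.{0, u} le_rfl) s).trans (tr_self.{0, u} _ s)

theorem ν2_injective (U : Opens (W.obj (pnt, pnt))) : Function.Injective (ν2 W A U) :=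
  (tr_rp_bijective W A U z2).1.comp ((νR_injective W A _ _).comp (νP_injective ((rel W).obj A) U))

theorem isDbl_ν2 (U : Opens (W.obj (pnt, pnt))) (p : ((pushA (colD W pnt)).obj ((rel W).obj A)).obj.obj (op U)) :
    IsDbl W A U (ν2 W A U p) := by
  have key : ∀ k : Fin 2,
      tr.{0, u} (Y := PW W) A (CategoryTheory.Prod.mkHom (SimplexCategory.δ k).op (𝟙 (op ⦋0⦌))) (pre2_le W U _)
          (ν2 W A U p) =
        tr.{0, u} (Y := PW W) A (𝟙 (op ⦋1⦌, op ⦋0⦌)) (le_id.{0, u} (Y := PW W) (rp_pre W U (op ⦋1⦌, op ⦋0⦌)).ge)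
          (νR W A (op ⦋1⦌) _ (cf (Y := colD W pnt) ((rel W).obj A) U 0 k (νP (Y := colD W pnt) _ U p))) := fun k => by
    refine Eq.trans ?_ (congrArg _ (νR_tr W A (SimplexCategory.δ k).op _ _)).symm
    refine (tr_tr.{0, u} (Y := PW W) (A := A) _ _ _ _ _).trans (Eq.trans ?_ (tr_tr.{0, u} (Y := PW W) (A := A) _ _ _ _ _).symm)
    exact tr_congr.{0, u} (Y := PW W) (A := A) ((Category.comp_id _).trans (Category.id_comp _).symm) _ _ _
  have key' : ∀ k : Fin 2,
      tr.{0, u} (Y := PW W) A (CategoryTheory.Prod.mkHom (𝟙 (op ⦋0⦌)) (SimplexCategory.δ k).op) (pre2_le W U _)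
          (ν2 W A U p) =
        tr.{0, u} (Y := PW W) A (𝟙 (op ⦋0⦌, op ⦋1⦌)) (le_id.{0, u} (Y := PW W) (rp_pre W U (op ⦋0⦌, op ⦋1⦌)).ge)
          (cf (Y := rowD W (toAug.obj (op ⦋0⦌))) ((rowSh W (op ⦋0⦌)).obj A) _ 0 k
            (νR W A (op ⦋0⦌) _ (νP (Y := colD W pnt) _ U p))) := fun k => by
    refine (tr_tr.{0, u} (Y := PW W) (A := A) _ _ _ _ _).trans (Eq.trans ?_ (tr_tr.{0, u} (Y := PW W) (A := A) _ _ _ _ _).symm)
    exact tr_congr.{0, u} (Y := PW W) (A := A) ((Category.comp_id _).trans (Category.id_comp _).symm) _ _ _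
  refine ⟨?_, ?_⟩
  · rw [key 0, key 1, (mem_eqz _).1 (νP_mem (Y := colD W pnt) _ U p)]
  · rw [key' 0, key' 1, (mem_eqz _).1 (νR_mem W A (op ⦋0⦌) _ _)]

theorem exists_ν2_eq (U : Opens (W.obj (pnt, pnt))) (s : sec.{0, u} (Y := PW W) A z2 (pre2 W U z2))
    (hs : IsDbl W A U s) : ∃ p, ν2 W A U p = s := by
  obtain ⟨s₁, rfl⟩ := (tr_rp_bijective W A U z2).2 s
  obtain ⟨h1, h2⟩ := hs
  obtain ⟨r, rfl⟩ := exists_νR_eq W A (op ⦋0⦌) _ s₁ (by
    show _ = _
    refine (tr_rp_bijective W A U (op ⦋0⦌, op ⦋1⦌)).1 ?_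
    refine Eq.trans ?_ (h2.trans ?_)
    · refine (tr_tr.{0, u} (Y := PW W) (A := A) _ _ _ _ s₁).trans (Eq.trans ?_ (tr_tr.{0, u} (Y := PW W) (A := A) _ _ _ _ s₁).symm)
      exact tr_congr.{0, u} (Y := PW W) (A := A) ((Category.id_comp _).trans (Category.comp_id _).symm) _ _ _
    · refine (tr_tr.{0, u} (Y := PW W) (A := A) _ _ _ _ s₁).trans (Eq.trans ?_ (tr_tr.{0, u} (Y := PW W) (A := A) _ _ _ _ s₁).symm)
      exact tr_congr.{0, u} (Y := PW W) (A := A) ((Category.comp_id _).trans (Category.id_comp _).symm) _ _ _)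
  have hr : r ∈ eqz (Y := colD W pnt) ((rel W).obj A) U := by
    show _ = _
    refine νR_injective W A (op ⦋1⦌) _ ((tr_rp_bijective W A U (op ⦋1⦌, op ⦋0⦌)).1 ?_)
    refine Eq.trans ?_ (h1.trans ?_)
    · refine (congrArg _ (νR_tr W A (SimplexCategory.δ (0 : Fin 2)).op _ r)).trans ?_
      refine (tr_tr.{0, u} (Y := PW W) (A := A) _ _ _ _ _).trans (Eq.trans ?_ (tr_tr.{0, u} (Y := PW W) (A := A) _ _ _ _ _).symm)
      exact tr_congr.{0, u} (Y := PW W) (A := A) ((Category.id_comp _).trans (Category.comp_id _).symm) _ _ _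
    · refine Eq.trans ?_ (congrArg _ (νR_tr W A (SimplexCategory.δ (1 : Fin 2)).op _ r)).symm
      refine (tr_tr.{0, u} (Y := PW W) (A := A) _ _ _ _ _).trans (Eq.trans ?_ (tr_tr.{0, u} (Y := PW W) (A := A) _ _ _ _ _).symm)
      exact tr_congr.{0, u} (Y := PW W) (A := A) ((Category.comp_id _).trans (Category.id_comp _).symm) _ _ _
  obtain ⟨p, hp⟩ := exists_νP_eq (Y := colD W pnt) _ U hr
  exact ⟨p, congrArg (fun z => tr.{0, u} (Y := PW W) A (𝟙 z2) (le_id.{0, u} (Y := PW W) (rp_pre W U z2).ge)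
    (νR W A _ _ z)) hp⟩

theorem ν2_map {A' : BSh W} (φ : A ⟶ A') (U : Opens (W.obj (pnt, pnt)))
    (p : ((pushA (colD W pnt)).obj ((rel W).obj A)).obj.obj (op U)) :
    ν2 W A' U ((((pushA (colD W pnt)).map ((rel W).map φ)).hom.app (op U)).hom p) =
      ap.{0, u} (Y := PW W) φ z2 (pre2 W U z2) (ν2 W A U p) := by
  refine Eq.trans ?_ (ap_tr.{0, u} (Y := PW W) φ _ _ _).symm
  refine congrArg (tr.{0, u} (Y := PW W) A' (𝟙 z2) (le_id.{0, u} (Y := PW W) (rp_pre W U z2).ge)) ?_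
  exact (congrArg (νR W A' _ _) (νP_map (Y := colD W pnt) ((rel W).obj A) ((rel W).map φ) U p)).trans
    (νR_map W φ _ _ _)

theorem ν2_res {U V : Opens (W.obj (pnt, pnt))} (h : V ≤ U)
    (p : ((pushA (colD W pnt)).obj ((rel W).obj A)).obj.obj (op U)) :
    ν2 W A V ((((pushA (colD W pnt)).obj ((rel W).obj A)).obj.map (homOfLE h).op).hom p) =
      tr.{0, u} (Y := PW W) A (𝟙 z2) (le_id.{0, u} (Y := PW W) (pre2_mono W h z2)) (ν2 W A U p) := by
  refine (congrArg _ ((congrArg (νR W A _ _) (νP_res (Y := colD W pnt) ((rel W).obj A) h p)).trans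
    (νR_tr W A _ _ _))).trans ?_
  refine (tr_tr.{0, u} (Y := PW W) (A := A) _ _ _ _ _).trans (Eq.trans ?_ (tr_tr.{0, u} (Y := PW W) (A := A) _ _ _ _ _).symm)
  exact tr_congr.{0, u} (Y := PW W) (A := A) rfl _ _ _

/-- Epimorphy of the composite direct image does not depend on the order. -/
theorem epi_comp_of_swap {A A' : BSh W} (φ : A ⟶ A')
    (h : Epi ((pushA (colD (swW W) pnt)).map ((rel (swW W)).map ((swSh W).map φ)))) :
    Epi ((pushA (colD W pnt)).map ((rel W).map φ)) := by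
  refine epi_of_local _ fun U p y hy => ?_
  obtain ⟨p', hp'⟩ := exists_ν2_eq (swW W) ((swSh W).obj A') U (ν2 W A' U p)
    ⟨(isDbl_ν2 W A' U p).2, (isDbl_ν2 W A' U p).1⟩
  obtain ⟨V, hV, hyV, q', hq'⟩ := CTopNbd.locSurj_of_epi (X := W.obj (pnt, pnt)) id
    ((pushA (colD (swW W) pnt)).map ((rel (swW W)).map ((swSh W).map φ))) h y U hy p'
  obtain ⟨q, hq⟩ := exists_ν2_eq W A V (ν2 (swW W) ((swSh W).obj A) V q')
    ⟨(isDbl_ν2 (swW W) _ V q').2, (isDbl_ν2 (swW W) _ V q').1⟩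
  refine ⟨V, hV, hyV, q, ν2_injective W A' V ?_⟩
  refine (ν2_map W A φ V q).trans ?_
  rw [hq]
  refine ((ν2_map (swW W) ((swSh W).obj A) ((swSh W).map φ) V q').symm.trans
    ((congrArg (ν2 (swW W) ((swSh W).obj A') V) hq').trans (ν2_res (swW W) ((swSh W).obj A') hV p'))).trans ?_
  rw [hp']
  exact (ν2_res W A' hV p).symm

/-- The exchange twice is the identity. -/
noncomputable def swIso : swSh W ⋙ swSh (swW W) ≅ 𝟭 (BSh W) :=
  NatIso.ofComponents (fun A => (fullyFaithfulSheafToPresheaf _ _).preimageIso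
    (NatIso.ofComponents (fun _ => Iso.refl _) fun {X X'} g => by
      refine (Category.comp_id _).trans (Eq.trans ?_ (Category.id_comp _).symm)
      exact congrArg (fun m => A.obj.map (Quiver.Hom.op m)) (hext.{0, u} (Y := PW W) _ _ rfl)))
    fun {A A'} φ => Sheaf.hom_ext (NatTrans.ext (funext fun X =>
      (Category.comp_id _).trans (Category.id_comp _).symm))

instance injective_swSh (I : BSh W) [Injective I] : Injective ((swSh W).obj I) where
  factors {X Y} g f hf := by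
    haveI := hf
    haveI : Mono ((swSh (swW W)).map f) := inferInstance
    let g' : (swSh (swW W)).obj X ⟶ I := (swSh (swW W)).map g ≫ (swIso W).hom.app I
    let h := Injective.factorThru g' ((swSh (swW W)).map f)
    refine ⟨(swIso (swW W)).inv.app Y ≫ (swSh W).map h, ?_⟩
    have e := congrArg (swSh W).map (Injective.comp_factorThru g' ((swSh (swW W)).map f))
    rw [Functor.map_comp, Functor.map_comp] at e
    have n := (swIso (swW W)).inv.naturality f
    refine (Category.assoc _ _ _).symm.trans ((congrArg (· ≫ (swSh W).map h) n).trans ?_)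
    refine (Category.assoc _ _ _).trans ((congrArg ((swIso (swW W)).inv.app X ≫ ·) e).trans ?_)
    refine Sheaf.hom_ext (NatTrans.ext (funext fun Z => ?_))
    refine (Category.id_comp _).trans ((Category.comp_id _).trans ?_)
    rfl

/-- All rows in both directions are acyclic. -/
def RowsAcyclic (A : BSh W) : Prop :=
  (∀ (m : SC) (q : ℕ), IsZero (((pushA (rowD W (toAug.obj m))).rightDerived (q + 1)).obj ((rowSh W m).obj A))) ∧
    ∀ (m : SC) (q : ℕ), IsZero (((pushA (rowD (swW W) (toAug.obj m))).rightDerived (q + 1)).obj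
      ((rowSh (swW W) m).obj ((swSh W).obj A)))

theorem rowsAcyclic_injective (I : BSh W) [Injective I] : RowsAcyclic W I :=
  ⟨isZero_rd_rowSh W I, isZero_rd_rowSh (swW W) ((swSh W).obj I)⟩

/-- Acyclicity of the relative direct image can be moved to the other direction. -/
theorem isZero_rd_rel_of_swap (q : ℕ) : ∀ (A : BSh W), RowsAcyclic W A →
    IsZero (((pushA (colD (swW W) pnt)).rightDerived (q + 1)).obj ((rel (swW W)).obj ((swSh W).obj A))) →
    IsZero (((pushA (colD W pnt)).rightDerived (q + 1)).obj ((rel W).obj A)) := by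
  have hex : ∀ A : BSh W, RowsAcyclic W A → ∃ (S : ShortComplex (BSh W)) (_ : S.ShortExact),
      S.X₁ = A ∧ Injective S.X₂ ∧ (S.map (rel W)).ShortExact ∧
        ((S.map (swSh W)).map (rel (swW W))).ShortExact ∧ RowsAcyclic W S.X₃ := by
    intro A hA
    obtain ⟨p⟩ := EnoughInjectives.presentation A
    have hS := p.shortExact_shortComplex
    haveI := p.injective
    have hI := rowsAcyclic_injective W p.J
    haveI := fun m => preservesFiniteLimits_pushA (Y := rowD W (toAug.obj m))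
    haveI := fun m => preservesFiniteLimits_pushA (Y := rowD (swW W) (toAug.obj m))
    refine ⟨p.shortComplex, hS, rfl, p.injective, ?_, ?_, fun m q => ?_, fun m q => ?_⟩
    · exact shortExact_rel W hS (epi_rel_map W _ fun m =>
        epi_map_of_rd_one _ (hS.map_of_exact (rowSh W m)) (hA.1 m 0))
    · exact shortExact_rel (swW W) (hS.map_of_exact (swSh W)) (epi_rel_map (swW W) _ fun m =>
        epi_map_of_rd_one _ ((hS.map_of_exact (swSh W)).map_of_exact (rowSh (swW W) m)) (hA.2 m 0))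
    · exact isZero_rd_of_succ _ (hS.map_of_exact (rowSh W m)) q (hA.1 m (q + 1)) (hI.1 m q)
    · exact isZero_rd_of_succ _ ((hS.map_of_exact (swSh W)).map_of_exact (rowSh (swW W) m)) q (hA.2 m (q + 1))
        (hI.2 m q)
  haveI := preservesFiniteLimits_pushA (Y := colD W pnt)
  haveI := preservesFiniteLimits_pushA (Y := colD (swW W) pnt)
  induction q with
  | zero =>
    intro A hA h
    obtain ⟨S, -, rfl, hI, hr, hr', -⟩ := hex A hA
    haveI := hI
    exact isZero_rd_one _ hr (isZero_rd_rel W S.X₂ 0)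
      (epi_comp_of_swap W S.g (epi_map_of_rd_one _ hr' h))
  | succ q ih =>
    intro A hA h
    obtain ⟨S, -, rfl, hI, hr, hr', h3⟩ := hex A hA
    haveI := hI
    exact isZero_rd_succ _ hr q (isZero_rd_rel W S.X₂ (q + 1))
      (ih S.X₃ h3 (isZero_rd_of_succ _ hr' q h (isZero_rd_rel (swW W) ((swSh W).obj S.X₂) q)))

end Groth.Agent.FibDesc74
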