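import Groth.Agent.FibDesc74.God

/-!
# Cartesian sheaves on the total site

For a morphism `η : G ⟶ E_b` into the restriction of a sheaf `E` to the fibre over a final object `b`, the
stalk maps `G_{f x} ⟶ E_x`. The extension of `G` from that fibre has bijective stalk maps.
-/

set_option autoImplicit false

universe v u

open CategoryTheory CategoryTheory.Limits Opposite TopologicalSpace Pseudofunctor.CoGrothendieck

namespace Groth.Agent.FibDesc74

variable {B : Type} [Category.{v} B] {Y : B ⥤ TopCat.{max u v}} {b : B}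

variable {G : CohTop.Ab (Y.obj b)} {E : TSh Y} (η : G ⟶ (res Y b).obj E)

/-- The sections over the base seen over a space. -/
noncomputable abbrev pl {i : B} (f : i ⟶ b) (U : Opens (Y.obj b)) (s : G.obj.obj (op U)) :
    sec E i ((Opens.map (Y.map f)).obj U) :=
  tr E f le_rfl ((η.hom.app (op U)).hom s)

theorem pl_res {i : B} (f : i ⟶ b) {U V : Opens (Y.obj b)} (h : V ≤ U) (s : G.obj.obj (op U)) :
    pl η f V ((G.obj.map (homOfLE h).op).hom s) =
      tr E (𝟙 i) (le_id (fun _ hx => h hx)) (pl η f U s) := by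
  have e : (η.hom.app (op V)).hom ((G.obj.map (homOfLE h).op).hom s) =
      tr E (𝟙 b) (le_id h) ((η.hom.app (op U)).hom s) :=
    (ConcreteCategory.congr_hom (η.hom.naturality (homOfLE h).op) s).trans (res_map E h _)
  show tr E f le_rfl ((η.hom.app (op V)).hom ((G.obj.map (homOfLE h).op).hom s)) = _
  rw [e, tr_tr, tr_tr]
  exact tr_congr ((Category.comp_id f).trans (Category.id_comp f).symm) _ _ _

/-- The transition as a morphism of presheaves. -/
noncomputable def plNat {i : B} (f : i ⟶ b) :
    G.obj ⟶ (TopCat.Presheaf.pushforward AddCommGrpCat.{max u v} (Y.map f)).obj ((res Y i).obj E).obj where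
  app U := AddCommGrpCat.ofHom ((tr E f (W := (Opens.map (Y.map f)).obj U.unop) le_rfl).comp (η.hom.app U).hom)
  naturality U V k := by
    refine ConcreteCategory.hom_ext _ _ fun s => ?_
    exact (pl_res η f k.unop.le s).trans (res_map E (i := i) (W := (Opens.map (Y.map f)).obj V.unop)
      (V := (Opens.map (Y.map f)).obj U.unop) (fun _ hx => k.unop.le hx) _).symm

/-- The map on stalks. -/
noncomputable def kap {i : B} (f : i ⟶ b) (x : Y.obj i) : CohTop.stalk G (Y.map f x) →+ St E x :=
  ((TopCat.Presheaf.stalkFunctor AddCommGrpCat.{max u v} (Y.map f x)).map (plNat η f) ≫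
    TopCat.Presheaf.stalkPushforward AddCommGrpCat.{max u v} (Y.map f) ((res Y i).obj E).obj x).hom

theorem kap_germ {i : B} (f : i ⟶ b) (x : Y.obj i) (U : Opens (Y.obj b)) (hU : Y.map f x ∈ U)
    (s : G.obj.obj (op U)) :
    kap η f x (TopCat.Presheaf.germ G.obj U (Y.map f x) hU s) =
      gm E x (show x ∈ (Opens.map (Y.map f)).obj U from hU) (pl η f U s) := by
  refine (congrArg (fun z => (TopCat.Presheaf.stalkPushforward AddCommGrpCat.{max u v} (Y.map f)
    ((res Y i).obj E).obj x).hom z)
      (TopCat.Presheaf.stalkFunctor_map_germ_apply U _ hU (plNat η f) s)).trans ?_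
  exact ConcreteCategory.congr_hom (TopCat.Presheaf.stalkPushforward_germ AddCommGrpCat.{max u v} (Y.map f)
    ((res Y i).obj E).obj U x hU) _

/-- All stalk maps are bijective. -/
def IsCart : Prop := ∀ (i : B) (f : i ⟶ b) (x : Y.obj i), Function.Bijective (kap η f x)

theorem kap_map {E' : TSh Y} (φ : E ⟶ E') {i : B} (f : i ⟶ b) (x : Y.obj i) (t : CohTop.stalk G (Y.map f x)) :
    stM φ x (kap η f x t) = kap (η ≫ (res Y b).map φ) f x t := by
  obtain ⟨U, hU, s, rfl⟩ := TopCat.Presheaf.exists_germ_eq G.obj t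
  rw [kap_germ, kap_germ, stM_gm]
  exact congrArg _ (ap_tr φ f le_rfl _)

variable {η}

theorem IsCart.isIso_of_fac (h : IsCart η) {E' : TSh Y} {η' : G ⟶ (res Y b).obj E'} (h' : IsCart η')
    (hb : ∀ i, Nonempty (i ⟶ b)) (φ : E ⟶ E') (hφ : η ≫ (res Y b).map φ = η') : IsIso φ := by
  refine isIso_of_stalks φ fun i x => ?_
  obtain ⟨f⟩ := hb i
  have e : ∀ t, stM φ x (kap η f x t) = kap η' f x t := fun t => by rw [← hφ]; exact kap_map η φ f x t
  refine ⟨fun a a' hab => ?_, fun t' => ?_⟩
  · obtain ⟨t, rfl⟩ := (h i f x).2 a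
    obtain ⟨t', rfl⟩ := (h i f x).2 a'
    rw [e, e] at hab
    rw [(h' i f x).1 hab]
  · obtain ⟨t, rfl⟩ := (h' i f x).2 t'
    exact ⟨kap η f x t, e t⟩

theorem germ_transport {X : TopCat.{max u v}} {M : CohTop.Ab X} {y x : X} (e : y = x) {U : Opens X}
    (hy : y ∈ U) (hx : x ∈ U) (s : M.obj.obj (op U)) (h : TopCat.Presheaf.germ M.obj U y hy s = 0) :
    TopCat.Presheaf.germ M.obj U x hx s = 0 := by
  subst e
  exact h

theorem IsCart.isIso (h : IsCart η) : IsIso η := by
  have hx : ∀ x : Y.obj b, Y.map (𝟙 b) x = x := fun x => by rw [Y.map_id]; rfl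
  have key : ∀ (x : Y.obj b) (U : Opens (Y.obj b)) (hU : x ∈ U) (hU' : Y.map (𝟙 b) x ∈ U) (s : G.obj.obj (op U)),
      ((TopCat.Presheaf.stalkFunctor AddCommGrpCat.{max u v} x).map η.hom).hom
          (TopCat.Presheaf.germ G.obj U x hU s) =
        kap η (𝟙 b) x (TopCat.Presheaf.germ G.obj U (Y.map (𝟙 b) x) hU' s) := fun x U hU hU' s => by
    refine (TopCat.Presheaf.stalkFunctor_map_germ_apply U x hU η.hom s).trans ?_
    refine Eq.trans ?_ (kap_germ η (𝟙 b) x U hU' s).symm
    exact (gm_res x (W := (Opens.map (Y.map (𝟙 b))).obj U) (fun y hy => by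
      have hy' : Y.map (𝟙 b) y ∈ U := hy
      rw [hx y] at hy'
      exact hy') hU' _).symm
  haveI : ∀ x : Y.obj b, IsIso ((TopCat.Presheaf.stalkFunctor AddCommGrpCat.{max u v} x).map η.1) := fun x => by
    rw [ConcreteCategory.isIso_iff_bijective]
    constructor
    · refine (injective_iff_map_eq_zero _).2 fun t ht => ?_
      obtain ⟨U, hU, s, rfl⟩ := TopCat.Presheaf.exists_germ_eq G.obj t
      have hU' : Y.map (𝟙 b) x ∈ U := by rw [hx x]; exact hU
      have h0 := (h b (𝟙 b) x).1 (((key x U hU hU' s).symm.trans ht).trans (map_zero _).symm)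
      exact germ_transport.{v, u} (hx x) hU' hU s h0
    · intro t
      obtain ⟨t', rfl⟩ := (h b (𝟙 b) x).2 t
      obtain ⟨U, hU', s, rfl⟩ := TopCat.Presheaf.exists_germ_eq G.obj t'
      exact ⟨TopCat.Presheaf.germ G.obj U x (by rw [← hx x]; exact hU') s, key x U _ hU' s⟩
  exact TopCat.Presheaf.isIso_of_stalkFunctor_map_iso η

section Extend

variable (L : CohTop.Ab (Y.obj b) ⥤ TSh Y) (adj : L ⊣ res Y b) (G : CohTop.Ab (Y.obj b))

theorem isCart_unit (hb : ∀ {i : B} (f g : i ⟶ b), f = g) : IsCart (adj.unit.app G) := by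
  intro i f x
  let pt : PUnit.{max u v + 1} → Σ j : B, Y.obj j := fun _ => ⟨i, x⟩
  constructor
  · refine (injective_iff_map_eq_zero _).2 fun t ht => ?_
    obtain ⟨U, hU, s, rfl⟩ := TopCat.Presheaf.exists_germ_eq G.obj t
    replace ht := (kap_germ (adj.unit.app G) f x U hU s).symm.trans ht
    let M : PUnit.{max u v + 1} → AddCommGrpCat.{max u v} := fun _ => CohTop.stalk G (Y.map f x)
    let g₀ : G ⟶ (res Y b).obj (god pt M) := ⟨
      { app := fun V => AddCommGrpCat.ofHom
          { toFun := fun r => show GodVal pt M b V.unop from fun _ q =>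
              TopCat.Presheaf.germ G.obj V.unop (Y.map f x) (by rw [hb f q.1]; exact q.2) r
            map_zero' := by funext p q; exact map_zero _
            map_add' := fun r r' => by funext p q; exact map_add _ _ _ }
        naturality := fun V W k => by
          refine ConcreteCategory.hom_ext _ _ fun r => ?_
          funext p q
          exact TopCat.Presheaf.germ_res_apply G.obj k.unop _ _ r }⟩
    let g := (adj.homEquiv G (god pt M)).symm g₀
    have hg : adj.unit.app G ≫ (res Y b).map g = g₀ :=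
      (adj.homEquiv_unit _ _ _).symm.trans (Equiv.apply_symm_apply _ _)
    obtain ⟨W, h₁, h₂, hxW, e⟩ := gm_eq (show x ∈ (Opens.map (Y.map f)).obj U from hU)
      (show x ∈ (Opens.map (Y.map f)).obj U from hU) _ 0 (ht.trans (map_zero _).symm)
    rw [map_zero] at e
    have e' : ap g i W (tr (L.obj G) (𝟙 i) (le_id h₁) (pl (adj.unit.app G) f U s)) = 0 :=
      (congrArg (ap g i W) e).trans (map_zero _)
    rw [ap_tr, ap_tr] at e'
    have e'' : (ap g b U (((adj.unit.app G).hom.app (op U)).hom s)) = (g₀.hom.app (op U)).hom s :=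
      congrArg (fun q : G ⟶ (res Y b).obj (god pt M) => (q.hom.app (op U)).hom s) hg
    rw [e'', tr_tr] at e'
    exact congrFun (congrFun e' PUnit.unit) ⟨𝟙 i, (le_id le_rfl : W ≤ (Opens.map (Y.map (𝟙 i))).obj W) hxW⟩
  · intro t
    let Q := QuotientAddGroup.mk' (kap (adj.unit.app G) f x).range
    let M : PUnit.{max u v + 1} → AddCommGrpCat.{max u v} := fun _ =>
      AddCommGrpCat.of (St (L.obj G) x ⧸ (kap (adj.unit.app G) f x).range)
    let Φ : L.obj G ⟶ god pt M := ⟨
      { app := fun X => AddCommGrpCat.ofHom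
          { toFun := fun r => show GodVal pt M X.unop.base (fib X.unop) from fun p q =>
              Q ((show GodVal id (stFam (L.obj G)) X.unop.base (fib X.unop) from
                ((toGod (L.obj G)).hom.app X).hom r) ⟨i, x⟩ q)
            map_zero' := by
              funext p q
              exact (congrArg Q (congrFun (congrFun (map_zero ((toGod (L.obj G)).hom.app X).hom) ⟨i, x⟩) q)).trans
                (map_zero Q)
            map_add' := fun r r' => by
              funext p q
              exact (congrArg Q (congrFun (congrFun (map_add ((toGod (L.obj G)).hom.app X).hom r r') ⟨i, x⟩) q)).trans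
                (map_add Q _ _) }
        naturality := fun X X' k => by
          refine ConcreteCategory.hom_ext _ _ fun r => ?_
          funext p q
          exact congrArg Q (congrFun (congrFun
            (ConcreteCategory.congr_hom ((toGod (L.obj G)).hom.naturality k) r) ⟨i, x⟩) q) }⟩
    have h0 : adj.homEquiv _ _ Φ = adj.homEquiv _ _ 0 := by
      rw [Adjunction.homEquiv_unit, Adjunction.homEquiv_unit, Functor.map_zero, comp_zero]
      refine Sheaf.hom_ext ?_
      refine NatTrans.ext (funext fun V => ConcreteCategory.hom_ext _ _ fun r => ?_)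
      funext p q
      have key : ∀ (φ : i ⟶ b) (hφ : Y.map φ x ∈ V.unop), f = φ →
          Q (gm (L.obj G) x (show x ∈ (Opens.map (Y.map φ)).obj V.unop from hφ)
            (pl (adj.unit.app G) φ V.unop r)) = 0 := by
        intro φ hφ e
        subst e
        exact (QuotientAddGroup.eq_zero_iff _).2 ⟨TopCat.Presheaf.germ G.obj V.unop (Y.map f x) hφ r,
          kap_germ _ f x V.unop hφ r⟩
      exact key q.1 q.2 (hb _ _)
    have hΦ : Φ = 0 := (adj.homEquiv _ _).injective h0
    obtain ⟨W, hxW, r, rfl⟩ := exists_gm t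
    have hmem : Y.map (𝟙 i) x ∈ W := (le_id le_rfl : W ≤ (Opens.map (Y.map (𝟙 i))).obj W) hxW
    have e : (show GodVal pt M i W from ap Φ i W r) PUnit.unit ⟨𝟙 i, hmem⟩ = 0 := by rw [hΦ]; rfl
    have hle : (Opens.map (Y.map (𝟙 i))).obj W ≤ W := by
      intro y hy
      have hy' : Y.map (𝟙 i) y ∈ W := hy
      rw [Y.map_id] at hy'
      exact hy'
    have hmem' : x ∈ (Opens.map (Y.map (𝟙 i))).obj W := hmem
    have e' : gm (L.obj G) x hxW r = gm (L.obj G) x hmem' (tr (L.obj G) (𝟙 i) le_rfl r) := by
      have h1 := gm_res (A := L.obj G) x hle hmem' r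
      exact h1.symm
    rw [e']
    exact (QuotientAddGroup.eq_zero_iff _).1 e

end Extend

end Groth.Agent.FibDesc74
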