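import Groth.Agent.FibDesc74.God
import Mathlib.AlgebraicTopology.AlternatingFaceMapComplex

/-!
# The complex of sections over the preimages of an open set of the base

For an augmented simplicial space `Y` and a sheaf `A` on its non-augmented part, the cosimplicial group
`n ↦ A(θₙ⁻¹ U)` and its alternating sum differential.
-/

set_option autoImplicit false

universe u

open CategoryTheory CategoryTheory.Limits Opposite TopologicalSpace Pseudofunctor.CoGrothendieck
open Simplicial AlgebraicTopology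

namespace Groth.Agent.FibDesc74

/-- The base category of augmented simplicial spaces. -/
abbrev Aug : Type := (WithInitial SimplexCategory)ᵒᵖ

/-- The augmentation point. -/
abbrev pnt : Aug := FibDesc.bot SimplexCategory

/-- The inclusion of the non-augmented part. -/
abbrev toAug : SimplexCategoryᵒᵖ ⥤ Aug := FibDesc.toAug SimplexCategory

theorem to_pnt_ext {i : Aug} (f g : i ⟶ pnt) : f = g :=
  Quiver.Hom.unop_inj (WithInitial.starInitial.hom_ext f.unop g.unop)

/-- The augmentation morphism. -/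
abbrev th (i : Aug) : i ⟶ pnt := (WithInitial.starInitial.to i.unop).op

variable {Y : Aug ⥤ TopCat.{u}}

variable (Y) in
/-- The non-augmented part. -/
noncomputable abbrev prt : SimplexCategoryᵒᵖ ⥤ TopCat.{u} := toAug ⋙ Y

/-- Sheaves on the part. -/
abbrev PSh (Y : Aug ⥤ TopCat.{u}) := TSh.{0, u} (prt Y)

/-- The preimage of an open set of the base. -/
noncomputable abbrev pre (U : Opens (Y.obj pnt)) (i : Aug) : Opens (Y.obj i) :=
  (Opens.map (Y.map (th i))).obj U

theorem mem_pre_map (U : Opens (Y.obj pnt)) {i j : Aug} (f : i ⟶ j) (x : Y.obj i) :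
    Y.map f x ∈ pre U j ↔ x ∈ pre U i := by
  show Y.map (th j) (Y.map f x) ∈ U ↔ Y.map (th i) x ∈ U
  rw [show th i = f ≫ th j from to_pnt_ext _ _, Y.map_comp]
  rfl

theorem pre_le (U : Opens (Y.obj pnt)) {i j : Aug} (f : i ⟶ j) :
    pre U i ≤ (Opens.map (Y.map f)).obj (pre U j) :=
  fun x hx => (mem_pre_map U f x).2 hx

theorem pre_mono {U V : Opens (Y.obj pnt)} (h : V ≤ U) (i : Aug) : pre V i ≤ pre U i := fun _ hx => h hx

variable (A : PSh Y) (U : Opens (Y.obj pnt))

/-- Sections over the preimage. -/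
noncomputable abbrev CS (i : SimplexCategoryᵒᵖ) : AddCommGrpCat.{u} :=
  sec.{0, u} (Y := prt Y) A i (pre U (toAug.obj i))

/-- The transition maps. -/
noncomputable abbrev ct {i j : SimplexCategoryᵒᵖ} (f : i ⟶ j) : CS A U j →+ CS A U i :=
  tr.{0, u} (Y := prt Y) A f (pre_le U (toAug.map f))

/-- The cosimplicial group. -/
noncomputable def CX : CosimplicialObject AddCommGrpCat.{u} where
  obj n := CS A U (op n)
  map f := AddCommGrpCat.ofHom (ct A U f.op)
  map_id n := by
    refine ConcreteCategory.hom_ext _ _ fun s => ?_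
    exact tr_self _ s
  map_comp f g := by
    refine ConcreteCategory.hom_ext _ _ fun s => ?_
    exact (tr_tr g.op f.op _ _ s).symm

/-- The cofaces. -/
noncomputable abbrev cf (n : ℕ) (k : Fin (n + 2)) : CS A U (op ⦋n⦌) →+ CS A U (op ⦋n + 1⦌) :=
  ct A U (SimplexCategory.δ k).op

/-- The differential. -/
noncomputable def dd (n : ℕ) : CS A U (op ⦋n⦌) →+ CS A U (op ⦋n + 1⦌) :=
  (AlternatingCofaceMapComplex.objD (CX A U) n).hom

theorem hom_sum_zsmul {ι : Type} (t : Finset ι) {P Q : AddCommGrpCat.{u}} (a : ι → ℤ) (f : ι → (P ⟶ Q)) (s : P) :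
    (∑ k ∈ t, a k • f k).hom s = ∑ k ∈ t, a k • (f k).hom s := by
  classical
  induction t using Finset.induction_on with
  | empty => simp
  | insert k t hk ih => rw [Finset.sum_insert hk, Finset.sum_insert hk, ← ih]; rfl

theorem dd_apply (n : ℕ) (s : CS A U (op ⦋n⦌)) :
    dd A U n s = ∑ k : Fin (n + 2), (-1 : ℤ) ^ (k : ℕ) • cf A U n k s :=
  hom_sum_zsmul Finset.univ _ _ s

theorem dd_dd (n : ℕ) (s : CS A U (op ⦋n⦌)) : dd A U (n + 1) (dd A U n s) = 0 :=
  ConcreteCategory.congr_hom (AlternatingCofaceMapComplex.d_squared (CX A U) n) s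

theorem dd_zero (s : CS A U (op ⦋0⦌)) : dd A U 0 s = cf A U 0 0 s - cf A U 0 1 s := by
  rw [dd_apply, Fin.sum_univ_two]
  simp [sub_eq_add_neg]

/-- Acyclicity in positive degrees. -/
def Acy : Prop := ∀ (n : ℕ) (s : CS A U (op ⦋n + 1⦌)), dd A U (n + 1) s = 0 → ∃ t, dd A U n t = s

theorem acy_of_contraction (h : ∀ n : ℕ, CS A U (op ⦋n + 1⦌) →+ CS A U (op ⦋n⦌))
    (h₀ : ∀ n s, h n (cf A U n 0 s) = s)
    (h₁ : ∀ n (k : Fin (n + 2)) s, h (n + 1) (cf A U (n + 1) k.succ s) = cf A U n k (h n s)) : Acy A U := by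
  intro n s hs
  refine ⟨h n s, ?_⟩
  have e := congrArg (h (n + 1)) hs
  rw [map_zero, dd_apply, map_sum, Fin.sum_univ_succ] at e
  simp only [map_zsmul, h₀, h₁, Fin.val_zero, pow_zero, one_smul, Fin.val_succ, pow_succ, mul_smul] at e
  rw [dd_apply]
  simp only [neg_smul, one_smul, smul_neg, Finset.sum_neg_distrib] at e
  exact (eq_of_sub_eq_zero ((sub_eq_add_neg _ _).trans e)).symm

variable {A U} {A' : PSh Y} (φ : A ⟶ A')

/-- A morphism on sections. -/
noncomputable abbrev cm (i : SimplexCategoryᵒᵖ) : CS A U i →+ CS A' U i :=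
  ap.{0, u} (Y := prt Y) φ i (pre U (toAug.obj i))

theorem cm_ct {i j : SimplexCategoryᵒᵖ} (f : i ⟶ j) (s : CS A U j) : cm φ i (ct A U f s) = ct A' U f (cm φ j s) :=
  ap_tr φ f _ s

theorem cm_dd (n : ℕ) (s : CS A U (op ⦋n⦌)) : cm φ _ (dd A U n s) = dd A' U n (cm φ _ s) := by
  rw [dd_apply, dd_apply, map_sum]
  refine Finset.sum_congr rfl fun k _ => ?_
  rw [map_zsmul, cm_ct]

theorem acy_of_retract (r : A' ⟶ A) (hr : φ ≫ r = 𝟙 A) (h : Acy A' U) : Acy A U := by
  intro n s hs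
  obtain ⟨t, ht⟩ := h n (cm φ _ s) (by rw [← cm_dd, hs, map_zero])
  refine ⟨cm r _ t, ?_⟩
  rw [← cm_dd, ht]
  exact congrArg (fun q : A ⟶ A => cm q _ s) hr

section God

variable {P : Type u} (pt : P → Σ j : SimplexCategoryᵒᵖ, (prt Y).obj j) (M : P → AddCommGrpCat.{u})

/-- Prepending the first vertex. -/
def ext0 {n : ℕ} {Z : SimplexCategory} (f : ⦋n⦌ ⟶ Z) : ⦋n + 1⦌ ⟶ Z :=
  SimplexCategory.Hom.mk ⟨Fin.cases (0 : Fin (Z.len + 1)) (fun k => f.toOrderHom k), by
    intro a b hab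
    induction a using Fin.cases with
    | zero => exact Fin.zero_le _
    | succ a =>
      induction b using Fin.cases with
      | zero => exact absurd hab (by simp)
      | succ b => exact f.toOrderHom.monotone (Fin.succ_le_succ_iff.1 hab)⟩

theorem δ_zero_ext0 {n : ℕ} {Z : SimplexCategory} (f : ⦋n⦌ ⟶ Z) : SimplexCategory.δ 0 ≫ ext0 f = f := by
  ext k
  simp [ext0, SimplexCategory.δ]

theorem δ_succ_ext0 {n : ℕ} {Z : SimplexCategory} (k : Fin (n + 2)) (f : ⦋n + 1⦌ ⟶ Z) :
    SimplexCategory.δ k.succ ≫ ext0 f = ext0 (SimplexCategory.δ k ≫ f) := by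
  ext a
  induction a using Fin.cases with
  | zero => simp [ext0, SimplexCategory.δ]
  | succ a => simp [ext0, SimplexCategory.δ, Fin.succ_succAbove_succ]

theorem mem_pre_iff_th {i : SimplexCategoryᵒᵖ} {p : P} (f : (pt p).1 ⟶ i) :
    (prt Y).map f (pt p).2 ∈ pre U (toAug.obj i) ↔ (pt p).2 ∈ pre U (toAug.obj (pt p).1) :=
  mem_pre_map U (toAug.map f) _

/-- The contraction. -/
noncomputable def godContr (U : Opens (Y.obj pnt)) (n : ℕ) :
    CS (god pt M) U (op ⦋n + 1⦌) →+ CS (god pt M) U (op ⦋n⦌) where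
  toFun f := show GodVal pt M (op ⦋n⦌) (pre U (toAug.obj (op ⦋n⦌))) from fun p q =>
    (show GodVal pt M (op ⦋n + 1⦌) (pre U (toAug.obj (op ⦋n + 1⦌))) from f) p
      ⟨(ext0 q.1.unop).op, (mem_pre_iff_th pt _).2 ((mem_pre_iff_th pt _).1 q.2)⟩
  map_zero' := rfl
  map_add' _ _ := rfl

theorem acy_god : Acy (god pt M) U := by
  refine acy_of_contraction _ _ (godContr pt M U) (fun n s => ?_) fun n k s => ?_
  · funext p ⟨φ, h⟩
    show (show GodVal pt M (op ⦋n⦌) (pre U (toAug.obj (op ⦋n⦌))) from s) p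
      ⟨(ext0 φ.unop).op ≫ (SimplexCategory.δ 0).op, _⟩ = _
    exact godVal_congr pt M _ (Quiver.Hom.unop_inj (δ_zero_ext0 φ.unop)) _ _
  · funext p ⟨φ, h⟩
    exact godVal_congr pt M (show GodVal pt M (op ⦋n + 1⦌) (pre U (toAug.obj (op ⦋n + 1⦌))) from s)
      (Quiver.Hom.unop_inj (δ_succ_ext0 k φ.unop)) _ _

end God

theorem acy_of_injective (I : PSh Y) [Injective I] (U : Opens (Y.obj pnt)) : Acy I U := by
  obtain ⟨r, hr⟩ := exists_retraction.{0, u} I
  exact acy_of_retract (toGod I) r hr (acy_god id (stFam I))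

end Groth.Agent.FibDesc74
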