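import Groth.Agent.FibDesc74.Split

/-!
# The unit of the inverse image adjunction through extension to the total site
-/

set_option autoImplicit false

universe u

open CategoryTheory CategoryTheory.Limits Opposite TopologicalSpace Pseudofunctor.CoGrothendieck
open Simplicial

namespace Groth.Agent.FibDesc74

variable (Y : Aug ⥤ TopCat.{u})

/-- Extension from the base to the augmented total site. -/
noncomputable def extA : CohTop.Ab (Y.obj pnt) ⥤ TSh.{0, u} Y :=
  FibSite.extend (FibDesc.topAug Y) (FibDesc.topAugTop Y) AddCommGrpCat.{u} pnt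

/-- Its adjunction. -/
noncomputable def extAdj : extA Y ⊣ res.{0, u} Y pnt :=
  (FibDesc.eps (FibDesc.topAug Y)).sheafAdjunctionContinuous AddCommGrpCat.{u} (FibDesc.topAugTop Y pnt)
    (FibDesc.totAug (FibDesc.topAug Y) (FibDesc.topAugTop Y))

/-- The inverse image is extension followed by restriction to the part. -/
noncomputable def pullAIso : extA Y ⋙ inclRes Y ≅ pullA Y := Iso.refl _

theorem adjA_unit_app (G : CohTop.Ab (Y.obj pnt)) :
    (adjA Y).unit.app G ≫ (pushA Y).map ((pullAIso Y).inv.app G) =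
      (extAdj Y).unit.app G ≫ (theta Y).app ((extA Y).obj G) := by
  refine Eq.trans ?_ (Adjunction.comp_unit_app (extAdj Y)
    ((FibDesc.incl (FibDesc.topAug Y)).sheafAdjunctionCocontinuous AddCommGrpCat.{u}
      (FibDesc.totPart (FibDesc.topAug Y) (FibDesc.topAugTop Y))
      (FibDesc.totAug (FibDesc.topAug Y) (FibDesc.topAugTop Y))) G)
  exact (congrArg ((adjA Y).unit.app G ≫ ·) ((pushA Y).map_id ((pullA Y).obj G))).trans (Category.comp_id _)

theorem isCart_extAdj (G : CohTop.Ab (Y.obj pnt)) :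
    IsCart.{0, u} ((extAdj Y).unit.app G) :=
  isCart_unit.{0, u} (extA Y) (extAdj Y) G fun f g => to_pnt_ext f g

variable {Y}

/-- If a cartesian sheaf has iso comparison, so does the unit. -/
theorem unit_of_cart (G : CohTop.Ab (Y.obj pnt)) {E : TSh.{0, u} Y} {η' : G ⟶ (res.{0, u} Y pnt).obj E}
    (hη : IsCart.{0, u} η') (hθ : IsIso ((theta Y).app E)) :
    IsIso ((adjA Y).unit.app G) ∧ Nonempty ((pullA Y).obj G ≅ (inclRes Y).obj E) := by
  let Φ : (extA Y).obj G ⟶ E := ((extAdj Y).homEquiv G E).symm η'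
  have hΦ : (extAdj Y).unit.app G ≫ (res.{0, u} Y pnt).map Φ = η' :=
    ((extAdj Y).homEquiv_unit G E Φ).symm.trans (Equiv.apply_symm_apply _ _)
  haveI hiso : IsIso Φ := (isCart_extAdj Y G).isIso_of_fac hη (fun i => ⟨th i⟩) Φ hΦ
  refine ⟨?_, ⟨((pullAIso Y).app G).symm ≪≫ (inclRes Y).mapIso (asIso Φ)⟩⟩
  have key : ((adjA Y).unit.app G ≫ (pushA Y).map ((pullAIso Y).inv.app G)) ≫
      (pushA Y).map ((inclRes Y).map Φ) = η' ≫ (theta Y).app E := by
    rw [adjA_unit_app, Category.assoc, ← hΦ, Category.assoc]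
    exact congrArg (fun q => (extAdj Y).unit.app G ≫ q) ((theta Y).naturality Φ).symm
  haveI := hη.isIso
  haveI : IsIso (η' ≫ (theta Y).app E) := inferInstance
  rw [← key] at this
  haveI : IsIso ((adjA Y).unit.app G ≫ (pushA Y).map ((pullAIso Y).inv.app G)) :=
    IsIso.of_isIso_comp_right _ ((pushA Y).map ((inclRes Y).map Φ))
  exact IsIso.of_isIso_comp_right _ ((pushA Y).map ((pullAIso Y).inv.app G))

end Groth.Agent.FibDesc74
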