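import Groth.Agent.FibDesc74.FullyFaithful
import Groth.Agent.FibDesc74.Acyclic
import Groth.Agent.FibDesc74.Extend
import Groth.Agent.FibDesc74.Pullback

/-!
# A criterion of cohomological descent for augmented simplicial spaces
-/

set_option autoImplicit false

universe u

open CategoryTheory CategoryTheory.Limits Opposite TopologicalSpace Pseudofunctor.CoGrothendieck

namespace Groth.Agent.FibDesc74

variable (Y : Aug ⥤ TopCat.{u})

instance additive_extA : (extA Y).Additive := (extAdj Y).left_adjoint_additive

instance preservesMonomorphisms_extA : (extA Y).PreservesMonomorphisms where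
  preserves {G G'} φ hφ := mono_of_stalks.{u} _ fun i x => by
    refine (injective_iff_map_eq_zero _).2 fun t ht => ?_
    obtain ⟨a, rfl⟩ := (isCart_extAdj Y G i (th i) x).2 t
    obtain ⟨U, hU, s, rfl⟩ := TopCat.Presheaf.exists_germ_eq G.obj a
    have key : stM.{0, u} ((extA Y).map φ) x
        (kap.{0, u} ((extAdj Y).unit.app G) (th i) x (TopCat.Presheaf.germ G.obj U _ hU s)) =
        kap.{0, u} ((extAdj Y).unit.app G') (th i) x
          (TopCat.Presheaf.germ G'.obj U _ hU ((φ.hom.app (op U)).hom s)) := by
      refine ((congrArg _ (kap_germ.{0, u} ((extAdj Y).unit.app G) (th i) x U hU s)).trans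
        (stM_gm.{0, u} _ _ _ _)).trans
        (Eq.trans ?_ (kap_germ.{0, u} ((extAdj Y).unit.app G') (th i) x U hU _).symm)
      refine congrArg _ ((ap_tr.{0, u} _ _ _ _).trans (congrArg _ ?_))
      exact (congrArg (fun q : G ⟶ (res.{0, u} Y pnt).obj ((extA Y).obj G') => (q.hom.app (op U)).hom s)
        ((extAdj Y).unit.naturality φ)).symm
    have h1 := (isCart_extAdj Y G' i (th i) x).1 ((key.symm.trans ht).trans (map_zero _).symm)
    have hinj : Function.Injective ((TopCat.Presheaf.stalkFunctor AddCommGrpCat.{u} (Y.map (th i) x)).map φ.hom) :=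
      TopCat.Presheaf.stalkFunctor_map_injective_of_app_injective (f := φ.hom) (fun V => by
        haveI := hφ
        exact SiteBase.sheaf_app_injective φ V) _
    have h0 : TopCat.Presheaf.germ G.obj U (Y.map (th i) x) hU s = 0 := by
      refine hinj (((TopCat.Presheaf.stalkFunctor_map_germ_apply U _ hU φ.hom s).trans h1).trans ?_)
      exact (map_zero ((TopCat.Presheaf.stalkFunctor AddCommGrpCat.{u} (Y.map (th i) x)).map φ.hom).hom).symm
    exact (congrArg _ h0).trans (map_zero _)

instance preservesFiniteColimits_extA : PreservesFiniteColimits (extA Y) :=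
  haveI : (extA Y).IsLeftAdjoint := (extAdj Y).isLeftAdjoint
  inferInstance

instance preservesFiniteLimits_extA : PreservesFiniteLimits (extA Y) :=
  (Functor.preservesFiniteLimits_iff_forall_exact_map_and_mono (extA Y)).2 fun S hS => by
    haveI := hS.mono_f
    exact ⟨((Functor.preservesFiniteColimits_iff_forall_exact_map_and_epi (extA Y)).1 inferInstance S hS).1,
      inferInstanceAs (Mono ((extA Y).map S.f))⟩

instance preservesFiniteLimits_pullA : PreservesFiniteLimits (pullA Y) :=
  inferInstanceAs (PreservesFiniteLimits (extA Y ⋙ inclRes Y))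

instance preservesFiniteColimits_pullA : PreservesFiniteColimits (pullA Y) :=
  haveI : (pullA Y).IsLeftAdjoint := (adjA Y).isLeftAdjoint
  inferInstance

instance additive_pullA : (pullA Y).Additive := (adjA Y).left_adjoint_additive

variable {Y}

/-- The criterion. -/
theorem isCohDescentTop_of
    (h : ∀ G : CohTop.Ab (Y.obj pnt), IsIso ((adjA Y).unit.app G) ∧
      ∀ q : ℕ, IsZero (((pushA Y).rightDerived (q + 1)).obj ((pullA Y).obj G))) :
    FibDesc.IsCohDescentTop Y :=
  ⟨isContinuous_eps Y, inferInstance, isContinuous_inclF Y, isCocontinuous_inclF Y, hasRan Y,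
    preservesFiniteLimits_pullA Y, bijective_map_of_unit (adjA Y) h⟩

end Groth.Agent.FibDesc74

namespace Groth.Agent.FibDesc74

variable (Y : Aug ⥤ TopCat.{u})

/-- Iso unit and acyclic inverse images. -/
def Desc : Prop :=
  ∀ G : CohTop.Ab (Y.obj pnt), IsIso ((adjA Y).unit.app G) ∧
    ∀ q : ℕ, IsZero (((pushA Y).rightDerived (q + 1)).obj ((pullA Y).obj G))

theorem desc_of_isCohDescentTop (h : FibDesc.IsCohDescentTop Y) : Desc Y := by
  obtain ⟨_, _, _, _, _, _, hb⟩ := h
  exact unit_of_bijective_map (adjA Y) hb

theorem desc_iff : Desc Y ↔ FibDesc.IsCohDescentTop Y := ⟨isCohDescentTop_of, desc_of_isCohDescentTop Y⟩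

end Groth.Agent.FibDesc74
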