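import Groth.Agent.SiteCmpC.Adj
import Groth.Agent.SiteCmpC.Bounded
import Groth.Agent.SiteCmpC.PushUnit

/-!
# Full faithfulness of exact left adjoints on bounded below derived categories
-/

set_option autoImplicit false

universe u

open CategoryTheory CategoryTheory.Limits DerivedCategory

attribute [local instance] HasDerivedCategory.standard

namespace Groth.Agent.FibDesc74

variable {A : Type (u + 1)} [Category.{u} A] [Abelian A] [IsGrothendieckAbelian.{u} A]
  {B : Type (u + 1)} [Category.{u} B] [Abelian B] [IsGrothendieckAbelian.{u} B]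
  {F : A ⥤ B} {G : B ⥤ A} (adj : F ⊣ G) [F.Additive] [G.Additive]
  [PreservesFiniteLimits F] [PreservesFiniteColimits F]

theorem bijective_comp_iso {C : Type*} [Category C] (X : C) {Y Z : C} (e : Y ≅ Z) :
    Function.Bijective (fun g : X ⟶ Y => g ≫ e.hom) :=
  Function.bijective_iff_has_inverse.2 ⟨fun g => g ≫ e.inv, fun g => by simp, fun g => by simp⟩

include adj in
theorem map_bijective (M' M : A) [IsIso (adj.unit.app M)] :
    Function.Bijective (fun g : M' ⟶ M => F.map g) := by
  have h : (fun g : M' ⟶ M => F.map g) =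
      fun g => (adj.homEquiv M' (F.obj M)).symm (g ≫ (asIso (adj.unit.app M)).hom) := by
    funext g
    refine ((adj.homEquiv M' (F.obj M)).injective ?_)
    rw [Equiv.apply_symm_apply, Adjunction.homEquiv_unit, asIso_hom]
    exact (adj.unit.naturality g).symm
  rw [h]
  exact (adj.homEquiv M' (F.obj M)).symm.bijective.comp
    (bijective_comp_iso M' (asIso (adj.unit.app M)))

include adj in
theorem single_map_bijective (M' M : A) [IsIso (adj.unit.app M)] :
    Function.Bijective (fun v : (singleFunctor A 0).obj M' ⟶ (singleFunctor A 0).obj M =>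
      F.mapDerivedCategory.map v) := by
  let e := F.mapDerivedCategorySingleFunctor 0
  have hS : Function.Bijective (fun a : M' ⟶ M => (singleFunctor A 0).map a) :=
    (Functor.FullyFaithful.ofFullyFaithful (singleFunctor A 0)).homEquiv.bijective
  have hT : Function.Bijective (fun b : F.obj M' ⟶ F.obj M => (singleFunctor B 0).map b) :=
    (Functor.FullyFaithful.ofFullyFaithful (singleFunctor B 0)).homEquiv.bijective
  refine (Function.Bijective.of_comp_iff _ hS).1 ?_
  have h : (fun v => F.mapDerivedCategory.map v) ∘ (fun a : M' ⟶ M => (singleFunctor A 0).map a) =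
      fun a => (Iso.homCongr (e.app M').symm (e.app M).symm) ((singleFunctor B 0).map (F.map a)) := by
    funext a
    simp only [Function.comp_apply, Iso.homCongr_apply, Iso.symm_inv, Iso.symm_hom, Iso.app_hom, Iso.app_inv]
    have := e.hom.naturality a
    dsimp at this
    rw [← reassoc_of% this, Iso.hom_inv_id_app]
    exact (Category.comp_id _).symm
  rw [h]
  exact (Iso.homCongr _ _).bijective.comp (hT.comp (map_bijective adj M' M))

omit [IsGrothendieckAbelian.{u} A] in
theorem hasRightDerived_qh (G : B ⥤ A) [G.Additive] :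
    (G.mapHomotopyCategory (ComplexShape.up ℤ) ⋙ Qh (C := A)).HasRightDerivedFunctor
      (HomotopyCategory.quasiIso B (ComplexShape.up ℤ)) := by
  have := TriCat.qh_isLeftAdjoint_of_exists_resolution (A := B) fun L => by
    obtain ⟨I, f, hI, hf, -, -⟩ := TriCat.exists_kInjective_resolution' L
    exact ⟨I, f, hI, hf⟩
  have := TriCat.isRightDerivedFunctor_of_adjunction (Adjunction.ofIsLeftAdjoint (Qh (C := B)))
    (HomotopyCategory.quasiIso B (ComplexShape.up ℤ)) (G.mapHomotopyCategory (ComplexShape.up ℤ) ⋙ Qh (C := A))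
  exact Functor.HasRightDerivedFunctor.mk' (W := HomotopyCategory.quasiIso B (ComplexShape.up ℤ))
    ((Qh (C := B)).rightAdjoint ⋙ G.mapHomotopyCategory (ComplexShape.up ℤ) ⋙ Qh (C := A))
    (Functor.whiskerRight (Adjunction.ofIsLeftAdjoint (Qh (C := B))).unit
    (G.mapHomotopyCategory (ComplexShape.up ℤ) ⋙ Qh (C := A)) :
      G.mapHomotopyCategory (ComplexShape.up ℤ) ⋙ Qh (C := A) ⟶
        Qh (C := B) ⋙ (Qh (C := B)).rightAdjoint ⋙ G.mapHomotopyCategory (ComplexShape.up ℤ) ⋙ Qh (C := A))

variable (M : A) [IsIso (adj.unit.app M)] (hM : ∀ q : ℕ, IsZero ((G.rightDerived (q + 1)).obj (F.obj M)))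
  {R : DerivedCategory B ⥤ DerivedCategory A} (adjD : F.mapDerivedCategory ⊣ R)

include adj in
theorem isIso_unit_single
    (hT : TStructure.t.IsGE (R.obj (F.mapDerivedCategory.obj ((singleFunctor A 0).obj M))) 0)
    (hT' : TStructure.t.IsLE (R.obj (F.mapDerivedCategory.obj ((singleFunctor A 0).obj M))) 0) :
    IsIso (adjD.unit.app ((singleFunctor A 0).obj M)) := by
  let X := (singleFunctor A 0).obj M
  let T := R.obj (F.mapDerivedCategory.obj X)
  haveI : DerivedCategory.IsGE T 0 := hT
  haveI : DerivedCategory.IsLE T 0 := hT'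
  obtain ⟨N, ⟨ψ⟩⟩ := DerivedCategory.exists_iso_singleFunctor_obj_of_isGE_of_isLE T 0
  obtain ⟨φ, hφ⟩ := (singleFunctor A 0).map_surjective (adjD.unit.app X ≫ ψ.hom)
  have hb : ∀ M' : A, Function.Bijective (fun a : M' ⟶ M => a ≫ φ) := fun M' => by
    have hS := fun Q : A =>
      (Functor.FullyFaithful.ofFullyFaithful (singleFunctor A 0)).homEquiv (X := M') (Y := Q) |>.bijective
    refine (Function.Bijective.of_comp_iff' (hS N) _).1 ?_
    have e : (fun a => (singleFunctor A 0).map a) ∘ (fun a : M' ⟶ M => a ≫ φ) =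
        fun a => (adjD.homEquiv _ _ (F.mapDerivedCategory.map ((singleFunctor A 0).map a))) ≫ ψ.hom := by
      funext a
      simp only [Function.comp_apply, Functor.map_comp, hφ, Adjunction.homEquiv_unit, Category.assoc]
      have := adjD.unit.naturality ((singleFunctor A 0).map a)
      dsimp at this
      exact (reassoc_of% this) ψ.hom
    show Function.Bijective ((fun a => (singleFunctor A 0).map a) ∘ (fun a : M' ⟶ M => a ≫ φ))
    rw [e]
    exact (bijective_comp_iso _ ψ).comp
      ((adjD.homEquiv _ _).bijective.comp ((single_map_bijective adj M' M).comp (hS M)))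
  haveI : IsIso φ := by
    obtain ⟨b, hb'⟩ := (hb N).2 (𝟙 N)
    refine ⟨b, (hb M).1 ?_, hb'⟩
    show (φ ≫ b) ≫ φ = 𝟙 M ≫ φ
    have hb'' : b ≫ φ = 𝟙 N := hb'
    rw [Category.assoc, hb'', Category.comp_id, Category.id_comp]
  haveI : IsIso (adjD.unit.app X ≫ ψ.hom) := by
    rw [← hφ]
    infer_instance
  exact IsIso.of_isIso_comp_right (adjD.unit.app X) ψ.hom

omit [IsIso (adj.unit.app M)]

include adj in
/-- An exact left adjoint whose unit is an isomorphism and whose values are acyclic for the right adjoint is fully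
faithful on bounded below objects. -/
theorem bijective_map_of_unit
    (h : ∀ M : A, IsIso (adj.unit.app M) ∧ ∀ q : ℕ, IsZero ((G.rightDerived (q + 1)).obj (F.obj M)))
    (K L : DerivedCategory.Plus A) :
    Function.Bijective fun g : K.obj ⟶ L.obj => F.mapDerivedCategory.map g := by
  haveI : (G.mapHomotopyCategory (ComplexShape.up ℤ) ⋙ Qh (C := A)).HasRightDerivedFunctor
      (HomotopyCategory.quasiIso B (ComplexShape.up ℤ)) := hasRightDerived_qh G
  obtain ⟨adjD⟩ := SiteCmpC.nonempty_adjunction adj
  have hs : ∀ M : A, IsIso (adjD.unit.app ((singleFunctor A 0).obj M)) := fun M => by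
    haveI := (h M).1
    let T := (SiteCmpC.RD G).obj ((singleFunctor B 0).obj (F.obj M))
    let i : T ≅ (SiteCmpC.RD G).obj (F.mapDerivedCategory.obj ((singleFunctor A 0).obj M)) :=
      (SiteCmpC.RD G).mapIso ((F.mapDerivedCategorySingleFunctor 0).app M).symm
    have hGE : DerivedCategory.IsGE T 0 := SiteCmpC.isGE_RD G _ 0
    have hLE : DerivedCategory.IsLE T 0 := by
      rw [DerivedCategory.isLE_iff]
      intro p hp
      obtain ⟨q, rfl⟩ : ∃ q : ℕ, p = ((q + 1 : ℕ) : ℤ) := ⟨(p - 1).toNat, by omega⟩
      obtain ⟨e⟩ := SiteCmpC.nonempty_homology_RD_single G (F.obj M) (q + 1)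
      exact ((h M).2 q).of_iso e
    exact isIso_unit_single adj M adjD
      (haveI : TStructure.t.IsGE T 0 := hGE; TStructure.t.isGE_of_iso i 0)
      (haveI : TStructure.t.IsLE T 0 := hLE; TStructure.t.isLE_of_iso i 0)
  obtain ⟨n, hn⟩ := L.property
  haveI : L.obj.IsGE n := hn
  haveI := SiteCmpC.isIso_unit_of_isGE adjD L.obj n fun i => hs _
  have e : (fun g : K.obj ⟶ L.obj => F.mapDerivedCategory.map g) =
      fun g => (adjD.homEquiv _ _).symm (g ≫ (asIso (adjD.unit.app L.obj)).hom) := by
    funext g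
    refine (adjD.homEquiv _ _).injective ?_
    rw [Equiv.apply_symm_apply, Adjunction.homEquiv_unit, asIso_hom]
    exact (adjD.unit.naturality g).symm
  rw [e]
  exact (adjD.homEquiv _ _).symm.bijective.comp
    (bijective_comp_iso K.obj (asIso (adjD.unit.app L.obj)))

end Groth.Agent.FibDesc74

namespace Groth.Agent.FibDesc74

variable {A : Type (u + 1)} [Category.{u} A] [Abelian A] [IsGrothendieckAbelian.{u} A]
  {B : Type (u + 1)} [Category.{u} B] [Abelian B] [IsGrothendieckAbelian.{u} B]
  {F : A ⥤ B} {G : B ⥤ A} (adj : F ⊣ G) [F.Additive] [G.Additive]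
  [PreservesFiniteLimits F] [PreservesFiniteColimits F]

include adj in
/-- Conversely, full faithfulness on bounded below objects gives the iso unit and acyclicity. -/
theorem unit_of_bijective_map
    (h : ∀ K L : DerivedCategory.Plus A,
      Function.Bijective fun g : K.obj ⟶ L.obj => F.mapDerivedCategory.map g) (M : A) :
    IsIso (adj.unit.app M) ∧ ∀ q : ℕ, IsZero ((G.rightDerived (q + 1)).obj (F.obj M)) := by
  let plus : ∀ (X : DerivedCategory A), X.IsGE 0 → DerivedCategory.Plus A := fun X hX => ⟨X, 0, hX⟩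
  have hmap : ∀ M' : A, Function.Bijective (fun g : M' ⟶ M => F.map g) := fun M' => by
    let e := F.mapDerivedCategorySingleFunctor 0
    have hS : Function.Bijective (fun a : M' ⟶ M => (singleFunctor A 0).map a) :=
      (Functor.FullyFaithful.ofFullyFaithful (singleFunctor A 0)).homEquiv.bijective
    have hT : Function.Bijective (fun b : F.obj M' ⟶ F.obj M => (singleFunctor B 0).map b) :=
      (Functor.FullyFaithful.ofFullyFaithful (singleFunctor B 0)).homEquiv.bijective
    refine (Function.Bijective.of_comp_iff' hT _).1 ?_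
    have he : (fun b : F.obj M' ⟶ F.obj M => (singleFunctor B 0).map b) ∘ (fun g : M' ⟶ M => F.map g) =
        fun a => (Iso.homCongr (e.app M') (e.app M)) (F.mapDerivedCategory.map ((singleFunctor A 0).map a)) := by
      funext a
      simp only [Function.comp_apply, Iso.homCongr_apply, Iso.app_hom, Iso.app_inv]
      have := e.hom.naturality a
      dsimp at this
      rw [this, Iso.inv_hom_id_app_assoc]
    rw [he]
    exact (Iso.homCongr _ _).bijective.comp
      ((h (plus ((singleFunctor A 0).obj M') inferInstance) (plus ((singleFunctor A 0).obj M) inferInstance)).comp hS)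
  have hu : ∀ M' : A, Function.Bijective (fun g : M' ⟶ M => g ≫ adj.unit.app M) := fun M' => by
    have e : (fun g : M' ⟶ M => g ≫ adj.unit.app M) =
        fun g => adj.homEquiv M' (F.obj M) (F.map g) := by
      funext g
      rw [Adjunction.homEquiv_unit]
      exact adj.unit.naturality g
    rw [e]
    exact (adj.homEquiv _ _).bijective.comp (hmap M')
  haveI hi : IsIso (adj.unit.app M) := by
    obtain ⟨b, hb⟩ := (hu (G.obj (F.obj M))).2 (𝟙 _)
    have hb' : b ≫ adj.unit.app M = 𝟙 _ := hb
    refine ⟨b, (hu M).1 ?_, hb'⟩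
    show (adj.unit.app M ≫ b) ≫ adj.unit.app M = 𝟙 M ≫ adj.unit.app M
    rw [Category.assoc, hb']
    exact (Category.comp_id _).trans (Category.id_comp _).symm
  refine ⟨hi, fun q => ?_⟩
  haveI : (G.mapHomotopyCategory (ComplexShape.up ℤ) ⋙ Qh (C := A)).HasRightDerivedFunctor
      (HomotopyCategory.quasiIso B (ComplexShape.up ℤ)) := hasRightDerived_qh G
  obtain ⟨adjD⟩ := SiteCmpC.nonempty_adjunction adj
  let X := (singleFunctor A 0).obj M
  let T := (SiteCmpC.RD G).obj (F.mapDerivedCategory.obj X)
  haveI : (F.mapDerivedCategory.obj X).IsGE 0 := SiteCmpC.isGE_map F X 0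
  have hT : T.IsGE 0 := SiteCmpC.isGE_RD G _ 0
  have hX : ∀ (K : DerivedCategory A), K.IsGE 0 →
      Function.Bijective (fun g : K ⟶ X => g ≫ adjD.unit.app X) := fun K hK => by
    have e : (fun g : K ⟶ X => g ≫ adjD.unit.app X) =
        fun g => adjD.homEquiv K (F.mapDerivedCategory.obj X) (F.mapDerivedCategory.map g) := by
      funext g
      rw [Adjunction.homEquiv_unit]
      exact adjD.unit.naturality g
    rw [e]
    exact (adjD.homEquiv _ _).bijective.comp (h (plus K hK) (plus X inferInstance))
  haveI : IsIso (adjD.unit.app X) := by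
    obtain ⟨b, hb⟩ := (hX T hT).2 (𝟙 _)
    have hb' : b ≫ adjD.unit.app X = 𝟙 _ := hb
    refine ⟨b, (hX X inferInstance).1 ?_, hb'⟩
    show (adjD.unit.app X ≫ b) ≫ adjD.unit.app X = 𝟙 X ≫ adjD.unit.app X
    rw [Category.assoc, hb']
    exact (Category.comp_id _).trans (Category.id_comp _).symm
  obtain ⟨e⟩ := SiteCmpC.nonempty_homology_RD_single G (F.obj M) (q + 1)
  let i : X ≅ (SiteCmpC.RD G).obj ((singleFunctor B 0).obj (F.obj M)) :=
    asIso (adjD.unit.app X) ≪≫ (SiteCmpC.RD G).mapIso ((F.mapDerivedCategorySingleFunctor 0).app M)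
  refine IsZero.of_iso ?_ (e.symm ≪≫ ((homologyFunctor A ((q + 1 : ℕ) : ℤ)).mapIso i).symm)
  exact X.isZero_of_isLE 0 _ (by omega)

end Groth.Agent.FibDesc74
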