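import Groth.Agent.FibDesc74.Base
import Groth.Agent.SiteBase.Top
import Mathlib.Topology.Sheaves.Flasque

/-!
# Products of skyscrapers on the total site of a diagram of spaces

For points `pt p` of the spaces and groups `M p`, the sheaf `god pt M` sends `⟨i, W⟩` to the families of
elements of `M p` indexed by the morphisms `φ` into `i` with image of `pt p` in `W`.
Every sheaf embeds into such a sheaf through its germs, so an injective sheaf is a retract of one.
-/

set_option autoImplicit false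

universe v u

open CategoryTheory CategoryTheory.Limits Opposite TopologicalSpace Pseudofunctor.CoGrothendieck

namespace Groth.Agent.FibDesc74

variable {B : Type} [Category.{v} B] {Y : B ⥤ TopCat.{max u v}}
  {P : Type max u v} (pt : P → Σ j : B, Y.obj j) (M : P → AddCommGrpCat.{max u v})

/-- The values. -/
abbrev GodVal (i : B) (W : Opens (Y.obj i)) : Type max u v :=
  ∀ p : P, {φ : (pt p).1 ⟶ i // Y.map φ (pt p).2 ∈ W} → M p

theorem mem_comp {X X' : Tot Y} (g : X' ⟶ X) {j : B} {x : Y.obj j} {φ : j ⟶ X'.base}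
    (h : Y.map φ x ∈ fib X') : Y.map (φ ≫ g.base) x ∈ fib X := by
  rw [Y.map_comp]
  exact hom_le g h

theorem godVal_congr {i : B} {W : Opens (Y.obj i)} (f : GodVal pt M i W) {p : P} {φ φ' : (pt p).1 ⟶ i}
    (e : φ = φ') (h : Y.map φ (pt p).2 ∈ W) (h' : Y.map φ' (pt p).2 ∈ W) : f p ⟨φ, h⟩ = f p ⟨φ', h'⟩ := by
  subst e
  rfl

/-- The presheaf. -/
noncomputable def godP : (Tot Y)ᵒᵖ ⥤ AddCommGrpCat.{max u v} where
  obj X := AddCommGrpCat.of (GodVal pt M X.unop.base (fib X.unop))
  map {X X'} g := AddCommGrpCat.ofHom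
    { toFun := fun f p q => f p ⟨q.1 ≫ g.unop.base, mem_comp g.unop q.2⟩
      map_zero' := rfl
      map_add' := fun _ _ => rfl }
  map_id X := by
    refine ConcreteCategory.hom_ext _ _ fun f => ?_
    funext p ⟨φ, h⟩
    exact godVal_congr pt M f (Category.comp_id φ) _ h
  map_comp {X X' X''} g g' := by
    refine ConcreteCategory.hom_ext _ _ fun f => ?_
    funext p ⟨φ, h⟩
    exact godVal_congr pt M f (Category.assoc φ g'.unop.base g.unop.base).symm _ _

theorem godP_map_apply {i i' : B} {W : Opens (Y.obj i)} {W' : Opens (Y.obj i')} (g : i' ⟶ i)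
    (hg : W' ≤ (Opens.map (Y.map g)).obj W) (f : (godP pt M).obj (op (mkO i W))) (p : P)
    (φ : (pt p).1 ⟶ i') (h : Y.map φ (pt p).2 ∈ W') :
    ((godP pt M).map (mkM g hg).op).hom f p ⟨φ, h⟩ = f p ⟨φ ≫ g, mem_comp (mkM g hg) h⟩ := rfl

theorem isSheaf_godP : Presheaf.IsSheaf (totT Y) (godP pt M) := by
  rw [FibSiteLib.isSheaf_totalTopology_iff (isPre Y)]
  intro i
  show TopCat.Presheaf.IsSheaf ((ι (topPs Y) i).op ⋙ godP pt M : TopCat.Presheaf AddCommGrpCat.{max u v} (Y.obj i))
  rw [TopCat.Presheaf.isSheaf_iff_isSheafUniqueGluing]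
  intro κ U sf hsf
  let sf' : ∀ k, GodVal pt M i (U k) := sf
  have hcompat : ∀ (k l : κ) (p : P) (φ : (pt p).1 ⟶ i) (hk : Y.map φ (pt p).2 ∈ U k) (hl : Y.map φ (pt p).2 ∈ U l),
      sf' k p ⟨φ, hk⟩ = sf' l p ⟨φ, hl⟩ := fun k l p φ hk hl => by
    have e := congrFun (congrFun (hsf k l) p) ⟨φ, hk, hl⟩
    exact ((godVal_congr pt M (sf' k) (Category.comp_id φ).symm hk _).trans e).trans
      (godVal_congr pt M (sf' l) (Category.comp_id φ) _ hl)
  refine ⟨fun p q => sf' (Opens.mem_iSup.1 q.2).choose p ⟨q.1, (Opens.mem_iSup.1 q.2).choose_spec⟩, fun k => ?_, ?_⟩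
  · funext p ⟨φ, h⟩
    have h' : Y.map φ (pt p).2 ∈ iSup U := Opens.mem_iSup.2 ⟨k, h⟩
    exact (godVal_congr pt M (fun p q => sf' (Opens.mem_iSup.1 q.2).choose p ⟨q.1,
        (Opens.mem_iSup.1 q.2).choose_spec⟩ : GodVal pt M i (iSup U)) (Category.comp_id φ) _ h').trans
      (hcompat _ k p φ _ h)
  · intro t ht
    funext p ⟨φ, h⟩
    have e := congrFun (congrFun (ht (Opens.mem_iSup.1 h).choose) p)
      ⟨φ, (Opens.mem_iSup.1 h).choose_spec⟩
    exact (godVal_congr pt M (show GodVal pt M i (iSup U) from t) (Category.comp_id φ).symm h _).trans e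

/-- The sheaf. -/
noncomputable def god : TSh Y := ⟨godP pt M, isSheaf_godP pt M⟩

/-- Sections of `god pt M`, as families. -/
theorem tr_god {i i' : B} {W : Opens (Y.obj i)} {W' : Opens (Y.obj i')} (g : i' ⟶ i)
    (hg : W' ≤ (Opens.map (Y.map g)).obj W) (f : sec (god pt M) i W) (p : P)
    (φ : (pt p).1 ⟶ i') (h : Y.map φ (pt p).2 ∈ W') :
    tr (god pt M) g hg f p ⟨φ, h⟩ = f p ⟨φ ≫ g, mem_comp (mkM g hg) h⟩ := rfl

theorem isFlasque_res_god (i : B) : TopCat.Sheaf.IsFlasque ((res Y i).obj (god pt M)) where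
  epi {U V} k := by
    classical
    refine (AddCommGrpCat.epi_iff_surjective _).2 fun f => ?_
    let f' : GodVal pt M i V.unop := f
    refine ⟨show GodVal pt M i U.unop from fun p q => if h : Y.map q.1 (pt p).2 ∈ V.unop then f' p ⟨q.1, h⟩ else 0, ?_⟩
    funext p ⟨φ, h⟩
    refine (dif_pos ((congrArg (fun q : (pt p).1 ⟶ i => Y.map q (pt p).2 ∈ V.unop) (Category.comp_id φ)).mpr h)).trans ?_
    exact godVal_congr pt M f' (Category.comp_id φ) _ h

variable (A : TSh Y)

/-- The family of stalks. -/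
noncomputable abbrev stFam : (Σ j : B, Y.obj j) → AddCommGrpCat.{max u v} := fun p => St A p.2

/-- The map through germs. -/
noncomputable def toGod : A ⟶ god id (stFam A) := ⟨
  { app := fun X => AddCommGrpCat.ofHom
      { toFun := fun s p q =>
          gm A p.2 (show p.2 ∈ (Opens.map (Y.map q.1)).obj (fib X.unop) from q.2) (tr A q.1 le_rfl s)
        map_zero' := by
          funext ⟨j, x⟩ ⟨φ, h⟩
          exact (congrArg _ (map_zero (tr A φ le_rfl))).trans (map_zero _)
        map_add' := fun s t => by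
          funext ⟨j, x⟩ ⟨φ, h⟩
          exact (congrArg _ (map_add (tr A φ le_rfl) s t)).trans (map_add _ _ _) }
    naturality := fun X X' g => by
      refine ConcreteCategory.hom_ext _ _ fun s => ?_
      funext ⟨j, x⟩ ⟨φ, h⟩
      show gm A x (show x ∈ (Opens.map (Y.map φ)).obj (fib X'.unop) from h)
          (tr A φ le_rfl (tr A g.unop.base (hom_le g.unop) s)) =
        gm A x (show x ∈ (Opens.map (Y.map (φ ≫ g.unop.base))).obj (fib X.unop) from mem_comp g.unop h)
          (tr A (φ ≫ g.unop.base) le_rfl s)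
      rw [tr_tr]
      have hle : (Opens.map (Y.map φ)).obj (fib X'.unop) ≤ (Opens.map (Y.map (φ ≫ g.unop.base))).obj (fib X.unop) :=
        fun y hy => mem_comp g.unop hy
      rw [← gm_res x hle, tr_tr]
      exact congrArg _ (tr_congr (Category.id_comp _).symm _ _ s) }⟩

theorem toGod_apply {i : B} {W : Opens (Y.obj i)} (s : sec A i W) (j : B) (x : Y.obj j) (φ : j ⟶ i)
    (h : Y.map φ x ∈ W) :
    ap (toGod A) i W s ⟨j, x⟩ ⟨φ, h⟩ =
      gm A x (show x ∈ (Opens.map (Y.map φ)).obj W from h) (tr A φ le_rfl s) := rfl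

theorem toGod_injective (i : B) (W : Opens (Y.obj i)) : Function.Injective (ap (toGod A) i W) := by
  intro s t e
  refine sec_ext s t fun x hx => ?_
  have h : Y.map (𝟙 i) x ∈ W := by
    rw [Y.map_id]
    exact hx
  have e' := congrFun (congrFun e ⟨i, x⟩) ⟨𝟙 i, h⟩
  rw [toGod_apply, toGod_apply] at e'
  have hle : (Opens.map (Y.map (𝟙 i))).obj W ≤ W := fun y hy => by
    have hy' : Y.map (𝟙 i) y ∈ W := hy
    rw [Y.map_id] at hy'
    exact hy'
  exact ((gm_res x hle h s).symm.trans e').trans (gm_res x hle h t)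

instance mono_toGod : Mono (toGod A) := by
  have : Mono ((sheafToPresheaf (totT Y) AddCommGrpCat.{max u v}).map (toGod A)) := by
    have h : ∀ X, Mono (((sheafToPresheaf (totT Y) AddCommGrpCat.{max u v}).map (toGod A)).app X) := fun X =>
      (AddCommGrpCat.mono_iff_injective _).2 (toGod_injective A X.unop.base (fib X.unop))
    exact NatTrans.mono_of_mono_app _
  exact Functor.mono_of_mono_map (sheafToPresheaf (totT Y) AddCommGrpCat.{max u v}) this

/-- An injective sheaf is a retract of a product of skyscrapers. -/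
theorem exists_retraction [Injective A] : ∃ r : god id (stFam A) ⟶ A, toGod A ≫ r = 𝟙 A :=
  ⟨Injective.factorThru (𝟙 A) (toGod A), Injective.comp_factorThru _ _⟩

theorem isFlasque_res_of_injective [Injective A] (i : B) : TopCat.Sheaf.IsFlasque ((res Y i).obj A) where
  epi {U V} k := by
    refine (AddCommGrpCat.epi_iff_surjective _).2 fun s => ?_
    obtain ⟨r, hr⟩ := exists_retraction A
    obtain ⟨t, ht⟩ := (AddCommGrpCat.epi_iff_surjective _).1 ((isFlasque_res_god id (stFam A) i).epi k)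
      (ap (toGod A) i V.unop s)
    refine ⟨ap r i U.unop t, ?_⟩
    refine (ConcreteCategory.congr_hom (((res Y i).map r).hom.naturality k) t).symm.trans ?_
    refine (congrArg (ap r i V.unop) ht).trans ?_
    exact congrArg (fun q : A ⟶ A => ap q i V.unop s) hr

end Groth.Agent.FibDesc74
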