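import Groth.Agent.FibDesc74.Cech

/-!
# The side conditions of cohomological descent for augmented simplicial spaces
-/

set_option autoImplicit false

universe u

open CategoryTheory CategoryTheory.Limits Opposite TopologicalSpace Pseudofunctor.CoGrothendieck

namespace Groth.Agent.FibDesc74

variable (Y : Aug ⥤ TopCat.{u})

/-- The inclusion of the part, as a functor. -/
noncomputable abbrev inclF : Tot.{0, u} (prt Y) ⥤ Tot.{0, u} Y := FibDesc.incl (FibDesc.topAug Y)

theorem inclF_map {X W : Tot.{0, u} (prt Y)} (f : X ⟶ W) : ((inclF Y).map f).base = toAug.map f.base := rfl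

/-- A fibre inclusion followed by the inclusion of the part. -/
noncomputable def ιInclIso (i : SimplexCategoryᵒᵖ) :
    ι (topPs.{0, u} (prt Y)) i ⋙ inclF Y ≅ ι (topPs.{0, u} Y) (toAug.obj i) :=
  NatIso.ofComponents (fun _ => Iso.refl _) fun {V W} k => by
    refine (Category.comp_id _).trans (Eq.trans ?_ (Category.id_comp _).symm)
    exact hext (Y := Y) _ _ rfl

instance isContinuous_inclF :
    (FibDesc.incl (FibDesc.topAug Y)).IsContinuous (FibDesc.totPart (FibDesc.topAug Y) (FibDesc.topAugTop Y))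
      (FibDesc.totAug (FibDesc.topAug Y) (FibDesc.topAugTop Y)) := by
  show (inclF Y).IsContinuous (totT.{0, u} (prt Y)) (totT.{0, u} Y)
  rw [FibSiteLib.isContinuous_total_iff (isPre.{0, u} (prt Y))]
  intro i
  haveI : (ι (topPs.{0, u} Y) (toAug.obj i)).IsContinuous (topJ.{0, u} (prt Y) i) (totT.{0, u} Y) :=
    FibSiteLib.isContinuous_ι (isPre.{0, u} Y) (toAug.obj i)
  exact Functor.isContinuous_of_iso (ιInclIso Y i).symm (topJ.{0, u} (prt Y) i) (totT.{0, u} Y)

instance isCocontinuous_inclF :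
    (FibDesc.incl (FibDesc.topAug Y)).IsCocontinuous (FibDesc.totPart (FibDesc.topAug Y) (FibDesc.topAugTop Y))
      (FibDesc.totAug (FibDesc.topAug Y) (FibDesc.topAugTop Y)) := by
  show (inclF Y).IsCocontinuous (totT.{0, u} (prt Y)) (totT.{0, u} Y)
  refine ⟨fun {X T} hT => ?_⟩
  obtain ⟨T', hT', hle⟩ := (FibSiteLib.mem_totalTopology_iff (isPre.{0, u} Y) _ T).1 hT
  refine (FibSiteLib.mem_totalTopology_iff (isPre.{0, u} (prt Y)) X _).2 ⟨T', hT', ?_⟩
  rintro Z _ ⟨W, g, k, hg, rfl⟩
  have e : (inclF Y).map (k ≫ (ι (topPs.{0, u} (prt Y)) X.base).map g) =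
      (inclF Y).map k ≫ (ι (topPs.{0, u} Y) (toAug.obj X.base)).map g :=
    hext (Y := Y) _ _ ((congrArg Hom.base ((inclF Y).map_comp k _)).trans rfl)
  show T.arrows _
  exact (congrArg (fun m => T.arrows m) e).mpr (T.downward_closed (hle _ (Sieve.image_mem_functorPushforward _ _ hg)) ((inclF Y).map k))

instance isContinuous_eps :
    (FibDesc.eps (FibDesc.topAug Y)).IsContinuous (FibDesc.topAugTop Y pnt)
      (FibDesc.totAug (FibDesc.topAug Y) (FibDesc.topAugTop Y)) :=
  FibSiteLib.isContinuous_ι (isPre.{0, u} Y) pnt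

instance hasRan (Q : (∫ᶜ (FibDesc.part (FibDesc.topAug Y)))ᵒᵖ ⥤ AddCommGrpCat.{u}) :
    (FibDesc.incl (FibDesc.topAug Y)).op.HasPointwiseRightKanExtension Q :=
  fun _ => inferInstanceAs (HasLimit _)

/-- The direct image of the augmentation. -/
noncomputable def pushA : PSh Y ⥤ CohTop.Ab (Y.obj pnt) :=
  FibDesc.push (FibDesc.topAug Y) (FibDesc.topAugTop Y) AddCommGrpCat.{u}

/-- The inverse image of the augmentation. -/
noncomputable def pullA : CohTop.Ab (Y.obj pnt) ⥤ PSh Y :=
  FibDesc.pull (FibDesc.topAug Y) (FibDesc.topAugTop Y) AddCommGrpCat.{u}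

/-- The adjunction. -/
noncomputable def adjA : pullA Y ⊣ pushA Y :=
  FibDesc.adj (FibDesc.topAug Y) (FibDesc.topAugTop Y) AddCommGrpCat.{u}

instance additive_pushA : (pushA Y).Additive := by
  haveI : Abelian (Sheaf (totT.{0, u} (prt Y)) AddCommGrpCat.{u}) := inferInstance
  haveI : Abelian (PSh Y) := inferInstance
  haveI : (pushA Y).IsRightAdjoint := (adjA Y).isRightAdjoint
  exact Functor.additive_of_preserves_binary_products (pushA Y)

end Groth.Agent.FibDesc74
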