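import Groth.Agent.FibDesc74.Inst

/-!
# Sections of the direct image of an augmented simplicial space

The sections over `U` of `θ_* A` are the sections `s` of `A₀` over `θ₀⁻¹ U` with equal restrictions along the
two cofaces.
-/

set_option autoImplicit false

universe u

open CategoryTheory CategoryTheory.Limits Opposite TopologicalSpace Pseudofunctor.CoGrothendieck
open Simplicial

namespace Groth.Agent.FibDesc74

variable {Y : Aug ⥤ TopCat.{u}} (A : PSh Y)

/-- The right Kan extension of `A`, as a sheaf on the total site. -/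
noncomputable abbrev ranS : TSh.{0, u} Y :=
  ((FibDesc.incl (FibDesc.topAug Y)).sheafPushforwardCocontinuous AddCommGrpCat.{u}
    (FibDesc.totPart (FibDesc.topAug Y) (FibDesc.topAugTop Y))
    (FibDesc.totAug (FibDesc.topAug Y) (FibDesc.topAugTop Y))).obj A

/-- The counit on sections. -/
noncomputable def cu (i : SimplexCategoryᵒᵖ) (W : Opens ((prt Y).obj i)) :
    sec.{0, u} (ranS A) (toAug.obj i) W →+ sec.{0, u} (Y := prt Y) A i W :=
  (((FibDesc.incl (FibDesc.topAug Y)).op.ranCounit.app A.obj).app (op (mkO.{0, u} (Y := prt Y) i W))).hom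

theorem cu_tr {i j : SimplexCategoryᵒᵖ} {W : Opens ((prt Y).obj i)} {V : Opens ((prt Y).obj j)} (f : i ⟶ j)
    (h : W ≤ (Opens.map ((prt Y).map f)).obj V) (s : sec.{0, u} (ranS A) (toAug.obj j) V) :
    cu A i W (tr.{0, u} (ranS A) (toAug.map f) h s) = tr.{0, u} (Y := prt Y) A f h (cu A j V s) := by
  have e := ConcreteCategory.congr_hom
    (((FibDesc.incl (FibDesc.topAug Y)).op.ranCounit.app A.obj).naturality (mkM.{0, u} (Y := prt Y) f h).op) s
  exact e

/-- The sections of `A₀` over the preimage with equal restrictions along the two cofaces. -/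
noncomputable def eqz (U : Opens (Y.obj pnt)) : AddSubgroup (CS A U (op ⦋0⦌)) where
  carrier := {s | cf A U 0 0 s = cf A U 0 1 s}
  add_mem' {a b} ha hb := by
    show cf A U 0 0 (a + b) = cf A U 0 1 (a + b)
    rw [map_add, map_add]
    exact congrArg₂ (· + ·) ha hb
  zero_mem' := (map_zero _).trans (map_zero _).symm
  neg_mem' {a} ha := by
    show cf A U 0 0 (-a) = cf A U 0 1 (-a)
    rw [map_neg, map_neg]
    exact congrArg Neg.neg ha

theorem mem_eqz {U : Opens (Y.obj pnt)} {s : CS A U (op ⦋0⦌)} : s ∈ eqz A U ↔ cf A U 0 0 s = cf A U 0 1 s :=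
  Iff.rfl

theorem dd_zero_eq_zero_iff {U : Opens (Y.obj pnt)} {s : CS A U (op ⦋0⦌)} : dd A U 0 s = 0 ↔ s ∈ eqz A U := by
  rw [dd_zero, sub_eq_zero]
  rfl

/-- A vertex of the `n`-simplex. -/
abbrev vtx {i : SimplexCategoryᵒᵖ} (k : Fin (i.unop.len + 1)) : i ⟶ op ⦋0⦌ :=
  (SimplexCategory.const ⦋0⦌ i.unop k).op

theorem eq_vtx {i : SimplexCategoryᵒᵖ} (a : i ⟶ op ⦋0⦌) : a = vtx (a.unop.toOrderHom 0) := by
  refine Quiver.Hom.unop_inj ?_
  show a.unop = SimplexCategory.const ⦋0⦌ i.unop (a.unop.toOrderHom 0)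
  ext k
  obtain rfl : k = 0 := Subsingleton.elim (α := Fin 1) k 0
  rfl

theorem tr_vertex_eq {U : Opens (Y.obj pnt)} {s : CS A U (op ⦋0⦌)} (hs : s ∈ eqz A U) {i : SimplexCategoryᵒᵖ}
    {W : Opens ((prt Y).obj i)} (a b : i ⟶ op ⦋0⦌)
    (ha : W ≤ (Opens.map ((prt Y).map a)).obj (pre U (toAug.obj (op ⦋0⦌))))
    (hb : W ≤ (Opens.map ((prt Y).map b)).obj (pre U (toAug.obj (op ⦋0⦌)))) :
    tr.{0, u} (Y := prt Y) A a ha s = tr.{0, u} (Y := prt Y) A b hb s := by
  have key : ∀ (a b : i ⟶ op ⦋0⦌) (ha : W ≤ (Opens.map ((prt Y).map a)).obj (pre U (toAug.obj (op ⦋0⦌))))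
      (hb : W ≤ (Opens.map ((prt Y).map b)).obj (pre U (toAug.obj (op ⦋0⦌)))),
      a.unop.toOrderHom 0 ≤ b.unop.toOrderHom 0 →
      tr.{0, u} (Y := prt Y) A a ha s = tr.{0, u} (Y := prt Y) A b hb s := by
    intro a b ha hb hab
    let e : i ⟶ op ⦋1⦌ :=
      (SimplexCategory.mkOfLe (n := i.unop.len) (a.unop.toOrderHom 0) (b.unop.toOrderHom 0) hab).op
    have h1 : e ≫ (SimplexCategory.δ (1 : Fin 2)).op = a := by
      refine Quiver.Hom.unop_inj ?_
      show SimplexCategory.δ (1 : Fin 2) ≫ e.unop = a.unop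
      ext k
      obtain rfl : k = 0 := Subsingleton.elim (α := Fin 1) k 0
      rfl
    have h0 : e ≫ (SimplexCategory.δ (0 : Fin 2)).op = b := by
      refine Quiver.Hom.unop_inj ?_
      show SimplexCategory.δ (0 : Fin 2) ≫ e.unop = b.unop
      ext k
      obtain rfl : k = 0 := Subsingleton.elim (α := Fin 1) k 0
      rfl
    have hW : W ≤ (Opens.map ((prt Y).map e)).obj (pre U (toAug.obj (op ⦋1⦌))) := fun x hx =>
      (mem_pre_map U (toAug.map e) x).2 ((mem_pre_map U (toAug.map a) x).1 (ha hx))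
    have q := congrArg (tr.{0, u} (Y := prt Y) A e hW) ((mem_eqz A).1 hs)
    rw [tr_tr, tr_tr] at q
    exact (tr_congr h1.symm _ _ s).trans (q.symm.trans (tr_congr h0 _ _ s))
  rcases le_total (a.unop.toOrderHom 0) (b.unop.toOrderHom 0) with h | h
  · exact key a b ha hb h
  · exact (key b a hb ha h).symm

/-- Restriction to the zeroth space. -/
noncomputable def νP (U : Opens (Y.obj pnt)) : ((pushA Y).obj A).obj.obj (op U) →+ CS A U (op ⦋0⦌) :=
  (cu A (op ⦋0⦌) (pre U (toAug.obj (op ⦋0⦌)))).comp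
    (tr.{0, u} (ranS A) (th (toAug.obj (op ⦋0⦌))) le_rfl)

theorem cu_to_pnt {U : Opens (Y.obj pnt)} {i : SimplexCategoryᵒᵖ} {W : Opens ((prt Y).obj i)}
    (a : i ⟶ op ⦋0⦌) (h : W ≤ (Opens.map ((prt Y).map a)).obj (pre U (toAug.obj (op ⦋0⦌))))
    (f : toAug.obj i ⟶ pnt) (hf : W ≤ (Opens.map (Y.map f)).obj U) (p : ((pushA Y).obj A).obj.obj (op U)) :
    cu A i W (tr.{0, u} (ranS A) f hf p) = tr.{0, u} (Y := prt Y) A a h (νP A U p) := by
  refine Eq.trans ?_ (cu_tr A a h _)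
  exact congrArg (cu A i W) ((tr_congr (to_pnt_ext _ _) _ _ p).trans
    (tr_tr (toAug.map a) (th (toAug.obj (op ⦋0⦌))) h le_rfl p).symm)

theorem νP_mem (U : Opens (Y.obj pnt)) (p : ((pushA Y).obj A).obj.obj (op U)) : νP A U p ∈ eqz A U :=
  ((cu_to_pnt A (SimplexCategory.δ (0 : Fin 2)).op _ (th (toAug.obj (op ⦋1⦌))) le_rfl p).symm.trans
    (cu_to_pnt A (SimplexCategory.δ (1 : Fin 2)).op _ (th (toAug.obj (op ⦋1⦌))) le_rfl p))

/-- The pointwise limit. -/
noncomputable def pushLim (U : Opens (Y.obj pnt)) :=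
  Functor.isPointwiseRightKanExtensionRanCounit (FibDesc.incl (FibDesc.topAug Y)).op A.obj
    (op (mkO.{0, u} (Y := Y) pnt U))

theorem vtx_le {U : Opens (Y.obj pnt)} {i : SimplexCategoryᵒᵖ} {W : Opens ((prt Y).obj i)}
    (f : toAug.obj i ⟶ pnt) (h : W ≤ (Opens.map (Y.map f)).obj U) :
    W ≤ (Opens.map ((prt Y).map (vtx (i := i) 0))).obj (pre U (toAug.obj (op ⦋0⦌))) := fun x hx => by
  refine (mem_pre_map U (toAug.map (vtx (i := i) 0)) x).2 ?_
  show Y.map (th _) x ∈ U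
  rw [to_pnt_ext (th _) f]
  exact h hx

theorem νP_injective (U : Opens (Y.obj pnt)) : Function.Injective (νP A U) := by
  intro p q e
  let g (r : ((pushA Y).obj A).obj.obj (op U)) :
      AddCommGrpCat.of (ULift.{u} ℤ) ⟶ ((pushA Y).obj A).obj.obj (op U) :=
    AddCommGrpCat.ofHom ((zmultiplesHom _ r).comp AddEquiv.ulift.toAddMonoidHom)
  have hg : g p = g q := (pushLim A U).hom_ext fun k => by
    refine ConcreteCategory.hom_ext _ _ fun m => ?_
    have key : ∀ r, cu A k.right.unop.base (fib.{0, u} (Y := prt Y) k.right.unop)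
        (tr.{0, u} (ranS A) k.hom.unop.base (hom_le.{0, u} (Y := Y) k.hom.unop) r) =
        tr.{0, u} (Y := prt Y) A (vtx 0) (vtx_le k.hom.unop.base (hom_le.{0, u} (Y := Y) k.hom.unop))
          (νP A U r) := fun r =>
      cu_to_pnt A (vtx 0) (vtx_le k.hom.unop.base (hom_le.{0, u} (Y := Y) k.hom.unop))
        k.hom.unop.base (hom_le.{0, u} (Y := Y) k.hom.unop) r
    refine (key (m.down • p)).trans (Eq.trans ?_ (key (m.down • q)).symm)
    refine congrArg _ ?_
    exact (map_zsmul (νP A U) m.down p).trans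
      ((congrArg (fun z => m.down • z) e).trans (map_zsmul (νP A U) m.down q).symm)
  have e' := ConcreteCategory.congr_hom hg (ULift.up 1)
  exact (one_zsmul p).symm.trans (e'.trans (one_zsmul q))

theorem exists_νP_eq (U : Opens (Y.obj pnt)) {s : CS A U (op ⦋0⦌)} (hs : s ∈ eqz A U) :
    ∃ p, νP A U p = s := by
  let c : Cone (StructuredArrow.proj (op (mkO.{0, u} (Y := Y) pnt U)) (FibDesc.incl (FibDesc.topAug Y)).op ⋙
      A.obj) :=
    { pt := AddCommGrpCat.of (eqz A U)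
      π :=
        { app := fun k => AddCommGrpCat.ofHom
            ((tr.{0, u} (Y := prt Y) A (vtx 0)
              (vtx_le k.hom.unop.base (hom_le.{0, u} (Y := Y) k.hom.unop))).comp (eqz A U).subtype)
          naturality := fun k k' φ => by
            refine ConcreteCategory.hom_ext _ _ fun t => ?_
            show tr.{0, u} (Y := prt Y) A (vtx 0) _ t.1 =
              tr.{0, u} (Y := prt Y) A φ.right.unop.base (hom_le.{0, u} (Y := prt Y) φ.right.unop)
                (tr.{0, u} (Y := prt Y) A (vtx 0) _ t.1)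
            rw [tr_tr]
            exact tr_vertex_eq A t.2 _ _ _ _ } }
  refine ⟨((pushLim A U).lift c).hom ⟨s, hs⟩, ?_⟩
  have e := ConcreteCategory.congr_hom ((pushLim A U).fac c (StructuredArrow.mk
    (Y := op (mkO.{0, u} (Y := prt Y) (op ⦋0⦌) (pre U (toAug.obj (op ⦋0⦌)))))
    (mkM.{0, u} (Y := Y) (i := toAug.obj (op ⦋0⦌)) (th (toAug.obj (op ⦋0⦌))) le_rfl).op)) ⟨s, hs⟩
  refine e.trans ?_
  show tr.{0, u} (Y := prt Y) A (vtx 0) _ s = s
  exact (tr_congr (eq_vtx (𝟙 (op ⦋0⦌))).symm _ (le_id le_rfl) s).trans (tr_self _ s)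

theorem νP_map {A' : PSh Y} (φ : A ⟶ A') (U : Opens (Y.obj pnt)) (p : ((pushA Y).obj A).obj.obj (op U)) :
    νP A' U ((((pushA Y).map φ).hom.app (op U)).hom p) = cm φ (op ⦋0⦌) (νP A U p) := by
  let q := tr.{0, u} (ranS A) (th (toAug.obj (op ⦋0⦌))) (le_rfl : pre U (toAug.obj (op ⦋0⦌)) ≤ _) p
  have h1 := ConcreteCategory.congr_hom (congrArg
    (fun η => η.app (op (mkO.{0, u} (Y := prt Y) (op ⦋0⦌) (pre U (toAug.obj (op ⦋0⦌))))))
    ((FibDesc.incl (FibDesc.topAug Y)).op.ranCounit.naturality φ.hom)) q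
  refine Eq.trans ?_ h1
  refine congrArg (cu A' _ _) ?_
  exact (ap_tr.{0, u} (((FibDesc.incl (FibDesc.topAug Y)).sheafPushforwardCocontinuous AddCommGrpCat.{u}
    (FibDesc.totPart (FibDesc.topAug Y) (FibDesc.topAugTop Y))
    (FibDesc.totAug (FibDesc.topAug Y) (FibDesc.topAugTop Y))).map φ) (th (toAug.obj (op ⦋0⦌))) le_rfl p).symm

theorem νP_res {U V : Opens (Y.obj pnt)} (h : V ≤ U) (p : ((pushA Y).obj A).obj.obj (op U)) :
    νP A V ((((pushA Y).obj A).obj.map (homOfLE h).op).hom p) =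
      tr.{0, u} (Y := prt Y) A (𝟙 (op ⦋0⦌)) (le_id (pre_mono h (toAug.obj (op ⦋0⦌)))) (νP A U p) := by
  refine Eq.trans ?_ (cu_tr A (𝟙 (op ⦋0⦌)) (le_id (pre_mono h _)) _)
  refine congrArg (cu A _ _) ?_
  refine (congrArg (tr.{0, u} (ranS A) (th (toAug.obj (op ⦋0⦌))) le_rfl)
    (res_map.{0, u} (ranS A) h p)).trans ?_
  refine (tr_tr _ _ _ _ p).trans (Eq.trans ?_ (tr_tr _ _ _ _ p).symm)
  exact tr_congr (to_pnt_ext _ _) _ _ p

/-- The transition from the base to the zeroth space, for the restriction of a sheaf on the total site. -/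
theorem νP_unit (E : TSh.{0, u} Y) (U : Opens (Y.obj pnt)) (e : sec.{0, u} E pnt U) :
    νP (((FibDesc.incl (FibDesc.topAug Y)).sheafPushforwardContinuous AddCommGrpCat.{u}
        (FibDesc.totPart (FibDesc.topAug Y) (FibDesc.topAugTop Y))
        (FibDesc.totAug (FibDesc.topAug Y) (FibDesc.topAugTop Y))).obj E) U
      (ap.{0, u} (((FibDesc.incl (FibDesc.topAug Y)).sheafAdjunctionCocontinuous AddCommGrpCat.{u}
        (FibDesc.totPart (FibDesc.topAug Y) (FibDesc.topAugTop Y))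
        (FibDesc.totAug (FibDesc.topAug Y) (FibDesc.topAugTop Y))).unit.app E) pnt U e) =
      tr.{0, u} E (th (toAug.obj (op ⦋0⦌))) le_rfl e := by
  let adj := (FibDesc.incl (FibDesc.topAug Y)).sheafAdjunctionCocontinuous AddCommGrpCat.{u}
    (FibDesc.totPart (FibDesc.topAug Y) (FibDesc.topAugTop Y))
    (FibDesc.totAug (FibDesc.topAug Y) (FibDesc.topAugTop Y))
  let A := ((FibDesc.incl (FibDesc.topAug Y)).sheafPushforwardContinuous AddCommGrpCat.{u}
    (FibDesc.totPart (FibDesc.topAug Y) (FibDesc.topAugTop Y))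
    (FibDesc.totAug (FibDesc.topAug Y) (FibDesc.topAugTop Y))).obj E
  let X₀ : (Tot.{0, u} (prt Y))ᵒᵖ := op (mkO.{0, u} (Y := prt Y) (op ⦋0⦌) (pre U (toAug.obj (op ⦋0⦌))))
  have hc : (adj.counit.app A).hom = (FibDesc.incl (FibDesc.topAug Y)).op.ranCounit.app A.obj := by
    rw [Functor.sheafAdjunctionCocontinuous_counit_app_hom, Functor.ranAdjunction_counit]
  have h2 := ConcreteCategory.congr_hom (congrArg (fun φ : A ⟶ A => φ.hom.app X₀)
    (adj.left_triangle_components E)) (tr.{0, u} E (th (toAug.obj (op ⦋0⦌))) le_rfl e)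
  refine Eq.trans ?_ h2
  refine Eq.trans ?_ (congrArg (fun η => (η.app X₀).hom (ap.{0, u} (adj.unit.app E) _ _
    (tr.{0, u} E (th (toAug.obj (op ⦋0⦌))) le_rfl e))) hc).symm
  exact congrArg (cu A _ _) (ap_tr.{0, u} (adj.unit.app E) (th (toAug.obj (op ⦋0⦌))) le_rfl e).symm

end Groth.Agent.FibDesc74
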