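import Groth.Agent.FibDesc74.Acyclic
import Groth.Agent.FibDesc74.Cart
import Groth.Agent.FibDesc74.Restr

/-!
# Augmented simplicial spaces with an extra degeneracy

If an augmented simplicial space extends to a diagram of spaces in which it has an extra degeneracy and the
augmentation point stays final, then the unit of the inverse image adjunction is an isomorphism and the higher
direct images of inverse images vanish.
-/

set_option autoImplicit false

universe u

open CategoryTheory CategoryTheory.Limits Opposite TopologicalSpace Pseudofunctor.CoGrothendieck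
open Simplicial

namespace Groth.Agent.FibDesc74

/-- The augmented cofaces of the index category. -/
abbrev dA (n : ℕ) (k : Fin (n + 2)) : toAug.obj (op ⦋n + 1⦌) ⟶ toAug.obj (op ⦋n⦌) :=
  toAug.map (SimplexCategory.δ k).op

/-- An extra degeneracy in a larger diagram with final augmentation point. -/
structure SplitData {B' : Type} [Category.{u} B'] (L : Aug ⥤ B') where
  uniq : ∀ {i : B'} (f g : i ⟶ L.obj pnt), f = g
  sec0 : L.obj pnt ⟶ L.obj (toAug.obj (op ⦋0⦌))
  deg : ∀ n : ℕ, L.obj (toAug.obj (op ⦋n⦌)) ⟶ L.obj (toAug.obj (op ⦋n + 1⦌))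
  deg_zero : ∀ n, deg n ≫ L.map (dA n 0) = 𝟙 _
  deg_succ : ∀ n (k : Fin (n + 2)), deg (n + 1) ≫ L.map (dA (n + 1) k.succ) = L.map (dA n k) ≫ deg n
  deg_one : deg 0 ≫ L.map (dA 0 1) = L.map (th (toAug.obj (op ⦋0⦌))) ≫ sec0

theorem epi_of_square {C : Type*} [Category C] {P Q P' Q' : C} (a : P ⟶ P') (b : Q ⟶ Q') (f : P ⟶ Q)
    (f' : P' ⟶ Q') (w : a ≫ f' = f ≫ b) (hb : IsIso b) (hf : Epi f) : Epi f' := by
  haveI : Epi (a ≫ f') := by
    rw [w]
    infer_instance
  exact epi_of_epi a f'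

variable (Y : Aug ⥤ TopCat.{u})

/-- Restriction from the augmented diagram to its part. -/
noncomputable def inclRes : TSh.{0, u} Y ⥤ PSh Y :=
  (FibDesc.incl (FibDesc.topAug Y)).sheafPushforwardContinuous AddCommGrpCat.{u}
    (FibDesc.totPart (FibDesc.topAug Y) (FibDesc.topAugTop Y))
    (FibDesc.totAug (FibDesc.topAug Y) (FibDesc.topAugTop Y))

/-- The canonical map from the base to the direct image. -/
noncomputable def theta : res.{0, u} Y pnt ⟶ inclRes Y ⋙ pushA Y :=
  Functor.whiskerRight ((FibDesc.incl (FibDesc.topAug Y)).sheafAdjunctionCocontinuous AddCommGrpCat.{u}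
    (FibDesc.totPart (FibDesc.topAug Y) (FibDesc.topAugTop Y))
    (FibDesc.totAug (FibDesc.topAug Y) (FibDesc.topAugTop Y))).unit (res.{0, u} Y pnt)

theorem νP_theta (E : TSh.{0, u} Y) (U : Opens (Y.obj pnt)) (e : sec.{0, u} E pnt U) :
    νP ((inclRes Y).obj E) U ((((theta Y).app E).hom.app (op U)).hom e) =
      tr.{0, u} E (th (toAug.obj (op ⦋0⦌))) le_rfl e :=
  νP_unit E U e

theorem theta_injective_iff (E : TSh.{0, u} Y) (U : Opens (Y.obj pnt)) :
    Function.Injective (((theta Y).app E).hom.app (op U)).hom ↔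
      Function.Injective fun e => tr.{0, u} E (th (toAug.obj (op ⦋0⦌)))
        (le_rfl : pre U (toAug.obj (op ⦋0⦌)) ≤ _) e := by
  refine ⟨fun h a b e => h (νP_injective _ U ?_), fun h a b e => h ?_⟩
  · exact (νP_theta Y E U a).trans (e.trans (νP_theta Y E U b).symm)
  · exact (νP_theta Y E U a).symm.trans ((congrArg _ e).trans (νP_theta Y E U b))

variable {B' : Type} [Category.{u} B'] {Y' : B' ⥤ TopCat.{u}} {L : Aug ⥤ B'} (d : SplitData L)

namespace SplitData

include d in
theorem pre_le_map (U : Opens (Y'.obj (L.obj pnt))) {i j : Aug} (g : L.obj i ⟶ L.obj j) :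
    pre (Y := L ⋙ Y') U i ≤ (Opens.map (Y'.map g)).obj (pre (Y := L ⋙ Y') U j) := fun x hx => by
  show Y'.map (L.map (th j)) (Y'.map g x) ∈ U
  have e : L.map (th i) = g ≫ L.map (th j) := d.uniq _ _
  have hx' : Y'.map (L.map (th i)) x ∈ U := hx
  rw [e, Y'.map_comp] at hx'
  exact hx'

include d in
theorem sec0_le (U : Opens (Y'.obj (L.obj pnt))) :
    U ≤ (Opens.map (Y'.map d.sec0)).obj (pre (Y := L ⋙ Y') U (toAug.obj (op ⦋0⦌))) := fun x hx => by
  show Y'.map (L.map (th _)) (Y'.map d.sec0 x) ∈ U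
  rw [← ConcreteCategory.comp_apply, ← Y'.map_comp,
    d.uniq (d.sec0 ≫ L.map (th (toAug.obj (op ⦋0⦌)))) (𝟙 _), Y'.map_id]
  exact hx

variable (J : TSh.{u, u} Y') (U : Opens ((L ⋙ Y').obj pnt))

/-- The restricted sheaf. -/
noncomputable abbrev rJ : PSh (L ⋙ Y') :=
  (inclRes (L ⋙ Y')).obj ((restrK.{u, u} L Y').obj J)

include d in
theorem acy : Acy (rJ J) U := by
  refine acy_of_contraction _ _ (fun n => tr.{u, u} J (d.deg n) (pre_le_map d U (d.deg n)))
    (fun n s => ?_) fun n k s => ?_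
  · refine (tr_tr (d.deg n) (L.map (dA n 0)) _ _ s).trans ?_
    exact (tr_congr (d.deg_zero n) _ (le_id le_rfl) s).trans (tr_self.{u, u} (A := J) (le_id le_rfl) s)
  · refine (tr_tr (d.deg (n + 1)) (L.map (dA (n + 1) k.succ)) _ _ s).trans ?_
    exact (tr_congr (d.deg_succ n k) _ _ s).trans (tr_tr (L.map (dA n k)) (d.deg n) _ _ s).symm

include d in
theorem bijective_theta :
    Function.Bijective (((theta (L ⋙ Y')).app ((restrK.{u, u} L Y').obj J)).hom.app (op U)).hom := by
  constructor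
  · rw [theta_injective_iff]
    intro a b e
    have e' := congrArg (tr.{u, u} J d.sec0 (d.sec0_le U)) e
    have key : ∀ c : sec.{u, u} J (L.obj pnt) U, tr.{u, u} J d.sec0 (d.sec0_le U)
        (tr.{u, u} J (L.map (th (toAug.obj (op ⦋0⦌)))) (le_rfl : pre (Y := L ⋙ Y') U _ ≤
          (Opens.map (Y'.map (L.map (th (toAug.obj (op ⦋0⦌)))))).obj U) c) = c := fun c => by
      rw [tr_tr]
      exact (tr_congr (d.uniq _ (𝟙 _)) _ (le_id le_rfl) c).trans (tr_self.{u, u} (A := J) (le_id le_rfl) c)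
    exact (key a).symm.trans (e'.trans (key b))
  · intro p
    let s : sec.{u, u} J (L.obj (toAug.obj (op ⦋0⦌))) (pre (Y := L ⋙ Y') U _) := νP (rJ J) U p
    let c : sec.{u, u} J (L.obj pnt) U := tr.{u, u} J d.sec0 (d.sec0_le U) s
    refine ⟨c, νP_injective (rJ J) U ?_⟩
    refine (νP_theta (L ⋙ Y') ((restrK.{u, u} L Y').obj J) U c).trans ?_
    show tr.{u, u} J (L.map (th (toAug.obj (op ⦋0⦌)))) _ (tr.{u, u} J d.sec0 (d.sec0_le U) s) = s
    have h := congrArg (tr.{u, u} J (d.deg 0) (pre_le_map d U (d.deg 0))) ((mem_eqz (rJ J)).1 (νP_mem (rJ J) U p))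
    have h0 : tr.{u, u} J (d.deg 0) (pre_le_map d U (d.deg 0))
        (cf (rJ J) U 0 0 s) = s :=
      (tr_tr (d.deg 0) (L.map (dA 0 0)) _ _ s).trans
        ((tr_congr (d.deg_zero 0) _ (le_id le_rfl) s).trans (tr_self.{u, u} (A := J) (le_id le_rfl) s))
    refine (tr_tr _ _ _ _ s).trans ?_
    refine Eq.trans ?_ (h.symm.trans h0)
    exact (tr_congr d.deg_one.symm _ _ s).trans (tr_tr (d.deg 0) (L.map (dA 0 1)) _ _ s).symm

include d in
theorem isIso_theta : IsIso ((theta (L ⋙ Y')).app ((restrK.{u, u} L Y').obj J)) := by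
  let t := (theta (L ⋙ Y')).app ((restrK.{u, u} L Y').obj J)
  have h : ∀ V, IsIso (t.hom.app V) := fun V =>
    (ConcreteCategory.isIso_iff_bijective _).2 (d.bijective_theta J V.unop)
  haveI : IsIso ((sheafToPresheaf _ _).map t) := @NatIso.isIso_of_isIso_app _ _ _ _ _ _ t.hom h
  exact isIso_of_reflects_iso t (sheafToPresheaf _ _)

end SplitData

section Incl

instance preservesFiniteLimits_inclRes : PreservesFiniteLimits (inclRes Y) := by
  have : PreservesFiniteLimits (inclRes Y ⋙ sheafToPresheaf _ AddCommGrpCat.{u}) :=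
    inferInstanceAs (PreservesFiniteLimits (sheafToPresheaf (totT.{0, u} Y) AddCommGrpCat.{u} ⋙
      (Functor.whiskeringLeft _ _ AddCommGrpCat.{u}).obj (inclF Y).op))
  refine ⟨fun J _ _ => ⟨fun {D} => ⟨fun {c} hc => ?_⟩⟩⟩
  exact ⟨isLimitOfReflects (sheafToPresheaf _ AddCommGrpCat.{u})
    (isLimitOfPreserves (inclRes Y ⋙ sheafToPresheaf _ AddCommGrpCat.{u}) hc)⟩

instance additive_inclRes : (inclRes Y).Additive := ⟨rfl⟩

instance preservesFiniteColimits_inclRes : PreservesFiniteColimits (inclRes Y) :=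
  haveI : (inclRes Y).IsLeftAdjoint :=
    ((FibDesc.incl (FibDesc.topAug Y)).sheafAdjunctionCocontinuous AddCommGrpCat.{u}
      (FibDesc.totPart (FibDesc.topAug Y) (FibDesc.topAugTop Y))
      (FibDesc.totAug (FibDesc.topAug Y) (FibDesc.topAugTop Y))).isLeftAdjoint
  inferInstance

end Incl

namespace SplitData

variable (L Y') in
/-- Restriction from the larger diagram to the part. -/
noncomputable def rF : TSh.{u, u} Y' ⥤ PSh (L ⋙ Y') := restrK.{u, u} L Y' ⋙ inclRes (L ⋙ Y')

instance additive_rF : (rF Y' L).Additive :=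
  inferInstanceAs (restrK.{u, u} L Y' ⋙ inclRes (L ⋙ Y')).Additive

instance preservesFiniteLimits_rF : PreservesFiniteLimits (rF Y' L) :=
  comp_preservesFiniteLimits _ _

instance preservesFiniteColimits_rF : PreservesFiniteColimits (rF Y' L) :=
  comp_preservesFiniteColimits _ _

theorem flasqueComp_rF (I : TSh.{u, u} Y') [Injective I] : FlasqueComp ((rF Y' L).obj I) := fun i =>
  ⟨fun {U V} k => by
    refine (AddCommGrpCat.epi_iff_surjective _).2 fun s => ?_
    obtain ⟨t, ht⟩ := (AddCommGrpCat.epi_iff_surjective _).1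
      ((isFlasque_restrK.{u, u} L Y' I (toAug.obj i)).epi k) s
    refine ⟨t, ?_⟩
    refine Eq.trans ?_ ht
    refine (res_map.{0, u} ((rF Y' L).obj I) k.unop.le t).trans ?_
    exact (res_map.{0, u} ((restrK.{u, u} L Y').obj I) k.unop.le t).symm⟩

include d in
theorem isZero_rd_rF (q : ℕ) (J : TSh.{u, u} Y') :
    IsZero (((pushA (L ⋙ Y')).rightDerived (q + 1)).obj ((rF Y' L).obj J)) := by
  haveI := preservesFiniteLimits_pushA (Y := L ⋙ Y')
  refine isZero_rd_comp (rF Y' L) (pushA (L ⋙ Y')) (fun I hI q => ?_) (fun {X Z} g hg => ?_) q J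
  · exact isZero_rpush_of_flasque (flasqueComp_rF I) (fun V => d.acy I V) q
  · haveI : Epi ((restrK.{u, u} L Y').map g) := (restrK.{u, u} L Y').map_epi g
    haveI : (res.{0, u} (L ⋙ Y') pnt).PreservesEpimorphisms :=
      preservesEpimorphisms_of_preservesColimitsOfShape _
    haveI : Epi ((res.{0, u} (L ⋙ Y') pnt).map ((restrK.{u, u} L Y').map g)) :=
      (res.{0, u} (L ⋙ Y') pnt).map_epi _
    exact epi_of_square ((theta (L ⋙ Y')).app ((restrK.{u, u} L Y').obj X))
      ((theta (L ⋙ Y')).app ((restrK.{u, u} L Y').obj Z))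
      ((res.{0, u} (L ⋙ Y') pnt).map ((restrK.{u, u} L Y').map g))
      ((pushA (L ⋙ Y')).map ((rF Y' L).map g))
      ((theta (L ⋙ Y')).naturality ((restrK.{u, u} L Y').map g)).symm (d.isIso_theta Z) inferInstance

end SplitData

end Groth.Agent.FibDesc74
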