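import Groth.Agent.FibDesc74.Extend

/-!
# Descent for augmented simplicial spaces with an extra degeneracy
-/

set_option autoImplicit false

universe u

open CategoryTheory CategoryTheory.Limits Opposite TopologicalSpace Pseudofunctor.CoGrothendieck
open Simplicial

namespace Groth.Agent.FibDesc74

variable {B : Type} [Category.{0} B] {B' : Type} [Category.{u} B'] (K : B ⥤ B') (Y' : B' ⥤ TopCat.{u})
  (J : TSh.{u, u} Y')

/-- Sections of the restriction, back in the fibre. -/
noncomputable def stRestr (i : B) (x : (K ⋙ Y').obj i) :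
    St.{0, u} ((restrK.{u, u} K Y').obj J) x →+ St.{u, u} (Y := Y') J (i := K.obj i) x :=
  ((TopCat.Presheaf.stalkFunctor AddCommGrpCat.{u} x).map ((resIso.{u, u} K Y' i).hom.app J).hom).hom

theorem stRestr_gm (i : B) (x : (K ⋙ Y').obj i) {W : Opens ((K ⋙ Y').obj i)} (hx : x ∈ W)
    (s : sec.{u, u} J (K.obj i) W) :
    stRestr K Y' J i x (gm.{0, u} ((restrK.{u, u} K Y').obj J) x hx s) = gm.{u, u} (Y := Y') J x hx s := by
  refine (TopCat.Presheaf.stalkFunctor_map_germ_apply W x hx ((resIso.{u, u} K Y' i).hom.app J).hom s).trans ?_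
  refine congrArg (gm.{u, u} (Y := Y') J x hx) ?_
  show (J.obj.map ((ιTotMapIso.{u, u} K Y' i).inv.app W).op).hom s = s
  exact ConcreteCategory.congr_hom (J.obj.map_id (op (mkO.{u, u} (Y := Y') (K.obj i) W))) s

theorem stRestr_bijective (i : B) (x : (K ⋙ Y').obj i) : Function.Bijective (stRestr K Y' J i x) :=
  (ConcreteCategory.isIso_iff_bijective _).1 (((TopCat.Presheaf.stalkFunctor AddCommGrpCat.{u} x).mapIso
    ((sheafToPresheaf _ _).mapIso ((resIso.{u, u} K Y' i).app J))).isIso_hom)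

variable {L : Aug ⥤ B'} (d : SplitData L) {Y'}

include d in
theorem split_descent (G : CohTop.Ab ((L ⋙ Y').obj pnt)) :
    IsIso ((adjA (L ⋙ Y')).unit.app G) ∧
      ∀ q, IsZero (((pushA (L ⋙ Y')).rightDerived (q + 1)).obj ((pullA (L ⋙ Y')).obj G)) := by
  haveI : ((ι (topPs.{u, u} Y') (L.obj pnt)).sheafPushforwardContinuous AddCommGrpCat.{u}
      (topJ.{u, u} Y' (L.obj pnt)) (totT.{u, u} Y')).IsRightAdjoint := inferInstance
  let adj' := (ι (topPs.{u, u} Y') (L.obj pnt)).sheafAdjunctionContinuous AddCommGrpCat.{u}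
    (topJ.{u, u} Y' (L.obj pnt)) (totT.{u, u} Y')
  let J := ((ι (topPs.{u, u} Y') (L.obj pnt)).sheafPullback AddCommGrpCat.{u}
    (topJ.{u, u} Y' (L.obj pnt)) (totT.{u, u} Y')).obj G
  let η' : G ⟶ (res.{0, u} (L ⋙ Y') pnt).obj ((restrK.{u, u} L Y').obj J) :=
    adj'.unit.app G ≫ (resIso.{u, u} L Y' pnt).inv.app J
  have hcart : IsCart.{u, u} (Y := Y') (adj'.unit.app G) :=
    isCart_unit.{u, u} _ adj' G fun f g => d.uniq f g
  have hη : IsCart.{0, u} η' := fun i f x => by
    have e : ∀ t, stRestr L Y' J i x (kap.{0, u} η' f x t) =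
        kap.{u, u} (Y := Y') (adj'.unit.app G) (L.map f) x t := fun t => by
      obtain ⟨U, hU, s, rfl⟩ := TopCat.Presheaf.exists_germ_eq G.obj t
      refine (congrArg (stRestr L Y' J i x) (kap_germ.{0, u} η' f x U hU s)).trans ?_
      refine (stRestr_gm L Y' J i x _ _).trans ?_
      refine Eq.trans ?_ (kap_germ.{u, u} (Y := Y') (adj'.unit.app G) (L.map f) x U hU s).symm
      refine congrArg (gm.{u, u} (Y := Y') J x _) ?_
      show tr.{u, u} J (L.map f) _ ((J.obj.map ((ιTotMapIso.{u, u} L Y' pnt).hom.app U).op).hom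
        (((adj'.unit.app G).hom.app (op U)).hom s)) = _
      exact congrArg (tr.{u, u} J (L.map f) _)
        (ConcreteCategory.congr_hom (J.obj.map_id (op (mkO.{u, u} (Y := Y') (L.obj pnt) U))) _)
    have hb := hcart (L.obj i) (L.map f) x
    refine ⟨fun a a' h => hb.1 ((e a).symm.trans ((congrArg _ h).trans (e a'))), fun t => ?_⟩
    obtain ⟨a, ha⟩ := hb.2 (stRestr L Y' J i x t)
    exact ⟨a, (stRestr_bijective L Y' J i x).1 ((e a).trans ha)⟩
  obtain ⟨h1, ⟨e⟩⟩ := unit_of_cart G hη (d.isIso_theta J)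
  refine ⟨h1, fun q => ?_⟩
  exact (d.isZero_rd_rF q J).of_iso (((pushA (L ⋙ Y')).rightDerived (q + 1)).mapIso e)

end Groth.Agent.FibDesc74
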