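import Groth.Agent.FibDesc74.Extend
import Groth.Agent.FibDesc74.Transfer

/-!
# The unit for an augmentation by a quotient map
-/

set_option autoImplicit false

universe u

open CategoryTheory CategoryTheory.Limits Opposite TopologicalSpace Pseudofunctor.CoGrothendieck
open Simplicial Topology

namespace Groth.Agent.FibDesc74

variable {Y : Aug ⥤ TopCat.{u}} {G : CohTop.Ab (Y.obj pnt)} {E : TSh.{0, u} Y}
  {η : G ⟶ (res.{0, u} Y pnt).obj E} (hη : IsCart.{0, u} η)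

include hη

theorem IsCart.gm_zero_of_tr {i j : Aug} (f : i ⟶ j) (w : Y.obj i) {W : Opens (Y.obj j)} (r : sec.{0, u} E j W)
    (hw : Y.map f w ∈ W)
    (h : gm.{0, u} E w (show w ∈ (Opens.map (Y.map f)).obj W from hw) (tr.{0, u} E f le_rfl r) = 0) :
    gm.{0, u} E (Y.map f w) hw r = 0 := by
  obtain ⟨a, ha⟩ := (hη j (th j) (Y.map f w)).2 (gm.{0, u} E (Y.map f w) hw r)
  obtain ⟨U, hU, s, rfl⟩ := TopCat.Presheaf.exists_germ_eq G.obj a
  rw [kap_germ.{0, u}] at ha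
  obtain ⟨V, h₁, h₂, hV, e⟩ := gm_eq.{0, u} _ hw _ _ ha
  have e' := congrArg (fun z => gm.{0, u} E w (show w ∈ (Opens.map (Y.map f)).obj V from hV)
    (tr.{0, u} E f le_rfl z)) e
  have hzero : gm.{0, u} E w (show w ∈ (Opens.map (Y.map f)).obj V from hV)
      (tr.{0, u} E f le_rfl (tr.{0, u} E (𝟙 j) (le_id.{0, u} h₂) r)) = 0 := by
    refine Eq.trans ?_ h
    refine Eq.trans ?_ (gm_res.{0, u} (A := E) w (W := (Opens.map (Y.map f)).obj V)
      (V := (Opens.map (Y.map f)).obj W) (fun z hz => h₂ hz) hV _)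
    rw [tr_tr, tr_tr]
    exact congrArg _ (tr_congr.{0, u} ((Category.comp_id f).trans (Category.id_comp f).symm) _ _ r)
  have hth : Y.map (th j) (Y.map f w) = Y.map (th i) w := by
    rw [← ConcreteCategory.comp_apply, ← Y.map_comp, to_pnt_ext (f ≫ th j) (th i)]
  have hU' : Y.map (th i) w ∈ U := hth ▸ hU
  have hkap : kap.{0, u} η (th i) w (TopCat.Presheaf.germ G.obj U (Y.map (th i) w) hU' s) = 0 := by
    rw [kap_germ.{0, u}]
    refine Eq.trans ?_ (e'.trans hzero)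
    refine Eq.trans (gm_res.{0, u} (A := E) w (W := (Opens.map (Y.map f)).obj V)
      (V := (Opens.map (Y.map (th i))).obj U) (fun z hz => ?_) hV _).symm ?_
    · show Y.map (th i) z ∈ U
      rw [← to_pnt_ext (f ≫ th j) (th i), Y.map_comp]
      exact h₁ hz
    · beta_reduce
      rw [tr_tr, tr_tr, tr_tr]
      refine congrArg _ ?_
      exact tr_congr.{0, u} (to_pnt_ext _ _) _ _ _
  have hs := (hη i (th i) w).1 (hkap.trans (map_zero _).symm)
  have hs' := germ_transport.{0, u} hth.symm hU' hU s hs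
  rw [← ha, ← kap_germ.{0, u} η (th j) (Y.map f w) U hU s, hs', map_zero]

omit hη in
theorem νP_comp (U : Opens (Y.obj pnt)) (s : G.obj.obj (op U)) :
    νP ((inclRes Y).obj E) U (((η ≫ (theta Y).app E).hom.app (op U)).hom s) =
      pl.{0, u} η (th (toAug.obj (op ⦋0⦌))) U s :=
  νP_theta Y E U ((η.hom.app (op U)).hom s)

theorem mono_comp_theta (hsurj : Function.Surjective (Y.map (th (toAug.obj (op ⦋0⦌))))) :
    Mono (η ≫ (theta Y).app E) := by
  have h : ∀ V, Mono ((η ≫ (theta Y).app E).hom.app V) := fun V => by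
    refine (AddCommGrpCat.mono_iff_injective _).2 ((injective_iff_map_eq_zero ((η ≫ (theta Y).app E).hom.app V).hom).2 fun s hs => ?_)
    refine TopCat.Presheaf.section_ext G V.unop s 0 fun y hy => ?_
    obtain ⟨x, rfl⟩ := hsurj y
    rw [map_zero]
    have e := congrArg (νP ((inclRes Y).obj E) V.unop) hs
    have e' : pl.{0, u} η (th (toAug.obj (op ⦋0⦌))) V.unop s = 0 :=
      (νP_comp V.unop s).symm.trans (e.trans (map_zero _))
    refine (hη _ (th (toAug.obj (op ⦋0⦌))) x).1 (((kap_germ.{0, u} η _ x V.unop hy s).trans ?_).trans (map_zero _).symm)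
    rw [e', map_zero]
  exact (sheafToPresheaf (Opens.grothendieckTopology (Y.obj pnt)) AddCommGrpCat.{u}).mono_of_mono_map
    (@NatTrans.mono_of_mono_app _ _ _ _ _ _ (η ≫ (theta Y).app E).hom h)

theorem epi_comp_theta (hq : IsQuotientMap (Y.map (th (toAug.obj (op ⦋0⦌)))))
    (hpair : ∀ x x' : Y.obj (toAug.obj (op ⦋0⦌)), Y.map (th _) x = Y.map (th _) x' →
      ∃ w : Y.obj (toAug.obj (op ⦋1⦌)), Y.map (toAug.map (SimplexCategory.δ (1 : Fin 2)).op) w = x ∧
        Y.map (toAug.map (SimplexCategory.δ (0 : Fin 2)).op) w = x') :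
    Epi (η ≫ (theta Y).app E) := by
  refine epi_of_local _ fun U p y hy => ?_
  let X₀ := toAug.obj (op ⦋0⦌)
  let A := (inclRes Y).obj E
  let t : sec.{0, u} E X₀ (pre U X₀) := νP A U p
  obtain ⟨x, hx⟩ := hq.surjective y
  have hxU : x ∈ pre U X₀ := by
    show Y.map (th X₀) x ∈ U
    rw [hx]
    exact hy
  obtain ⟨a, ha⟩ := (hη X₀ (th X₀) x).2 (gm.{0, u} E x hxU t)
  obtain ⟨U₁, hU₁, s, rfl⟩ := TopCat.Presheaf.exists_germ_eq G.obj a
  rw [kap_germ.{0, u}] at ha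
  let U₂ := U₁ ⊓ U
  let d : sec.{0, u} E X₀ (pre U₂ X₀) :=
    tr.{0, u} E (𝟙 X₀) (le_id.{0, u} (pre_mono inf_le_left X₀)) (pl.{0, u} η (th X₀) U₁ s) -
      tr.{0, u} E (𝟙 X₀) (le_id.{0, u} (pre_mono inf_le_right X₀)) t
  have hd : d ∈ eqz A U₂ := by
    have h1 : νP A U₁ (((η ≫ (theta Y).app E).hom.app (op U₁)).hom s) = pl.{0, u} η (th X₀) U₁ s :=
      νP_comp U₁ s
    refine AddSubgroup.sub_mem _ ?_ ?_
    · rw [← h1]
      exact cr_mem_eqz A inf_le_left (νP_mem A U₁ _)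
    · exact cr_mem_eqz A inf_le_right (νP_mem A U p)
  have hsat : ∀ z z' (hz : z ∈ pre U₂ X₀) (hz' : z' ∈ pre U₂ X₀), Y.map (th X₀) z = Y.map (th X₀) z' →
      gm.{0, u} E z hz d = 0 → gm.{0, u} E z' hz' d = 0 := by
    intro z z' hz hz' e h0
    obtain ⟨w, rfl, rfl⟩ := hpair z z' e
    refine hη.gm_zero_of_tr _ w d hz' ?_
    have h1 : (Opens.map (Y.map (toAug.map (SimplexCategory.δ (1 : Fin 2)).op))).obj (pre U₂ X₀) =
        pre U₂ (toAug.obj (op ⦋1⦌)) := Opens.ext (Set.ext fun b => mem_pre_map U₂ _ b)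
    have h0' : (Opens.map (Y.map (toAug.map (SimplexCategory.δ (0 : Fin 2)).op))).obj (pre U₂ X₀) =
        pre U₂ (toAug.obj (op ⦋1⦌)) := Opens.ext (Set.ext fun b => mem_pre_map U₂ _ b)
    have hw : w ∈ pre U₂ (toAug.obj (op ⦋1⦌)) := (mem_pre_map U₂ _ w).1 hz'
    have q : gm.{0, u} E w hw (cf A U₂ 0 1 d) = 0 := by
      obtain ⟨V, h₁, h₂, hV, e'⟩ := gm_eq.{0, u} hz hz d 0 (h0.trans (map_zero _).symm)
      rw [map_zero] at e'
      let V' := (Opens.map (Y.map (toAug.map (SimplexCategory.δ (1 : Fin 2)).op))).obj V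
      have hle : V' ≤ pre U₂ (toAug.obj (op ⦋1⦌)) := fun b hb => h1.le (h₁ hb)
      refine (gm_res.{0, u} (A := E) w (W := V') hle hV _).symm.trans ?_
      refine Eq.trans (congrArg _ ?_) (map_zero _)
      have e'' := (congrArg (tr.{0, u} E (toAug.map (SimplexCategory.δ (1 : Fin 2)).op)
        (le_rfl : V' ≤ _)) e').trans (map_zero _)
      rw [tr_tr] at e''
      refine Eq.trans ?_ e''
      exact (tr_tr.{0, u} (A := E) _ _ _ _ d).trans
        (tr_congr.{0, u} ((Category.id_comp _).trans (Category.comp_id _).symm) _ _ d)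
    rw [← (mem_eqz A).1 hd] at q
    refine Eq.trans ?_ q
    refine Eq.trans ?_ (gm_res.{0, u} (A := E) w (V := pre U₂ (toAug.obj (op ⦋1⦌))) h0'.le hz' _)
    refine congrArg _ ?_
    refine Eq.trans ?_ (tr_tr.{0, u} (A := E) _ _ _ _ d).symm
    exact tr_congr.{0, u} (Category.id_comp _).symm _ _ d
  let N : Set (Y.obj X₀) := {z | ∃ hz : z ∈ pre U₂ X₀, gm.{0, u} E z hz d = 0}
  have hN : IsOpen N := by
    rw [isOpen_iff_forall_mem_open]
    rintro z ⟨hz, h0⟩
    obtain ⟨V, h₁, h₂, hV, e'⟩ := gm_eq.{0, u} hz hz d 0 (h0.trans (map_zero _).symm)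
    rw [map_zero] at e'
    refine ⟨V, fun b hb => ⟨h₁ hb, ?_⟩, V.isOpen, hV⟩
    refine (gm_res.{0, u} (A := E) b h₁ hb d).symm.trans ((congrArg _ e').trans (map_zero _))
  have hNsat : Y.map (th X₀) ⁻¹' (Y.map (th X₀) '' N) = N := by
    refine Set.Subset.antisymm ?_ (Set.subset_preimage_image _ _)
    rintro z' ⟨z, ⟨hz, h0⟩, e⟩
    have hz' : z' ∈ pre U₂ X₀ := by
      show Y.map (th X₀) z' ∈ U₂
      rw [← e]
      exact hz
    exact ⟨hz', hsat z z' hz hz' e h0⟩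
  let V : Opens (Y.obj pnt) := ⟨Y.map (th X₀) '' N, hq.isOpen_preimage.1 (by rw [hNsat]; exact hN)⟩
  have hVU : V ≤ U₂ := by
    rintro _ ⟨z, ⟨hz, -⟩, rfl⟩
    exact hz
  have hxU₂ : x ∈ pre U₂ X₀ := ⟨hU₁, hxU⟩
  refine ⟨V, hVU.trans inf_le_right, ⟨x, ⟨hxU₂, ?_⟩, hx⟩,
    (G.obj.map (homOfLE (hVU.trans inf_le_left)).op).hom s, νP_injective A V ?_⟩
  · refine (map_sub _ _ _).trans (sub_eq_zero.2 ?_)
    exact (gm_res.{0, u} (A := E) x (pre_mono (inf_le_left : U₂ ≤ U₁) X₀) hxU₂ _).trans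
      (ha.trans (gm_res.{0, u} (A := E) x (pre_mono (inf_le_right : U₂ ≤ U) X₀) hxU₂ _).symm)
  · refine (νP_comp V _).trans ((pl_res.{0, u} η _ (hVU.trans inf_le_left) s).trans ?_)
    refine Eq.trans ?_ (νP_res A (hVU.trans inf_le_right) p).symm
    refine sec_ext.{0, u} (A := E) (i := X₀) _ _ fun z hz => ?_
    have hz'' : z ∈ Y.map (th X₀) ⁻¹' (Y.map (th X₀) '' N) := hz
    rw [hNsat] at hz''
    obtain ⟨hzU, hz'⟩ := hz''
    replace hz' := sub_eq_zero.1 ((map_sub _ _ _).symm.trans hz')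
    replace hz' := (gm_res.{0, u} (A := E) z (pre_mono (inf_le_left : U₂ ≤ U₁) X₀) hzU _).symm.trans
      (hz'.trans (gm_res.{0, u} (A := E) z (pre_mono (inf_le_right : U₂ ≤ U) X₀) hzU _))
    exact (gm_res.{0, u} (A := E) z (pre_mono (hVU.trans inf_le_left) X₀) hz _).trans
      (hz'.trans (gm_res.{0, u} (A := E) z (pre_mono (hVU.trans inf_le_right) X₀) hz _).symm)

omit hη

/-- For an augmentation by a quotient map with all pairs of points over the same point coming from the first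
space, the unit is an isomorphism. -/
theorem isIso_adjA_unit (hq : IsQuotientMap (Y.map (th (toAug.obj (op ⦋0⦌)))))
    (hpair : ∀ x x' : Y.obj (toAug.obj (op ⦋0⦌)), Y.map (th _) x = Y.map (th _) x' →
      ∃ w : Y.obj (toAug.obj (op ⦋1⦌)), Y.map (toAug.map (SimplexCategory.δ (1 : Fin 2)).op) w = x ∧
        Y.map (toAug.map (SimplexCategory.δ (0 : Fin 2)).op) w = x')
    (G : CohTop.Ab (Y.obj pnt)) : IsIso ((adjA Y).unit.app G) := by
  haveI := mono_comp_theta (isCart_extAdj Y G) hq.surjective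
  haveI := epi_comp_theta (isCart_extAdj Y G) hq hpair
  haveI := isIso_of_mono_of_epi ((extAdj Y).unit.app G ≫ (theta Y).app ((extA Y).obj G))
  have e := adjA_unit_app Y G
  haveI : IsIso ((adjA Y).unit.app G ≫ (pushA Y).map ((pullAIso Y).inv.app G)) := by
    rw [e]
    infer_instance
  exact IsIso.of_isIso_comp_right _ ((pushA Y).map ((pullAIso Y).inv.app G))

end Groth.Agent.FibDesc74
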